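import Cfsg.Agent.Lib.Char.Palfy.Basic
import Mathlib.RingTheory.LittleWedderburn
import Mathlib.GroupTheory.Commutator.Basic
import Mathlib.Algebra.Ring.Subring.Basic

/-!
# Normal subgroups centralised by all Sylow subgroups are abelian
-/

set_option linter.style.haveILetI false
set_option linter.unusedSectionVars false

namespace Cfsg.Agent.Char.Palfy

universe u v

variable {L : Type u} [Group L] [Finite L] {V : Type v} [CommGroup V] [Finite V]
  [MulDistribMulAction L V] {l : ℕ}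

open scoped commutatorElement

/-- A normal subgroup centralised by every Sylow `q`-subgroup is abelian. -/
theorem commute_of_centralized (c : Ctx L V l) {q : ℕ} [Fact q.Prime] (hu : UniqSylow q L V)
    (hq : q ∣ Nat.card L) (X : Subgroup L) [hX : X.Normal]
    (hcent : ∀ S : Sylow q L, ∀ g ∈ (S : Subgroup L), ∀ x ∈ X, g * x = x * g) :
    ∀ x ∈ X, ∀ y ∈ X, x * y = y * x := by
  classical
  obtain ⟨v₁, hv₁⟩ := c.nontriv
  obtain ⟨S₁, hS₁⟩ := hu.exists_fix hv₁
  have hinvC : ∀ (S : Sylow q L), ∀ x ∈ X, ∀ v ∈ fixV (S : Subgroup L) V, x • v ∈ fixV (S : Subgroup L) V :=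
    fun S x hx v hv g hg => by rw [← mul_smul, hcent S g hg x hx, mul_smul, hv g hg]
  -- a second Sylow subgroup
  obtain ⟨w', hw'1, S₂, hS₂, hne⟩ : ∃ w : V, w ≠ 1 ∧ ∃ S : Sylow q L, w ∈ fixV (S : Subgroup L) V ∧ S ≠ S₁ := by
    by_contra hall
    push Not at hall
    have hS : ∀ g ∈ (S₁ : Subgroup L), g = 1 := fun g hg => c.faithful g fun w => by
      rcases eq_or_ne w 1 with rfl | hw
      · exact smul_one g
      · obtain ⟨S, hS⟩ := hu.exists_fix hw
        exact (hall w hw S hS ▸ hS : w ∈ fixV (S₁ : Subgroup L) V) g hg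
    exact S₁.ne_bot_of_dvd_card hq ((Subgroup.eq_bot_iff_forall _).2 hS)
  set C₁ := fixV (S₁ : Subgroup L) V
  -- a minimal invariant subgroup
  let Inv : Subgroup V → Prop := fun W => W ≤ C₁ ∧ W ≠ ⊥ ∧ ∀ x ∈ X, ∀ v ∈ W, x • v ∈ W
  obtain ⟨W, -, hWmin⟩ := Finite.exists_le_minimal (p := Inv) (a := C₁)
    ⟨le_rfl, fun e => hv₁ (Subgroup.mem_bot.1 ((show C₁ = ⊥ from e) ▸ hS₁)), hinvC S₁⟩
  obtain ⟨hW₁, hWne, hWX⟩ := hWmin.prop
  have hmin : ∀ W' : Subgroup V, W' ≤ W → W' ≠ ⊥ → (∀ x ∈ X, ∀ v ∈ W', x • v ∈ W') → W' = W :=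
    fun W' hle hne' hinv => le_antisymm hle (hWmin.le_of_le ⟨hle.trans hW₁, hne', hinv⟩ hle)
  -- equivariant maps
  have hpsi : ∀ w : W, w ≠ 1 → ∀ b : V, b ≠ 1 → b ∈ fixV (S₂ : Subgroup L) V →
      ∃ ψ : W →* V, Function.Injective ψ ∧ ψ w = b ∧ (∀ a, ψ a ∈ fixV (S₂ : Subgroup L) V) ∧
        ∀ (x : L) (hx : x ∈ X) (a : W), ψ ⟨x • (a : V), hWX x hx a a.2⟩ = x • ψ a := by
    intro w hw b hb hbS
    have hw1 : (w : V) ≠ 1 := fun e => hw (Subtype.ext e)
    have hwb : (w : V) * b ≠ 1 := fun e => hne (hu.eq_of_fix hb hbS (by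
      rw [show b = (w : V)⁻¹ from eq_inv_of_mul_eq_one_right e]; exact inv_mem (hW₁ w.2)))
    obtain ⟨S₃, hS₃⟩ := hu.exists_fix hwb
    have h31 : S₃ ≠ S₁ := fun e => hne (hu.eq_of_fix hb hbS (by
      have := C₁.mul_mem (inv_mem (hW₁ w.2)) (show (w : V) * b ∈ C₁ from (congrArg (fun S : Sylow q L => fixV (S : Subgroup L) V) e).le hS₃)
      rwa [inv_mul_cancel_left] at this))
    have h32 : S₃ ≠ S₂ := fun e => hne (Eq.symm (hu.eq_of_fix hw1 (hW₁ w.2) (by
      have := (fixV (S₂ : Subgroup L) V).mul_mem (show (w : V) * b ∈ _ from e ▸ hS₃) (inv_mem hbS)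
      rwa [mul_inv_cancel_right] at this)))
    let Δ : Subgroup V :=
      { carrier := {a | a ∈ W ∧ ∃ b ∈ fixV (S₂ : Subgroup L) V, a * b ∈ fixV (S₃ : Subgroup L) V}
        mul_mem' := by
          rintro a a' ⟨ha, b, hb, hab⟩ ⟨ha', b', hb', hab'⟩
          exact ⟨mul_mem ha ha', b * b', mul_mem hb hb', by rw [mul_mul_mul_comm]; exact mul_mem hab hab'⟩
        one_mem' := ⟨one_mem _, 1, one_mem _, by rw [one_mul]; exact one_mem _⟩
        inv_mem' := by
          rintro a ⟨ha, b, hb, hab⟩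
          exact ⟨inv_mem ha, b⁻¹, inv_mem hb, by rw [← mul_inv]; exact inv_mem hab⟩ }
    have hΔ : Δ = W := hmin Δ (fun a ha => ha.1)
      (fun e => hw1 (Subgroup.mem_bot.1 (e ▸ (⟨w.2, b, hbS, hS₃⟩ : (w : V) ∈ Δ))))
      (fun x hx a ⟨ha, b', hb', hab⟩ => ⟨hWX x hx a ha, x • b', hinvC S₂ x hx b' hb',
        by rw [← smul_mul']; exact hinvC S₃ x hx _ hab⟩)
    have huniq : ∀ {a b₁ b₂ : V}, b₁ ∈ fixV (S₂ : Subgroup L) V → b₂ ∈ fixV (S₂ : Subgroup L) V →
        a * b₁ ∈ fixV (S₃ : Subgroup L) V → a * b₂ ∈ fixV (S₃ : Subgroup L) V → b₁ = b₂ := by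
      intro a b₁ b₂ h1 h2 h3 h4
      by_contra hne'
      have h5 := (fixV (S₃ : Subgroup L) V).div_mem h3 h4
      rw [mul_div_mul_left_eq_div] at h5
      exact h32 (hu.eq_of_fix (fun e => hne' (div_eq_one.1 e)) h5
        ((fixV (S₂ : Subgroup L) V).div_mem h1 h2))
    choose f hf hf' using fun a : W => ((hΔ.ge a.2) : (a : V) ∈ Δ).2
    refine ⟨MonoidHom.mk' f fun a a' => huniq (hf _) (mul_mem (hf a) (hf a')) (hf' _) (by
      rw [Subgroup.coe_mul, mul_mul_mul_comm]; exact mul_mem (hf' a) (hf' a')), ?_, ?_, hf, fun x hx a => ?_⟩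
    · rw [injective_iff_map_eq_one]
      intro a (ha : f a = 1)
      by_contra ha1
      have h5 := hf' a
      rw [ha, mul_one] at h5
      exact h31 (hu.eq_of_fix (fun e => ha1 (Subtype.ext e)) h5 (hW₁ a.2))
    · exact huniq (hf w) hbS (hf' w) hS₃
    · exact huniq (hf _) (hinvC S₂ x hx _ (hf a)) (hf' _)
        (by rw [← smul_mul']; exact hinvC S₃ x hx _ (hf' a))
  obtain ⟨w₀, hw₀⟩ := W.ne_bot_iff_exists_ne_one.1 hWne
  obtain ⟨ψ₀, hψ₀i, hψ₀w, hψ₀C, hψ₀X⟩ := hpsi w₀ hw₀ w' hw'1 hS₂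
  -- equivariant endomorphisms are transitive
  let act : X → AddMonoid.End (Additive W) := fun x =>
    { toFun := fun a => Additive.ofMul ⟨(x : L) • (a.toMul : V), hWX x x.2 _ a.toMul.2⟩
      map_zero' := by
        apply Additive.toMul.injective; apply Subtype.ext; exact smul_one _
      map_add' := fun a b => by
        apply Additive.toMul.injective; apply Subtype.ext; exact smul_mul' _ _ _ }
  let E : Subring (AddMonoid.End (Additive W)) := Subring.centralizer (Set.range act)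
  have htrans : ∀ w a : W, w ≠ 1 → a ≠ 1 → ∃ e ∈ E, e (Additive.ofMul w) = Additive.ofMul a := by
    intro w a hw ha
    obtain ⟨ψ, -, hψw, hψC, hψX⟩ := hpsi w hw (ψ₀ a) (fun e => ha (hψ₀i (e.trans (map_one ψ₀).symm))) (hψ₀C a)
    let Δ' : Subgroup V := (ψ₀.range.comap ψ).map W.subtype
    have hΔ : Δ' = W := hmin Δ' (Subgroup.map_subtype_le _)
      (fun e => hw (Subtype.ext (Subgroup.mem_bot.1 (e ▸ (Subgroup.mem_map_of_mem W.subtype
        (show w ∈ ψ₀.range.comap ψ from ⟨a, hψw.symm⟩) : (w : V) ∈ Δ'))))) (by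
        rintro x hx _ ⟨u, ⟨t, ht⟩, rfl⟩
        exact ⟨⟨x • (u : V), hWX x hx u u.2⟩, ⟨⟨x • (t : V), hWX x hx t t.2⟩, by
          rw [hψ₀X x hx t, hψX x hx u, ht]⟩, rfl⟩)
    have hr : ∀ u : W, ∃ t : W, ψ₀ t = ψ u := fun u => by
      obtain ⟨u', hu', e⟩ := (hΔ.ge u.2 : (u : V) ∈ Δ')
      rw [show u' = u from Subtype.ext e] at hu'
      exact hu'
    choose t ht using hr
    let e : W →* W := MonoidHom.mk' t fun u u' => hψ₀i (by rw [ht, map_mul, map_mul, ht, ht])
    refine ⟨MonoidHom.toAdditive e, Subring.mem_centralizer_iff.2 ?_, ?_⟩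
    · rintro _ ⟨x, rfl⟩
      refine AddMonoidHom.ext fun u => ?_
      apply Additive.toMul.injective
      apply hψ₀i
      show ψ₀ ⟨(x : L) • ((t u.toMul : W) : V), _⟩ = ψ₀ (t ⟨(x : L) • (u.toMul : V), _⟩)
      rw [ht, hψ₀X x x.2, ht, hψX x x.2]
    · apply Additive.toMul.injective
      exact hψ₀i ((ht w).trans hψw)
  have hcent' : ∀ e ∈ E, ∀ (x : X) (u : Additive W), e (act x u) = act x (e u) := fun e he x u =>
    (DFunLike.congr_fun (Subring.mem_centralizer_iff.1 he (act x) ⟨x, rfl⟩) u).symm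
  haveI : Finite (AddMonoid.End (Additive W)) :=
    Finite.of_injective (fun f => (f : Additive W → Additive W)) DFunLike.coe_injective
  haveI : Nontrivial E := ⟨⟨1, 0, fun h => hw₀ (by
    have := DFunLike.congr_fun (congrArg Subtype.val h) (Additive.ofMul w₀)
    exact congrArg Additive.toMul this)⟩⟩
  haveI : NoZeroDivisors E := ⟨fun {f g} hfg => by
    have key : ∀ e : E, e ≠ 0 → Function.Injective (e : AddMonoid.End (Additive W)) := by
      intro e he
      rw [injective_iff_map_eq_zero]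
      intro u hu
      let Ker : Subgroup V := (MonoidHom.toAdditive.symm (e : AddMonoid.End (Additive W))).ker.map W.subtype
      by_contra hu0
      have hK : Ker = W := hmin Ker (Subgroup.map_subtype_le _)
        (fun eK => hu0 (Additive.toMul.injective (Subtype.ext (Subgroup.mem_bot.1 (eK ▸
          (Subgroup.mem_map_of_mem W.subtype (show u.toMul ∈ (MonoidHom.toAdditive.symm
            (e : AddMonoid.End (Additive W))).ker from congrArg Additive.toMul hu)
            : ((u.toMul : W) : V) ∈ Ker)))))) (by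
          rintro x hx _ ⟨k, hk, rfl⟩
          refine ⟨⟨x • (k : V), hWX x hx k k.2⟩, ?_, rfl⟩
          have h1 := hcent' e e.2 ⟨x, hx⟩ (Additive.ofMul k)
          rw [show (e : AddMonoid.End (Additive W)) (Additive.ofMul k) = 0 from
            Additive.toMul.injective hk, map_zero] at h1
          exact congrArg Additive.toMul h1)
      refine he (Subtype.ext (AddMonoidHom.ext fun u => ?_))
      obtain ⟨k, hk, ek⟩ := (hK.ge u.toMul.2 : ((u.toMul : W) : V) ∈ Ker)
      rw [show k = u.toMul from Subtype.ext ek] at hk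
      exact Additive.toMul.injective hk
    by_contra hh
    push Not at hh
    refine hh.2 (Subtype.ext (AddMonoidHom.ext fun u => key f hh.1 ?_))
    exact (DFunLike.congr_fun (congrArg Subtype.val hfg) u).trans (map_zero _).symm⟩
  haveI : IsDomain E := NoZeroDivisors.to_isDomain E
  have hEcomm : ∀ e f : E, e * f = f * e := (Finite.isDomain_to_isField E).mul_comm
  -- the derived subgroup fixes the minimal subgroup
  have hXfix : ∀ x : X, ∀ y : X, ((x : L) * y) • (w₀ : V) = ((y : L) * x) • (w₀ : V) := by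
    intro x y
    have hne' : ∀ z : X, (⟨(z : L) • (w₀ : V), hWX z z.2 _ w₀.2⟩ : W) ≠ 1 := fun z e => hw₀ (Subtype.ext (by
      have h1 : (z : L) • (w₀ : V) = 1 := congrArg Subtype.val e
      simpa using congrArg ((z : L)⁻¹ • ·) h1))
    obtain ⟨ex, hex, hexw⟩ := htrans w₀ _ hw₀ (hne' x)
    obtain ⟨ey, hey, heyw⟩ := htrans w₀ _ hw₀ (hne' y)
    have h1 := hcent' ey hey x (Additive.ofMul w₀)
    have h2 := hcent' ex hex y (Additive.ofMul w₀)
    rw [heyw, show act x (Additive.ofMul w₀) = ex (Additive.ofMul w₀) from hexw.symm] at h1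
    rw [hexw, show act y (Additive.ofMul w₀) = ey (Additive.ofMul w₀) from heyw.symm] at h2
    have h3 := congrArg (fun e : E => (e : AddMonoid.End (Additive W)) (Additive.ofMul w₀))
      (hEcomm ⟨ey, hey⟩ ⟨ex, hex⟩)
    have h4 : act x (Additive.ofMul (⟨(y : L) • (w₀ : V), hWX y y.2 _ w₀.2⟩ : W)) =
        act y (Additive.ofMul (⟨(x : L) • (w₀ : V), hWX x x.2 _ w₀.2⟩ : W)) := h1.symm.trans (h3.trans h2)
    have h5 : (x : L) • (y : L) • (w₀ : V) = (y : L) • (x : L) • (w₀ : V) :=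
      congrArg (fun u : Additive W => (u.toMul : V)) h4
    rw [mul_smul, mul_smul]; exact h5
  have hbot : ⁅X, X⁆ = ⊥ := by
    refine c.fixed_normal (v := (w₀ : V)) (fun e => hw₀ (Subtype.ext e)) ?_
    have : ⁅X, X⁆ ≤ MulAction.stabilizer L (w₀ : V) := by
      rw [Subgroup.commutator_le]
      intro x hx y hy
      rw [MulAction.mem_stabilizer_iff]
      have h := hXfix ⟨x, hx⟩ ⟨y * x⁻¹ * y⁻¹, hX.conj_mem _ (inv_mem hx) y⟩
      have h' := hXfix ⟨x⁻¹, inv_mem hx⟩ ⟨y⁻¹, inv_mem hy⟩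
      simp only at h h'
      calc ⁅x, y⁆ • (w₀ : V) = x • y • (x⁻¹ * y⁻¹) • (w₀ : V) := by
            rw [commutatorElement_def]; simp only [mul_smul]
        _ = x • y • (y⁻¹ * x⁻¹) • (w₀ : V) := by rw [h']
        _ = (w₀ : V) := by simp only [← mul_smul]; group; simp
    exact fun g hg => this hg
  intro x hx y hy
  exact commutatorElement_eq_one_iff_mul_comm.1
    (Subgroup.mem_bot.1 (hbot ▸ Subgroup.commutator_mem_commutator hx hy))

end Cfsg.Agent.Char.Palfy
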