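import Cfsg.Agent.Lib.Char.Palfy.Core
import Cfsg.Agent.Lib.Char.Palfy.Central
import Cfsg.Agent.Lib.Fusion.Cores

/-!
# Two primes with unique fixing Sylow subgroups

In a solvable irreducible linear group in which every non-trivial vector is fixed by exactly one
Sylow `q`-subgroup and exactly one Sylow `r`-subgroup there is a normal cyclic subgroup which
neither a Sylow `q`-subgroup nor a Sylow `r`-subgroup centralises.
-/

set_option linter.style.haveILetI false
set_option linter.unusedSectionVars false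

namespace Cfsg.Agent.Char.Palfy

universe u v

variable {L : Type u} [Group L] [Finite L] {V : Type v} [CommGroup V] [Finite V]
  [MulDistribMulAction L V] {l : ℕ}

/-- The elements of order dividing `s` in the centre of a normal subgroup. -/
def centreOmega (s : ℕ) (X : Subgroup L) : Subgroup L where
  carrier := {z | z ∈ X ∧ (∀ x ∈ X, z * x = x * z) ∧ z ^ s = 1}
  mul_mem' := by
    rintro a b ⟨ha, ha', hae⟩ ⟨hb, hb', hbe⟩
    refine ⟨mul_mem ha hb, fun x hx => ?_, ?_⟩
    · rw [mul_assoc, hb' x hx, ← mul_assoc, ha' x hx, mul_assoc]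
    · rw [(show Commute a b from ha' b hb).mul_pow, hae, hbe, one_mul]
  one_mem' := ⟨one_mem _, fun x _ => by rw [one_mul, mul_one], one_pow _⟩
  inv_mem' := by
    rintro a ⟨ha, ha', hae⟩
    exact ⟨inv_mem ha, fun x hx => (show Commute a x from ha' x hx).inv_left.eq,
      by rw [inv_pow, hae, inv_one]⟩

instance centreOmega_normal (s : ℕ) (X : Subgroup L) [hX : X.Normal] : (centreOmega s X).Normal where
  conj_mem z hz g := by
    obtain ⟨h1, h2, h3⟩ := hz
    refine ⟨hX.conj_mem z h1 g, fun x hx => ?_, by rw [conj_pow, h3, mul_one, mul_inv_cancel]⟩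
    have := h2 (g⁻¹ * x * g) (by simpa using hX.conj_mem x hx g⁻¹)
    calc g * z * g⁻¹ * x = g * (z * (g⁻¹ * x * g)) * g⁻¹ := by group
      _ = g * (g⁻¹ * x * g * z) * g⁻¹ := by rw [this]
      _ = x * (g * z * g⁻¹) := by group

theorem centreOmega_le (s : ℕ) (X : Subgroup L) : centreOmega s X ≤ X := fun _ h => h.1

theorem centreOmega_abelian (s : ℕ) (X : Subgroup L) :
    ∀ a ∈ centreOmega s X, ∀ b ∈ centreOmega s X, a * b = b * a := fun _ ha b hb => ha.2.1 b hb.1

/-- The centre of a core is cyclic on its elements of prime order. -/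
theorem centreOmega_cyclic (c : Ctx L V l) {p : ℕ} [Fact p.Prime] (hp2 : p ≠ 2) (hup : UniqSylow p L V)
    (hp : p ∣ Nat.card L) {s : ℕ} [hs : Fact s.Prime] (hsl : s ≠ l) (X : Subgroup L) [X.Normal]
    (hXs : IsPGroup s X) (hX1 : X ≠ ⊥) :
    ∃ z ∈ centreOmega s X, z ≠ 1 ∧ centreOmega s X = Subgroup.zpowers z := by
  classical
  haveI : Nontrivial X := (Subgroup.nontrivial_iff_ne_bot X).2 hX1
  haveI : Nontrivial (Subgroup.center X) := hXs.center_nontrivial
  obtain ⟨z₀, hz₀⟩ : ∃ z : Subgroup.center X, orderOf z = s := by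
    refine exists_prime_orderOf_dvd_card' s ?_
    obtain ⟨k, hk, e⟩ := IsPGroup.nontrivial_iff_card (hXs.to_subgroup (Subgroup.center X)) |>.1 inferInstance
    rw [e]; exact dvd_pow_self _ (by omega)
  have hz : ((z₀ : X) : L) ∈ centreOmega s X := ⟨(z₀ : X).2, fun x hx =>
    congrArg Subtype.val ((Subgroup.mem_center_iff.1 z₀.2 ⟨x, hx⟩).symm), by
      rw [← Subgroup.coe_pow, ← Subgroup.coe_pow, ← hz₀, pow_orderOf_eq_one]; rfl⟩
  have hz1 : ((z₀ : X) : L) ≠ 1 := fun e => hs.out.ne_one (by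
    rw [← hz₀, orderOf_eq_one_iff]; exact Subtype.ext (Subtype.ext e))
  refine ⟨_, hz, hz1, le_antisymm (fun y hy => ?_) (Subgroup.zpowers_le.2 hz)⟩
  set E := centreOmega s X with hE
  have hcoE : (Nat.card E).Coprime l := by
    obtain ⟨k, hk⟩ := IsPGroup.iff_card.1 (hXs.to_le (centreOmega_le s X))
    rw [hk]
    exact Nat.Coprime.pow_left k ((Nat.coprime_primes hs.out c.hl).2 hsl)
  have h := mem_zpowers_of_fpf (H := E) (W := V) (x := (⟨_, hz⟩ : E)) (y := ⟨y, hy⟩) (fun w hw => c.pow_injective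
      ((Nat.coprime_primes hs.out c.hl).2 hsl) (by simpa using hw)) c.nontriv
    (Subtype.ext (hz.2.1 y hy.1)) (Subtype.ext hz.2.2) (Subtype.ext hy.2.2)
    (fun g _ hg1 w hw => fpf_abelian c hup hp2 hp E (centreOmega_abelian s X) hcoE g.2
      (fun e => hg1 (Subtype.ext e)) hw) (fun e => hz1 (congrArg Subtype.val e))
  obtain ⟨j, hj⟩ := h
  exact ⟨j, congrArg Subtype.val hj⟩

/-- Moving: no Sylow `q`-subgroup centralises the subgroup. -/
def Moves (q : ℕ) (H : Subgroup L) : Prop := q ∣ (Subgroup.centralizer (H : Set L)).index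

theorem cases_core (c : Ctx L V l) {p : ℕ} [Fact p.Prime] (hp2 : p ≠ 2) (hup : UniqSylow p L V)
    (hp : p ∣ Nat.card L) {q r : ℕ} [hq : Fact q.Prime] [hr : Fact r.Prime] (hqr : q ≠ r)
    (huq : UniqSylow q L V) (hqd : q ∣ Nat.card L) (hur : UniqSylow r L V) (hrd : r ∣ Nat.card L)
    {s : ℕ} [hs : Fact s.Prime] (X : Subgroup L) [hX : X.Normal] (hXs : IsPGroup s X) (hX1 : X ≠ ⊥) :
    (Moves q (centreOmega s X) ∧ Moves r (centreOmega s X)) ∨
    ((∀ x ∈ X, ∀ y ∈ X, x * y = y * x) ∧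
      (¬ Moves q (centreOmega s X) → ∀ S : Sylow q L, ∀ g ∈ (S : Subgroup L), ∀ x ∈ X, g * x = x * g) ∧
      (¬ Moves r (centreOmega s X) → ∀ S : Sylow r L, ∀ g ∈ (S : Subgroup L), ∀ x ∈ X, g * x = x * g)) := by
  classical
  have hsl : s ≠ l := by rintro rfl; exact hX1 (c.char_core hXs)
  have hsq : s ≠ q := by rintro rfl; exact hX1 (c.pCore_trivial huq hXs)
  have hsr : s ≠ r := by rintro rfl; exact hX1 (c.pCore_trivial hur hXs)
  set Z := centreOmega s X with hZ
  haveI : (Subgroup.centralizer (Z : Set L)).Normal := Subgroup.normal_centralizer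
  have key : ∀ {t : ℕ} [Fact t.Prime], UniqSylow t L V → s ≠ t →
      (s ≠ 2 ∨ t ≠ 3 ∨ ∀ x ∈ X, ∀ y ∈ X, x * y = y * x) → ¬ Moves t Z →
      ∀ S : Sylow t L, ∀ g ∈ (S : Subgroup L), ∀ x ∈ X, g * x = x * g := fun hu hst hcond hm =>
    centralizes_core c hp2 hup hp hu hsl hst X hXs hX1 (fun S g hg z hzX hzc hzs =>
      (Subgroup.mem_centralizer_iff.1 (sylow_le_of_not_dvd_index _ hm S hg) z ⟨hzX, hzc, hzs⟩).symm) hcond
  by_cases hab : ∀ x ∈ X, ∀ y ∈ X, x * y = y * x
  · exact Or.inr ⟨hab, key huq hsq (Or.inr (Or.inr hab)), key hur hsr (Or.inr (Or.inr hab))⟩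
  have bad : ∀ {t : ℕ} [Fact t.Prime], UniqSylow t L V → t ∣ Nat.card L → s ≠ t →
      (s ≠ 2 ∨ t ≠ 3) → Moves t Z := fun hu htd hst hcond => by
    by_contra hm
    exact hab (commute_of_centralized c hu htd X
      (key hu hst (hcond.elim Or.inl fun h => Or.inr (Or.inl h)) hm))
  rcases eq_or_ne s 2 with rfl | hs2
  · exfalso
    obtain ⟨z, hz, hz1, hZz⟩ := centreOmega_cyclic c hp2 hup hp (s := 2) hsl X hXs hX1
    have hcen : Subgroup.centralizer (Z : Set L) = ⊤ := by
      refine eq_top_iff.2 fun g _ => Subgroup.mem_centralizer_iff.2 fun x hx => ?_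
      have hx' : x = 1 ∨ x = z := by
        obtain ⟨j, hj⟩ := (hZ ▸ hZz).le hx
        simp only at hj
        rcases Int.even_or_odd j with ⟨m, hm⟩ | ⟨m, hm⟩
        · left
          rw [← hj, hm, ← two_mul, zpow_mul, show z ^ (2 : ℤ) = 1 by exact_mod_cast hz.2.2, one_zpow]
        · right
          rw [← hj, hm, zpow_add, zpow_mul, show z ^ (2 : ℤ) = 1 by exact_mod_cast hz.2.2, one_zpow,
            one_mul, zpow_one]
      rcases hx' with rfl | rfl
      · rw [one_mul, mul_one]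
      · have h1 := (centreOmega_normal 2 X).conj_mem x hz g
        obtain ⟨j, hj⟩ := (hZ ▸ hZz).le h1
        simp only at hj
        rcases Int.even_or_odd j with ⟨m, hm⟩ | ⟨m, hm⟩
        · exact absurd (conj_eq_one_iff.1 (by
            rw [← hj, hm, ← two_mul, zpow_mul, show x ^ (2 : ℤ) = 1 by exact_mod_cast hz.2.2, one_zpow])) hz1
        · rw [hm, zpow_add, zpow_mul, show x ^ (2 : ℤ) = 1 by exact_mod_cast hz.2.2, one_zpow,
            one_mul, zpow_one] at hj
          exact (mul_inv_eq_iff_eq_mul.1 hj.symm).symm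
    have nomove : ∀ {t : ℕ} [Fact t.Prime], ¬ Moves t Z := fun {t} ht h => by
      unfold Moves at h
      rw [hcen, Subgroup.index_top, Nat.dvd_one] at h
      exact (Fact.out : t.Prime).ne_one h
    by_cases h3 : q = 3
    · exact nomove (bad hur hrd hsr (Or.inr fun h => hqr (h3.trans h.symm)))
    · exact nomove (bad huq hqd hsq (Or.inr h3))
  · exact Or.inl ⟨bad huq hqd hsq (Or.inl hs2), bad hur hrd hsr (Or.inl hs2)⟩

/-- The main statement on linear groups. -/
theorem exists_cyclic_moved (hsolv : Group.IsSolvable L) (c : Ctx L V l) {q r : ℕ} [hq : Fact q.Prime]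
    [hr : Fact r.Prime] (hqr : q ≠ r) (huq : UniqSylow q L V) (hqd : q ∣ Nat.card L)
    (hur : UniqSylow r L V) (hrd : r ∣ Nat.card L) :
    ∃ A : Subgroup L, A.Normal ∧ IsCyclic A ∧ Moves q A ∧ Moves r A := by
  classical
  obtain ⟨p, hpF, hp2, hup, hp⟩ : ∃ p, Fact p.Prime ∧ p ≠ 2 ∧ UniqSylow p L V ∧ p ∣ Nat.card L := by
    rcases eq_or_ne q 2 with h | h
    · exact ⟨r, hr, fun e => hqr (h.trans e.symm), hur, hrd⟩
    · exact ⟨q, hq, h, huq, hqd⟩
  haveI := hpF
  by_contra hno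
  push Not at hno
  have hcore : ∀ s : Nat.Primes, Cfsg.pCore (s : ℕ) L ≠ ⊥ → _ := fun s hne => by
    haveI := Fact.mk s.2
    haveI : (Cfsg.pCore (s : ℕ) L).Normal := Solv.pCore_normal _
    exact cases_core c hp2 hup hp hqr huq hqd hur hrd (Cfsg.pCore (s : ℕ) L) (Solv.pCore_isPGroup _) hne
  have hcyc : ∀ s : Nat.Primes, Cfsg.pCore (s : ℕ) L ≠ ⊥ →
      IsCyclic (centreOmega (s : ℕ) (Cfsg.pCore (s : ℕ) L)) := fun s hne => by
    haveI := Fact.mk s.2
    haveI : (Cfsg.pCore (s : ℕ) L).Normal := Solv.pCore_normal _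
    obtain ⟨z, -, -, e⟩ := centreOmega_cyclic c hp2 hup hp
      (fun hsl => hne (c.char_core (hsl ▸ Solv.pCore_isPGroup (G := L) (s : ℕ)))) _ (Solv.pCore_isPGroup _) hne
    rw [e]; infer_instance
  -- every core is abelian
  have hab : ∀ s : Nat.Primes, Cfsg.pCore (s : ℕ) L ≠ ⊥ → ∀ {t : ℕ}, (t = q ∨ t = r) →
      ¬ Moves t (centreOmega (s : ℕ) (Cfsg.pCore (s : ℕ) L)) → ∀ S : Sylow t L, ∀ g ∈ (S : Subgroup L),
        ∀ x ∈ Cfsg.pCore (s : ℕ) L, g * x = x * g := by
    intro s hne t ht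
    haveI : (Cfsg.pCore (s : ℕ) L).Normal := Solv.pCore_normal _
    rcases hcore s hne with ⟨h1, h2⟩ | ⟨-, h1, h2⟩
    · exact absurd h2 (hno _ inferInstance (hcyc s hne) h1)
    · rcases ht with rfl | rfl
      · exact h1
      · exact h2
  -- some core is moved
  have move : ∀ {t : ℕ} [Fact t.Prime], (t = q ∨ t = r) → UniqSylow t L V → t ∣ Nat.card L →
      ∃ s : Nat.Primes, Cfsg.pCore (s : ℕ) L ≠ ⊥ ∧ Moves t (centreOmega (s : ℕ) (Cfsg.pCore (s : ℕ) L)) := by
    intro t _ ht hu htd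
    by_contra hall
    push Not at hall
    have hle : ∀ S : Sylow t L, (S : Subgroup L) ≤ Subgroup.centralizer (Cfsg.fittingSubgroup L : Set L) := by
      intro S
      rw [Subgroup.le_centralizer_iff, Solv.fitting_eq_iSup_pCore]
      refine iSup_le fun s x hx => Subgroup.mem_centralizer_iff.2 fun g hg => ?_
      by_cases hne : Cfsg.pCore (s : ℕ) L = ⊥
      · rw [hne, Subgroup.mem_bot] at hx
        subst hx; rw [mul_one, one_mul]
      · exact hab s hne ht (hall s hne) S g hg x hx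
    obtain ⟨S⟩ : Nonempty (Sylow t L) := inferInstance
    refine c.not_normal hu htd S (Subgroup.normalizer_eq_top_iff.1 (eq_top_iff.2 fun g _ => ?_))
    refine Sylow.smul_eq_iff_mem_normalizer.1 ?_
    have hcomm : ∀ a ∈ ((g • S : Sylow t L) : Subgroup L), ∀ b ∈ (S : Subgroup L), a * b = b * a := fun a ha b hb =>
      (Subgroup.mem_centralizer_iff.1 (hle (g • S) ha) b (Solv.centralizer_fitting_le hsolv (hle S hb))).symm
    have hN : (S : Subgroup L) ≤ Subgroup.normalizer (((g • S : Sylow t L) : Subgroup L) : Set L) :=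
      fun b hb => Subgroup.mem_normalizer_iff.2 fun a => by
        constructor
        · intro ha
          rw [← hcomm a ha b hb, mul_inv_cancel_right]; exact ha
        · intro ha
          have e := hcomm _ ha b hb
          have : b * a * b⁻¹ = a := by
            have e2 : b * a = b * (b * a * b⁻¹) := by rw [← e]; group
            exact (mul_left_cancel e2).symm
          rwa [this] at ha
    have hsup : IsPGroup t ↥((S : Subgroup L) ⊔ ((g • S : Sylow t L) : Subgroup L)) :=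
      IsPGroup.to_sup_of_normal_right' S.isPGroup' (g • S).isPGroup' hN
    exact Sylow.ext (((g • S).is_maximal' hsup le_sup_right).symm.trans (S.is_maximal' hsup le_sup_left))
  obtain ⟨s, hs1, hsm⟩ := move (Or.inl rfl) huq hqd
  obtain ⟨u, hu1, hum⟩ := move (Or.inr rfl) hur hrd
  haveI := Fact.mk s.2
  haveI := Fact.mk u.2
  haveI : (Cfsg.pCore (s : ℕ) L).Normal := Solv.pCore_normal _
  haveI : (Cfsg.pCore (u : ℕ) L).Normal := Solv.pCore_normal _
  set A₁ := centreOmega (s : ℕ) (Cfsg.pCore (s : ℕ) L)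
  set A₂ := centreOmega (u : ℕ) (Cfsg.pCore (u : ℕ) L)
  rcases eq_or_ne s u with rfl | hsu
  · exact hno A₁ inferInstance (hcyc s hs1) hsm hum
  have mono : ∀ {t : ℕ} {A : Subgroup L}, A ≤ A₁ ⊔ A₂ → Moves t A → Moves t (A₁ ⊔ A₂) := fun hle h =>
    h.trans (Subgroup.index_dvd_of_le (Subgroup.centralizer_le hle))
  refine hno (A₁ ⊔ A₂) inferInstance ?_ (mono le_sup_left hsm) (mono le_sup_right hum)
  have hsn : (s : ℕ) ≠ u := fun e => hsu (Subtype.ext e)
  have hp1 : IsPGroup (s : ℕ) A₁ := (Solv.pCore_isPGroup _).to_le (centreOmega_le _ _)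
  have hp2' : IsPGroup (u : ℕ) A₂ := (Solv.pCore_isPGroup _).to_le (centreOmega_le _ _)
  have hd : Disjoint A₁ A₂ := IsPGroup.disjoint_of_ne (s : ℕ) (u : ℕ) hsn _ _ hp1 hp2'
  have hcm : ∀ (a : A₁) (b : A₂), Commute (A₁.subtype a) (A₂.subtype b) := fun a b =>
    Subgroup.commute_of_normal_of_disjoint A₁ A₂ inferInstance inferInstance hd _ _ a.2 b.2
  have hco : (Nat.card A₁).Coprime (Nat.card A₂) := by
    obtain ⟨i, hi⟩ := IsPGroup.iff_card.1 hp1
    obtain ⟨j, hj⟩ := IsPGroup.iff_card.1 hp2'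
    rw [hi, hj]; exact Nat.Coprime.pow i j ((Nat.coprime_primes s.2 u.2).2 hsn)
  haveI := hcyc s hs1
  haveI := hcyc u hu1
  haveI : IsCyclic (A₁ × A₂) := Group.isCyclic_prod_iff.2 ⟨hcyc s hs1, hcyc u hu1, hco⟩
  let f := MonoidHom.noncommCoprod A₁.subtype A₂.subtype hcm
  have hr : f.range = A₁ ⊔ A₂ := by
    rw [MonoidHom.noncommCoprod_range, Subgroup.range_subtype, Subgroup.range_subtype]
  rw [← hr]
  exact isCyclic_of_surjective f.rangeRestrict f.rangeRestrict_surjective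

end Cfsg.Agent.Char.Palfy
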