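import Cfsg.Agent.Lib.Solv.UniqueSub
import Cfsg.Agent.Lib.Perm.NoEight
import Cfsg.Agent.Lib.Solv.PConj

/-!
# Coprime automorphisms of `p`-groups
-/

set_option linter.style.haveILetI false
set_option linter.unusedSectionVars false

namespace Cfsg.Agent.Char.Palfy

universe u

variable {G : Type u} [Group G] [Finite G]

/-- A coprime element fixing a self-centralising subgroup of a `p`-subgroup it normalises. -/
theorem centralizes_of_self_centralizing {s : ℕ} [Fact s.Prime] {X Y : Subgroup G}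
    (hX : IsPGroup s X) (hYX : Y ≤ X) (hC : X ⊓ Subgroup.centralizer (Y : Set G) ≤ Y) {g : G}
    (hg : g ∈ Subgroup.normalizer (X : Set G)) (hco : (orderOf g).Coprime s)
    (hY : ∀ y ∈ Y, g * y = y * g) : ∀ x ∈ X, g * x = x * g := by
  classical
  set H := X ⊓ Subgroup.centralizer ({g} : Set G) with hH
  have hYH : Y ≤ H := le_inf hYX fun y hy => Subgroup.mem_centralizer_singleton_iff.2 (hY y hy).symm
  suffices X ≤ H from fun x hx => (Subgroup.mem_centralizer_singleton_iff.1 (this hx).2).symm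
  by_contra hlt
  haveI : Group.IsNilpotent X := hX.isNilpotent
  have hne : H.subgroupOf X ≠ ⊤ := fun e => hlt (Subgroup.subgroupOf_eq_top.1 e)
  obtain ⟨x, hxN, hxH⟩ := SetLike.exists_of_lt
    (Group.normalizerCondition_of_isNilpotent _ (lt_top_iff_ne_top.2 hne))
  set x₀ : G := (x : G)
  have hconj : ∀ h ∈ H, x₀ * h * x₀⁻¹ ∈ H := fun h hh => by
    have := (Subgroup.mem_normalizer_iff.1 hxN ⟨h, hh.1⟩).1 hh
    simpa [Subgroup.mem_subgroupOf] using this
  have hgx : g * x₀ * g⁻¹ ∈ X := (Subgroup.mem_normalizer_iff.1 hg _).1 x.2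
  set c : G := x₀⁻¹ * (g * x₀ * g⁻¹) with hc
  have hcX : c ∈ X := X.mul_mem (X.inv_mem x.2) hgx
  have hcH : c ∈ H := hYH (hC ⟨hcX, Subgroup.mem_centralizer_iff.2 fun y hy => by
    have h1 : g * y = y * g := hY y hy
    have h2 : g * (x₀ * y * x₀⁻¹) = (x₀ * y * x₀⁻¹) * g :=
      (Subgroup.mem_centralizer_singleton_iff.1 (hconj y (hYH hy)).2).symm
    have e1 : g⁻¹ * y = y * g⁻¹ := by
      rw [inv_mul_eq_iff_eq_mul, ← mul_assoc, h1, mul_inv_cancel_right]
    calc y * c = x₀⁻¹ * (x₀ * y * x₀⁻¹) * g * x₀ * g⁻¹ := by rw [hc]; group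
      _ = x₀⁻¹ * (g * (x₀ * y * x₀⁻¹)) * x₀ * g⁻¹ := by rw [h2]; group
      _ = x₀⁻¹ * g * x₀ * (y * g⁻¹) := by group
      _ = x₀⁻¹ * g * x₀ * (g⁻¹ * y) := by rw [e1]
      _ = c * y := by rw [hc]; group⟩)
  have hgc : g * c = c * g := (Subgroup.mem_centralizer_singleton_iff.1 hcH.2).symm
  have hpow : ∀ n : ℕ, g ^ n * x₀ * (g ^ n)⁻¹ = x₀ * c ^ n := by
    intro n
    induction n with
    | zero => simp
    | succ n ih =>
      have e : g * c ^ n * g⁻¹ = c ^ n := by
        rw [(Commute.pow_right hgc n).eq, mul_inv_cancel_right]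
      rw [pow_succ' g, mul_inv_rev,
        show g * g ^ n * x₀ * ((g ^ n)⁻¹ * g⁻¹) = g * (g ^ n * x₀ * (g ^ n)⁻¹) * g⁻¹ by group, ih,
        show g * (x₀ * c ^ n) * g⁻¹ = (g * x₀ * g⁻¹) * (g * c ^ n * g⁻¹) by group, e,
        show g * x₀ * g⁻¹ = x₀ * c by rw [hc]; group, pow_succ', mul_assoc]
  have h1 := hpow (orderOf g)
  rw [pow_orderOf_eq_one, one_mul, inv_one, mul_one, left_eq_mul] at h1
  obtain ⟨k, hk⟩ := IsPGroup.iff_orderOf.1 hX ⟨c, hcX⟩
  rw [Subgroup.orderOf_mk] at hk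
  have hd := orderOf_dvd_of_pow_eq_one h1
  rw [hk] at hd
  have hc1 : c = 1 := orderOf_eq_one_iff.1 (hk.trans (Nat.Coprime.eq_one_of_dvd
    (Nat.Coprime.pow_left k hco.symm) hd))
  refine hxH ⟨x.2, Subgroup.mem_centralizer_singleton_iff.2 ?_⟩
  have : g * x₀ * g⁻¹ = x₀ := by
    have := hc1 ▸ hc
    exact (inv_mul_eq_one.1 this.symm).symm
  exact ((mul_inv_eq_iff_eq_mul.1 this)).symm

variable {K : Type u} [Group K] [Finite K]

/-- Coprime automorphisms of a `p`-group with a unique subgroup of order `p`. -/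
theorem aut_trivial_of_unique {s : ℕ} [hs : Fact s.Prime] (hK : IsPGroup s K)
    (hu : Solv.UniqueOrderP s K) {α : MulAut K} (hco : (orderOf α).Coprime s)
    (hfix : ∀ x : K, x ^ s = 1 → α x = x)
    (hcond : s ≠ 2 ∨ ¬ 3 ∣ orderOf α ∨ ∀ x y : K, x * y = y * x) : α = 1 := by
  classical
  rcases eq_or_ne s 2 with rfl | h2
  · have hodd : Odd (orderOf α) := Nat.Coprime.odd_of_right (by simpa using hco)
    by_contra hα
    have hna : Perm.NoEight.NA K := by
      intro A hA hnc _
      haveI := hA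
      refine hnc ?_
      obtain ⟨a, ha, he⟩ := Solv.abelian_cyclic_of_unique (p := 2) hK hu A (fun x hx y hy =>
        congrArg Subtype.val (IsMulCommutative.is_comm.comm (⟨x, hx⟩ : A) ⟨y, hy⟩))
      exact he ▸ inferInstance
    rcases Perm.NoEight.odd_aut hK hna hodd hα with ⟨-, h4, hsq, -⟩ | ⟨⟨a, b, hab⟩, h8, hinv⟩
    · exact hα (MulEquiv.ext fun x => hfix x (hsq x))
    rcases hcond with h | h | h
    · exact h rfl
    · obtain ⟨y, hy⟩ : ∃ y, α y ≠ y := by
        by_contra hh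
        push Not at hh
        exact hα (MulEquiv.ext hh)
      set O : Set K := MulAction.orbit (Subgroup.zpowers α) y with hO
      have hdvd : Nat.card O ∣ orderOf α := by
        rw [← Nat.card_zpowers]
        haveI := Fintype.ofFinite (Subgroup.zpowers α)
        haveI : Fintype O := Fintype.ofFinite _
        rw [Nat.card_congr (MulAction.orbitEquivQuotientStabilizer _ y)]
        exact Subgroup.card_quotient_dvd_card _
      have hmemO : ∀ {u : K}, u ∈ O → ∀ {β : MulAut K}, β ∈ Subgroup.zpowers α → β u ∈ O := by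
        rintro u ⟨⟨γ, hγ⟩, rfl⟩ β hβ
        exact ⟨⟨β * γ, mul_mem hβ hγ⟩, rfl⟩
      have hy2 : y ^ 2 ≠ 1 := fun e => hy (hfix y e)
      have hO2 : ∀ u ∈ O, u ^ 2 ≠ 1 := by
        rintro _ ⟨⟨β, hβ⟩, rfl⟩ e
        have e' : β (y ^ 2) = 1 := by rw [map_pow]; exact e
        exact hy2 ((map_eq_one_iff β β.injective).1 e')
      have hdis : Disjoint O ((fun u => u⁻¹) '' O) := by
        rw [Set.disjoint_left]
        rintro _ hu' ⟨w, hw, rfl⟩
        obtain ⟨⟨β, hβ⟩, rfl⟩ := hw
        obtain ⟨⟨γ, hγ⟩, hγy⟩ := hu'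
        have e1 : γ y = (β y)⁻¹ := hγy
        set δ := β⁻¹ * γ with hδ
        have e2 : δ y = y⁻¹ := by
          rw [hδ, MulAut.mul_apply, e1, map_inv, MulAut.inv_apply_self]
        have e3 : (δ ^ 2) y = y := by rw [pow_two, MulAut.mul_apply, e2, map_inv, e2, inv_inv]
        have hδo : Odd (orderOf δ) :=
          Odd.of_dvd_nat hodd (orderOf_dvd_of_mem_zpowers (mul_mem (inv_mem hβ) hγ))
        obtain ⟨m, hm⟩ := hδo
        have e4 : ∀ n : ℕ, ((δ ^ 2) ^ n) y = y := by
          intro n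
          induction n with
          | zero => rfl
          | succ n ih => rw [pow_succ, MulAut.mul_apply, e3, ih]
        have e5 : δ y = y := by
          have e6 := e4 (m + 1)
          rwa [← pow_mul, show 2 * (m + 1) = orderOf δ + 1 by omega, pow_succ, pow_orderOf_eq_one,
            one_mul] at e6
        refine hy2 ?_
        rw [pow_two, ← eq_inv_iff_mul_eq_one]
        exact e5.symm.trans e2
      have hone : ∀ u ∈ O ∪ (fun u => u⁻¹) '' O, u ≠ 1 ∧ u ^ 2 ≠ 1 := by
        rintro u (hu' | ⟨w, hw, rfl⟩)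
        · exact ⟨fun e => hO2 u hu' (by rw [e, one_pow]), hO2 u hu'⟩
        · exact ⟨fun e => hO2 w hw (by rw [inv_eq_one.1 e, one_pow]),
            fun e => hO2 w hw (by rwa [inv_pow, inv_eq_one] at e)⟩
      obtain ⟨z, hz⟩ : ∃ z : K, orderOf z = 2 :=
        exists_prime_orderOf_dvd_card' 2 (by rw [h8]; norm_num)
      have hz1 : z ≠ 1 := fun e => by rw [e, orderOf_one] at hz; omega
      have hsub : O ∪ (fun u => u⁻¹) '' O ⊆ ({1, z} : Set K)ᶜ := by
        rintro u hu' (rfl | rfl)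
        · exact (hone _ hu').1 rfl
        · exact (hone _ hu').2 (by rw [← hz, pow_orderOf_eq_one])
      have hcard := Set.ncard_le_ncard hsub (Set.toFinite _)
      rw [Set.ncard_union_eq hdis, Set.ncard_image_of_injective _ inv_injective, Set.ncard_compl,
        Set.ncard_pair hz1.symm, h8, ← Nat.card_coe_set_eq] at hcard
      have hO1 : Nat.card O ≠ 1 := fun e => by
        obtain ⟨hsub', -⟩ := Nat.card_eq_one_iff_unique.1 e
        exact hy (congrArg Subtype.val (hsub'.elim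
          (⟨α y, hmemO (MulAction.mem_orbit_self y) (Subgroup.mem_zpowers α)⟩ : O)
          ⟨y, MulAction.mem_orbit_self y⟩))
      have hOodd : Odd (Nat.card O) := Odd.of_dvd_nat hodd hdvd
      obtain ⟨m, hm⟩ := hOodd
      have h3 : Nat.card O = 3 := by omega
      exact h (h3 ▸ hdvd)
    · exact hab (h a b)
  · rcases Solv.cyclic_or_quaternion hK hu with hc | ⟨rfl, -⟩
    · obtain ⟨g, hg⟩ := hc.exists_generator
      obtain ⟨k, hk⟩ : ∃ k : ℤ, α g = g ^ k := by
        obtain ⟨k, hk⟩ := hg (α g); exact ⟨k, hk.symm⟩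
      rcases subsingleton_or_nontrivial K with hK1 | hK1
      · exact MulEquiv.ext fun _ => Subsingleton.elim _ _
      obtain ⟨n, hn⟩ := IsPGroup.iff_orderOf.1 hK g
      have hn0 : n ≠ 0 := fun e => by
        rw [e, pow_zero, orderOf_eq_one_iff] at hn
        obtain ⟨x, hx⟩ := exists_ne (1 : K)
        obtain ⟨j, hj⟩ := hg x
        exact hx (by rw [← hj, hn]; simp)
      obtain ⟨n, rfl⟩ := Nat.exists_eq_succ_of_ne_zero hn0
      have hks : (k - 1) % (s : ℤ) = 0 := by
        have h1 : α (g ^ (s ^ n)) = g ^ (s ^ n) := hfix _ (by rw [← pow_mul, ← pow_succ, ← hn, pow_orderOf_eq_one])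
        rw [map_pow, hk, ← zpow_natCast (g ^ k), ← zpow_mul, ← zpow_natCast g (s ^ n)] at h1
        have h2 : ((orderOf g : ℤ)) ∣ k * (s ^ n : ℕ) - (s ^ n : ℕ) := by
          rw [orderOf_dvd_iff_zpow_eq_one, zpow_sub, h1, mul_inv_cancel]
        rw [hn] at h2
        push_cast at h2
        rw [show k * (s : ℤ) ^ n - (s : ℤ) ^ n = (s : ℤ) ^ n * (k - 1) by ring, pow_succ] at h2
        exact Int.emod_eq_zero_of_dvd ((mul_dvd_mul_iff_left (by
          exact_mod_cast (pow_ne_zero n hs.out.ne_zero))).1 h2)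
      have hpow : ∀ j : ℕ, (α ^ j) g = g ^ (k ^ j) := by
        intro j
        induction j with
        | zero => simp
        | succ j ih => rw [pow_succ, MulAut.mul_apply, hk, map_zpow, ih, ← zpow_mul, pow_succ]
      have hkd : ((orderOf g : ℤ)) ∣ k ^ (orderOf α) - 1 := by
        rw [orderOf_dvd_iff_zpow_eq_one, zpow_sub, ← hpow, pow_orderOf_eq_one]
        simp
      have hcp : IsCoprime (orderOf g : ℤ) (∑ i ∈ Finset.range (orderOf α), k ^ i) := by
        rw [hn, Nat.cast_pow]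
        refine IsCoprime.pow_left ((Prime.coprime_iff_not_dvd (Nat.prime_iff_prime_int.1 hs.out)).2 fun hd => ?_)
        have hmod : ((∑ i ∈ Finset.range (orderOf α), k ^ i : ℤ) : ZMod s) = (orderOf α : ZMod s) := by
          push_cast
          have : (k : ZMod s) = 1 := by
            have := (ZMod.intCast_zmod_eq_zero_iff_dvd (k - 1) s).2 (Int.dvd_of_emod_eq_zero hks)
            push_cast at this
            exact sub_eq_zero.1 this
          simp [this]
        rw [(ZMod.intCast_zmod_eq_zero_iff_dvd _ s).2 hd] at hmod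
        exact hs.out.coprime_iff_not_dvd.1 hco.symm ((ZMod.natCast_eq_zero_iff _ s).1 hmod.symm)
      rw [← mul_geom_sum] at hkd
      have h3 := (hcp.dvd_of_dvd_mul_right hkd)
      have hαg : α g = g := by
        rw [orderOf_dvd_iff_zpow_eq_one, zpow_sub, zpow_one, mul_inv_eq_one] at h3
        rw [hk, h3]
      exact MulEquiv.ext fun x => by obtain ⟨j, rfl⟩ := hg x; simp [hαg]
    · exact absurd rfl h2

end Cfsg.Agent.Char.Palfy
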