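import Mathlib.GroupTheory.Sylow
import Mathlib.Algebra.Group.Subgroup.Basic
import Mathlib.GroupTheory.GroupAction.Basic

/-!
# Linear groups in which every vector is fixed by a unique Sylow subgroup

Basic consequences of the hypothesis that every non-trivial vector of a faithful irreducible
module is fixed by exactly one Sylow subgroup for a given prime.
-/

namespace Cfsg.Agent.Char.Palfy

universe u v

variable {L : Type u} [Group L] {V : Type v} [CommGroup V] [MulDistribMulAction L V]

/-- Every non-trivial vector is fixed by exactly one Sylow `q`-subgroup. -/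
def UniqSylow (q : ℕ) (L : Type u) [Group L] (V : Type v) [CommGroup V] [MulDistribMulAction L V] : Prop :=
  ∀ v : V, v ≠ 1 → ∃! S : Sylow q L, ∀ g ∈ (S : Subgroup L), g • v = v

/-- The vectors fixed by a subgroup. -/
def fixV (H : Subgroup L) (V : Type v) [CommGroup V] [MulDistribMulAction L V] : Subgroup V where
  carrier := {v | ∀ g ∈ H, g • v = v}
  mul_mem' ha hb g hg := by rw [smul_mul', ha g hg, hb g hg]
  one_mem' g _ := smul_one g
  inv_mem' ha g hg := by rw [smul_inv', ha g hg]

theorem mem_fixV {H : Subgroup L} {v : V} : v ∈ fixV H V ↔ ∀ g ∈ H, g • v = v := Iff.rfl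

theorem UniqSylow.exists_fix {q : ℕ} (h : UniqSylow q L V) {v : V} (hv : v ≠ 1) :
    ∃ S : Sylow q L, v ∈ fixV (S : Subgroup L) V := (h v hv).exists

theorem UniqSylow.eq_of_fix {q : ℕ} (h : UniqSylow q L V) {v : V} (hv : v ≠ 1) {S S' : Sylow q L}
    (hS : v ∈ fixV (S : Subgroup L) V) (hS' : v ∈ fixV (S' : Subgroup L) V) : S = S' :=
  (h v hv).unique hS hS'

/-- An element fixing the vector normalises the Sylow subgroup fixing it. -/
theorem UniqSylow.normalizes {q : ℕ} (h : UniqSylow q L V) {v : V} (hv : v ≠ 1) {S : Sylow q L}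
    (hS : v ∈ fixV (S : Subgroup L) V) {a : L} (ha : a • v = v) :
    a ∈ Subgroup.normalizer ((S : Subgroup L) : Set L) := by
  refine Sylow.smul_eq_iff_mem_normalizer.1 ?_
  refine h.eq_of_fix hv (fun g hg => ?_) hS
  obtain ⟨y, hy, rfl⟩ := (Sylow.coe_subgroup_smul (g := a) (P := S) ▸ hg : g ∈ _)
  have e : a⁻¹ • v = v := by rw [inv_smul_eq_iff]; exact ha.symm
  simp only [MulDistribMulAction.toMonoidEnd_apply, MulDistribMulAction.toMonoidHom_apply,
    MulAut.smul_def, MulAut.conj_apply]
  rw [mul_smul, mul_smul, e, hS y hy, ha]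

/-- The hypotheses on the module. -/
structure Ctx (L : Type u) [Group L] (V : Type v) [CommGroup V] [MulDistribMulAction L V] (l : ℕ) :
    Prop where
  hl : l.Prime
  hV : IsPGroup l V
  nontriv : ∃ v : V, v ≠ 1
  faithful : ∀ g : L, (∀ v : V, g • v = v) → g = 1
  irr : ∀ W : Subgroup V, (∀ (g : L), ∀ v ∈ W, g • v ∈ W) → W = ⊥ ∨ W = ⊤

variable {l : ℕ}

/-- A normal subgroup fixing a non-trivial vector is trivial. -/
theorem Ctx.fixed_normal (c : Ctx L V l) {N : Subgroup L} [N.Normal] {v : V} (hv : v ≠ 1)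
    (hN : v ∈ fixV N V) : N = ⊥ := by
  rcases c.irr (fixV N V) (fun g w hw n hn => by
      rw [← mul_smul, show n * g = g * (g⁻¹ * n * g) by group, mul_smul,
        hw _ (Subgroup.Normal.conj_mem' inferInstance n hn g)]) with h | h
  · exact absurd (Subgroup.mem_bot.1 (h ▸ hN)) hv
  · exact (Subgroup.eq_bot_iff_forall _).2 fun n hn => c.faithful n fun w =>
      (h.ge (Subgroup.mem_top w) : w ∈ fixV N V) n hn

set_option linter.unusedSectionVars false

theorem Ctx.pow_injective (c : Ctx L V l) {n : ℕ} (hn : n.Coprime l) :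
    Function.Injective (fun v : V => v ^ n) := fun a b hab => by
  have h : (a / b) ^ n = 1 := by rw [div_pow]; exact div_eq_one.2 hab
  haveI := Fact.mk c.hl
  obtain ⟨k, hk⟩ := IsPGroup.iff_orderOf.1 c.hV (a / b)
  have h1 : orderOf (a / b) ∣ n := orderOf_dvd_of_pow_eq_one h
  rw [hk] at h1
  have : l ^ k = 1 := Nat.Coprime.eq_one_of_dvd (Nat.Coprime.pow_left k hn.symm) h1
  exact div_eq_one.1 (orderOf_eq_one_iff.1 (hk.trans this))

variable [Finite L] [Finite V]

/-- No Sylow subgroup for the prime is normal, and the core is trivial. -/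
theorem Ctx.pCore_trivial (c : Ctx L V l) {q : ℕ} [Fact q.Prime] (h : UniqSylow q L V) {N : Subgroup L} [N.Normal]
    (hN : IsPGroup q N) : N = ⊥ := by
  obtain ⟨v, hv⟩ := c.nontriv
  obtain ⟨S, hS⟩ := h.exists_fix hv
  exact c.fixed_normal hv fun g hg => hS g (hN.le_sylow_of_normal S hg)

theorem Ctx.not_normal (c : Ctx L V l) {q : ℕ} [Fact q.Prime] (h : UniqSylow q L V) (hq : q ∣ Nat.card L) (S : Sylow q L) :
    ¬ (S : Subgroup L).Normal := fun hn => by
  haveI := hn
  have := c.pCore_trivial h S.isPGroup'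
  exact S.ne_bot_of_dvd_card hq this

theorem Ctx.char_core (c : Ctx L V l) {N : Subgroup L} [N.Normal] (hN : IsPGroup l N) : N = ⊥ := by
  haveI := Fact.mk c.hl
  have hd : l ∣ Nat.card V := by
    obtain ⟨v, hv⟩ := c.nontriv
    haveI : Nontrivial V := ⟨⟨v, 1, hv⟩⟩
    obtain ⟨k, hk, e⟩ := IsPGroup.nontrivial_iff_card c.hV |>.1 inferInstance
    rw [e]; exact dvd_pow_self _ (by omega)
  obtain ⟨w, hw, hne⟩ := hN.exists_fixed_point_of_prime_dvd_card_of_fixed_point (α := V) hd
    (a := 1) (by intro g; exact smul_one g)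
  exact c.fixed_normal (Ne.symm hne) fun g hg => hw ⟨g, hg⟩

end Cfsg.Agent.Char.Palfy
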