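import Cfsg.Agent.Lib.Char.Palfy.Dual
import Cfsg.Agent.Lib.Char.DegreeDvd

/-!
# A minimal normal subgroup of order prime to `p`
-/

set_option linter.style.haveILetI false
set_option linter.unusedSectionVars false

namespace Cfsg.Agent.Char.Palfy

open Cfsg SqfreeDeg
open scoped Pointwise

universe u

variable {G : Type u} [Group G] [Fintype G]

/-- A prime dividing some degree has no normal abelian Sylow subgroup. -/
theorem not_normal_abelian {t : ℕ} [Fact t.Prime] (hd : ∃ χ : IrrCharacter G, t ∣ deg (χ : G → ℂ))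
    (S : Subgroup G) [S.Normal] (hc : ∀ x ∈ S, ∀ y ∈ S, x * y = y * x) : t ∣ S.index := by
  obtain ⟨χ, hχ⟩ := hd
  exact hχ.trans (deg_dvd_index_abelian_normal χ.2 S fun a b => Subtype.ext (hc a a.2 b b.2))

/-- The projection of a split extension onto the complement. -/
theorem exists_proj_top (N : Subgroup G) [N.Normal] (L : Subgroup G) (hinf : N ⊓ L = ⊥) (hsup : N ⊔ L = ⊤) :
    ∃ f : G →* L, Function.Surjective f ∧ (∀ x : G, f x = 1 ↔ x ∈ N) ∧ ∀ x : G, x * ((f x : L) : G)⁻¹ ∈ N := by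
  haveI := Fintype.ofFinite N
  obtain ⟨f, hf, hk, hp⟩ := exists_proj N L hinf ⊤ ⊤ le_top le_top (by
    rw [← MonoidHom.range_eq_map, Subgroup.range_subtype, hsup])
  refine ⟨((Subgroup.topEquiv (G := L)).toMonoidHom.comp f).comp (Subgroup.topEquiv (G := G)).symm.toMonoidHom,
    fun x => ?_, fun x => ?_, fun x => hp ⟨x, Subgroup.mem_top x⟩⟩
  · obtain ⟨y, hy⟩ := hf ⟨x, Subgroup.mem_top x⟩
    exact ⟨(y : G), show Subgroup.topEquiv (f ⟨(y : G), _⟩) = x by rw [show (⟨(y : G), _⟩ : (⊤ : Subgroup G)) = y from rfl, hy]; rfl⟩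
  · show Subgroup.topEquiv (f ⟨x, _⟩) = 1 ↔ _
    rw [(Subgroup.topEquiv (G := L)).map_eq_one_iff]
    exact hk ⟨x, Subgroup.mem_top x⟩

/-- If all Sylow `t`-subgroups of `L` centralise `N` then there is only one, and it is abelian. -/
theorem sylow_normal_of_centralizes (N : Subgroup G) [N.Normal] (L : Subgroup G) {t : ℕ} [Fact t.Prime]
    (h : ∀ S : Sylow t L, ∀ x ∈ (S : Subgroup L), ∀ n ∈ N, (x : G) * n = n * x) {v : ↥N →* ℂˣ}
    (P : Subgroup (stabL N L v)) [hPn : P.Normal] (hPc : ∀ a ∈ P, ∀ b ∈ P, a * b = b * a)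
    (hPp : IsPGroup t P) (hidx : ¬ t ∣ P.index) (S : Sylow t L) :
    (S : Subgroup L).Normal ∧ ∀ a ∈ (S : Subgroup L), ∀ b ∈ (S : Subgroup L), a * b = b * a := by
  have hin : ∀ T : Sylow t L, (T : Subgroup L) ≤ stabL N L v := fun T x hx => by
    show dualConj N (x : G) v = v
    refine MonoidHom.ext fun n => ?_
    rw [dualConj_apply]
    congr 1
    refine Subtype.ext ?_
    rw [MulAut.conjNormal_apply, inv_inv]
    have := h T x hx n n.2
    calc (x : G)⁻¹ * n * x = (x : G)⁻¹ * (n * x) := by group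
      _ = n := by rw [← this, inv_mul_cancel_left]
  have hle : ∀ T : Sylow t L, (T : Subgroup L) ≤ P.map (stabL N L v).subtype := fun T x hx =>
    ⟨⟨x, hin T hx⟩, pgroup_le_of_not_dvd_index ((T.isPGroup').comap_of_injective (stabL N L v).subtype
      (Subgroup.subtype_injective _)) P hidx
      (show (⟨x, hin T hx⟩ : stabL N L v) ∈ (T : Subgroup L).comap _ from hx), rfl⟩
  have heq : ∀ T : Sylow t L, (T : Subgroup L) = P.map (stabL N L v).subtype := fun T =>
    (T.is_maximal' (hPp.map _) (hle T)).symm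
  refine ⟨Subgroup.normalizer_eq_top_iff.1 (eq_top_iff.2 fun g _ =>
    Sylow.smul_eq_iff_mem_normalizer.1 (Sylow.ext ((heq _).trans (heq S).symm))), ?_⟩
  intro a ha b hb
  obtain ⟨a', ha', rfl⟩ := hle S ha
  obtain ⟨b', hb', rfl⟩ := hle S hb
  rw [← map_mul, ← map_mul, hPc a' ha' b' hb']

/-- The case of a minimal normal subgroup of order prime to `p`. -/
theorem caseA [Group.IsSolvable G] {p q r : ℕ} [hp : Fact p.Prime] [hq : Fact q.Prime] [hr : Fact r.Prime]
    (hpq' : p ≠ q) (hpr' : p ≠ r) (hqr' : q ≠ r)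
    (hpq : ∀ χ : IrrCharacter G, ¬ p * q ∣ deg (χ : G → ℂ))
    (hpr : ∀ χ : IrrCharacter G, ¬ p * r ∣ deg (χ : G → ℂ))
    (hqr : ∀ χ : IrrCharacter G, ¬ q * r ∣ deg (χ : G → ℂ))
    (hpd : ∃ χ : IrrCharacter G, p ∣ deg (χ : G → ℂ)) (hqd : ∃ χ : IrrCharacter G, q ∣ deg (χ : G → ℂ))
    (hrd : ∃ χ : IrrCharacter G, r ∣ deg (χ : G → ℂ))
    (N : Subgroup G) [N.Normal] (hN : N ≠ ⊥) (hmin : ∀ K : Subgroup G, K.Normal → K ≤ N → K = ⊥ ∨ K = N)
    {l : ℕ} [hl : Fact l.Prime] (hNc : ∀ a b : N, a * b = b * a) (hpow : ∀ x ∈ N, x ^ l = 1)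
    (hNp : IsPGroup l N) (hlp : l ≠ p) (P : Sylow p G) (hPN : ((P : Subgroup G) ⊔ N).Normal)
    (hPc : ∀ x ∈ (P : Subgroup G), ∀ y ∈ (P : Subgroup G), x * y = y * x) : False := by
  classical
  haveI := Fintype.ofFinite N
  set L : Subgroup G := Subgroup.normalizer ((P : Subgroup G) : Set G) with hL
  have hsup : N ⊔ L = ⊤ := by
    haveI := hPN
    have h := Sylow.normalizer_sup_eq_top' P (le_sup_left : (P : Subgroup G) ≤ (P : Subgroup G) ⊔ N)
    refine top_unique (h.ge.trans (sup_le le_sup_right (sup_le ?_ le_sup_left)))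
    exact le_trans Subgroup.le_normalizer le_sup_right
  have hNP : N ⊓ (P : Subgroup G) = ⊥ :=
    disjoint_iff.1 (IsPGroup.disjoint_of_ne l p hlp _ _ hNp P.isPGroup')
  have hcomm_inf : ∀ x ∈ N ⊓ L, ∀ y ∈ (P : Subgroup G), x * y = y * x := by
    intro x hx y hy
    have h1 : x * y * x⁻¹ * y⁻¹ ∈ N ⊓ (P : Subgroup G) := by
      refine ⟨?_, (P : Subgroup G).mul_mem ((Subgroup.mem_normalizer_iff.1 hx.2 y).1 hy) ((P : Subgroup G).inv_mem hy)⟩
      rw [show x * y * x⁻¹ * y⁻¹ = x * (y * x⁻¹ * y⁻¹) by group]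
      exact N.mul_mem hx.1 (Subgroup.Normal.conj_mem inferInstance _ (inv_mem hx.1) _)
    rw [hNP, Subgroup.mem_bot] at h1
    calc x * y = (x * y * x⁻¹ * y⁻¹) * (y * x) := by group
      _ = y * x := by rw [h1, one_mul]
  -- no fixed points
  set N₀ : Subgroup G := N ⊓ Subgroup.centralizer ((P : Subgroup G) : Set G) with hN₀
  have hN₀n : N₀.Normal := ⟨fun x hx g => by
    obtain ⟨n, hn, y, hy, rfl⟩ := Subgroup.mem_sup_of_normal_left.1 (hsup.ge (Subgroup.mem_top g))
    refine ⟨Subgroup.Normal.conj_mem inferInstance x hx.1 _, Subgroup.mem_centralizer_iff.2 fun z hz => ?_⟩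
    have hz' : y⁻¹ * z * y ∈ (P : Subgroup G) := by
      have := (Subgroup.mem_normalizer_iff.1 (inv_mem hy) z).1 hz
      rwa [inv_inv] at this
    have e1 : n * y * x * (n * y)⁻¹ = y * x * y⁻¹ := by
      have h1 : y * x * y⁻¹ ∈ N := Subgroup.Normal.conj_mem inferInstance x hx.1 y
      have h2 : n * (y * x * y⁻¹) = (y * x * y⁻¹) * n := congrArg Subtype.val (hNc ⟨n, hn⟩ ⟨_, h1⟩)
      calc n * y * x * (n * y)⁻¹ = n * (y * x * y⁻¹) * n⁻¹ := by group
        _ = y * x * y⁻¹ := by rw [h2, mul_inv_cancel_right]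
    rw [e1]
    have h3 := Subgroup.mem_centralizer_iff.1 hx.2 _ hz'
    calc z * (y * x * y⁻¹) = y * (y⁻¹ * z * y * x) * y⁻¹ := by group
      _ = y * (x * (y⁻¹ * z * y)) * y⁻¹ := by rw [h3]
      _ = y * x * y⁻¹ * z := by group⟩
  have hN₀b : N₀ = ⊥ := (hmin N₀ hN₀n inf_le_left).resolve_right fun e => by
    have hPn : (P : Subgroup G).Normal := by
      refine Subgroup.normalizer_eq_top_iff.1 (top_unique (hsup.ge.trans (sup_le ?_ le_rfl)))
      intro n hn
      refine Subgroup.mem_normalizer_iff.2 fun z => ?_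
      have hnc := Subgroup.mem_centralizer_iff.1 (e.ge hn).2
      constructor
      · intro hz; rw [← hnc z hz, mul_inv_cancel_right]; exact hz
      · intro hz
        have h1 := hnc _ hz
        have : n * z * n⁻¹ = z := by
          have e2 : n * z = n * (n * z * n⁻¹) := by rw [← h1]; group
          exact (mul_left_cancel e2).symm
        rwa [this] at hz
    haveI := hPn
    exact P.not_dvd_index (not_normal_abelian hpd _ hPc)
  have hinf : N ⊓ L = ⊥ := (Subgroup.eq_bot_iff_forall _).2 fun x hx => Subgroup.mem_bot.1 (hN₀b ▸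
    (⟨hx.1, Subgroup.mem_centralizer_iff.2 fun y hy => (hcomm_inf x hx y hy).symm⟩ : x ∈ N₀))
  obtain ⟨f, hf, hfk, hfp⟩ := exists_proj_top N L hinf hsup
  -- every non-trivial linear character gives degrees divisible by p
  have hdvd : ∀ v : ↥N →* ℂˣ, v ≠ 1 → ∀ χ : IrrCharacter G,
      classInner (fun n : N => (χ : G → ℂ) n) (linChar v : N → ℂ) ≠ 0 → p ∣ deg (χ : G → ℂ) := by
    intro v hv χ hχ
    refine Dvd.dvd.trans ?_ ((dvd_mul_right _ _).trans (orbit_mul_deg_dvd N χ (linChar v) hχ))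
    by_contra hnd
    set K : Subgroup G := (stabL N (⊤ : Subgroup G) v).map (⊤ : Subgroup G).subtype with hK
    have hKiff : ∀ g : G, g ∈ K ↔ irrComp (MulAut.conjNormal g) (linChar v) = linChar v := by
      intro g
      have h1 := inertiaH_linChar N (⊤ : Subgroup G) v
      have h2 := mem_inertiaH (N := N) (H := (⊤ : Subgroup G)) (θ := linChar v) (h := ⟨g, Subgroup.mem_top g⟩)
      rw [h1] at h2
      rw [← h2]
      refine ⟨?_, fun h => ⟨_, h, rfl⟩⟩
      rintro ⟨x, hx, rfl⟩
      exact hx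
    have hcard := card_cliffOrbit_mul (N := N) (linChar v)
    rw [Nat.card_congr (Equiv.subtypeEquivRight fun g => (hKiff g).symm), ← Subgroup.card_mul_index K,
      mul_comm] at hcard
    rw [Nat.eq_of_mul_eq_mul_left Nat.card_pos hcard] at hnd
    -- a conjugate of P fixes v
    obtain ⟨S⟩ : Nonempty (Sylow p K) := inferInstance
    have hS : ¬ p ∣ ((S : Subgroup K).map K.subtype).index := by
      rw [Subgroup.index_map_subtype]
      exact fun h => (hp.out.dvd_mul.1 h).elim S.not_dvd_index hnd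
    set S' : Sylow p G := (S.isPGroup'.map K.subtype).toSylow hS
    have hNK : N ≤ K := fun n hn => (hKiff n).2 (Subtype.ext (funext fun m => by
      rw [irrComp_apply, show MulAut.conjNormal n m = m from Subtype.ext (by
        rw [MulAut.conjNormal_apply]
        have := congrArg Subtype.val (hNc ⟨n, hn⟩ m)
        exact (mul_inv_eq_iff_eq_mul.2 this))]))
    have hS'K : (S' : Subgroup G) ≤ K := Subgroup.map_subtype_le _
    obtain ⟨g, hg⟩ := MulAction.exists_smul_eq G S' P
    have hPK : (P : Subgroup G) ≤ K := by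
      intro x hx
      haveI := hPN
      obtain ⟨y, hy⟩ := MulAction.exists_smul_eq G P S'
      have hconj : ((P : Subgroup G) ⊔ N) ≤ K := by
        have : ((P : Subgroup G) ⊔ N) = (S' : Subgroup G) ⊔ N := by
          rw [← hy, Sylow.coe_subgroup_smul]
          have e1 : (MulAut.conj y • ((P : Subgroup G) ⊔ N)) = ((P : Subgroup G) ⊔ N) :=
            Subgroup.Normal.conjAct inferInstance y
          rw [Subgroup.smul_sup] at e1
          rw [show MulAut.conj y • N = N from Subgroup.Normal.conjAct inferInstance y] at e1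
          exact e1.symm
        rw [this]; exact sup_le hS'K hNK
      exact hconj (Subgroup.mem_sup_left hx)
    -- hence v is trivial
    refine hv (MonoidHom.ext fun n => ?_)
    letI : CommGroup N := { (inferInstance : Group N) with mul_comm := hNc }
    haveI := Fintype.ofFinite (P : Subgroup G)
    set w : N := ∏ y : (P : Subgroup G), MulAut.conjNormal (y : G) n with hw
    have hwfix : ∀ z : (P : Subgroup G), MulAut.conjNormal (z : G) w = w := fun z => by
      rw [hw, map_prod]
      exact Fintype.prod_equiv (Equiv.mulLeft z) _ _ fun y => by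
        rw [Equiv.coe_mulLeft, Subgroup.coe_mul, map_mul, MulAut.mul_apply]
    have hw1 : w = 1 := Subtype.ext (Subgroup.mem_bot.1 (hN₀b ▸ (⟨w.2,
      Subgroup.mem_centralizer_iff.2 fun z hz => by
        have := congrArg Subtype.val (hwfix ⟨z, hz⟩)
        rw [MulAut.conjNormal_apply] at this
        exact mul_inv_eq_iff_eq_mul.1 this⟩ : (w : G) ∈ N₀)))
    have hvw : v w = v n ^ Nat.card (P : Subgroup G) := by
      rw [hw, map_prod, Finset.prod_congr rfl (g := fun _ => v n) fun y _ => ?_, Finset.prod_const,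
        Finset.card_univ, Nat.card_eq_fintype_card]
      exact Units.ext (congrFun (congrArg Subtype.val ((hKiff (y : G)).1 (hPK y.2))) n)
    rw [hw1, map_one] at hvw
    obtain ⟨a, ha⟩ := IsPGroup.iff_card.1 P.isPGroup'
    have h1 : orderOf (v n) ∣ p ^ a := ha ▸ orderOf_dvd_of_pow_eq_one hvw.symm
    have h2 : orderOf (v n) ∣ l := orderOf_dvd_of_pow_eq_one (by
      rw [← map_pow, show n ^ l = 1 from Subtype.ext (hpow n n.2), map_one])
    exact orderOf_eq_one_iff.1 (Nat.Coprime.eq_one_of_dvd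
      (Nat.Coprime.coprime_dvd_left h1 (Nat.Coprime.pow_left a ((Nat.coprime_primes hp.out hl.out).2 hlp.symm))) h2)
  have hst : ∀ t : ℕ, (ht : t = q ∨ t = r) → ∀ v : ↥N →* ℂˣ, v ≠ 1 → ¬ t ∣ (stabL N L v).index ∧
      ∃ P : Subgroup (stabL N L v), P.Normal ∧ (∀ x ∈ P, ∀ y ∈ P, x * y = y * x) ∧ IsPGroup t P ∧
        ¬ t ∣ P.index := by
    intro t ht v hv
    haveI : Fact t.Prime := by rcases ht with rfl | rfl <;> assumption
    have h := split_inertia N L hinf hsup inferInstance (linChar v) (by rw [deg_linChar]; exact Nat.coprime_one_left _)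
      (t := t) fun χ hχ htd => by
        rcases ht with rfl | rfl
        · exact hpq χ (Nat.Coprime.mul_dvd_of_dvd_of_dvd ((Nat.coprime_primes hp.out hq.out).2 hpq') (hdvd v hv χ hχ) htd)
        · exact hpr χ (Nat.Coprime.mul_dvd_of_dvd_of_dvd ((Nat.coprime_primes hp.out hr.out).2 hpr') (hdvd v hv χ hχ) htd)
    rwa [inertiaH_linChar] at h
  -- one of the Sylow subgroups of L centralises N
  have hres := sylow_centralizes N hNc hl.out hpow hN hmin L (fun g => ⟨g * ((f g : L) : G)⁻¹,
      Subgroup.mem_centralizer_iff.2 fun n hn => congrArg Subtype.val (hNc ⟨n, hn⟩ ⟨_, hfp g⟩), _, (f g).2, by group⟩)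
    inferInstance hqr' (fun χ hd => by
      obtain ⟨ψ, hψ⟩ := exists_deg_comp_surjective f hf χ
      exact hqr ψ (hψ ▸ hd))
    (fun t ht v hv => by
      obtain ⟨h1, P', h2, -, h3, h4⟩ := hst t ht v hv
      exact ⟨h1, P', h2, h3, h4⟩)
  obtain ⟨v, hv⟩ : ∃ v : ↥N →* ℂˣ, v ≠ 1 := by
    obtain ⟨n, hn⟩ := (Subgroup.ne_bot_iff_exists_ne_one).1 hN
    by_contra hall
    push Not at hall
    exact hn (separate hNc fun v => by rw [hall v]; rfl)
  -- such a subgroup gives a normal abelian Sylow subgroup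
  have fin : ∀ {t : ℕ} [Fact t.Prime], (t = q ∨ t = r) → (∃ χ : IrrCharacter G, t ∣ deg (χ : G → ℂ)) →
      (∀ S : Sylow t L, ∀ x ∈ (S : Subgroup L), ∀ n ∈ N, (x : G) * n = n * x) → False := by
    intro t htf ht htd hc
    obtain ⟨-, P', hP'n, hP'c, hP'p, hP'i⟩ := hst t ht v hv
    haveI := hP'n
    obtain ⟨S⟩ : Nonempty (Sylow t L) := inferInstance
    obtain ⟨hSn, hSc⟩ := sylow_normal_of_centralizes N L hc P' hP'c hP'p hP'i S
    haveI := hSn
    by_cases hlt : l = t
    · subst hlt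
      set U : Subgroup G := (S : Subgroup L).comap f
      haveI : U.Normal := Subgroup.Normal.comap hSn f
      have hdec : ∀ x ∈ U, ∃ n ∈ N, ∃ y : L, y ∈ (S : Subgroup L) ∧ x = n * y :=
        fun x hx => ⟨_, hfp x, f x, hx, by group⟩
      refine S.not_dvd_index ?_
      rw [← Subgroup.index_comap_of_surjective (S : Subgroup L) hf]
      refine not_normal_abelian htd U fun x hx y hy => ?_
      obtain ⟨n, hn, a, ha, rfl⟩ := hdec x hx
      obtain ⟨m, hm, b, hb, rfl⟩ := hdec y hy
      have e1 : (a : G) * m = m * a := hc S a ha m hm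
      have e2 : (b : G) * n = n * b := hc S b hb n hn
      have e3 : n * m = m * n := congrArg Subtype.val (hNc ⟨n, hn⟩ ⟨m, hm⟩)
      have e4 : (a : G) * b = b * a := congrArg Subtype.val (hSc a ha b hb)
      calc n * a * (m * b) = n * (a * m) * b := by group
        _ = (n * m) * (a * b) := by rw [e1]; group
        _ = m * (n * b) * a := by rw [e3, e4]; group
        _ = m * b * (n * a) := by rw [← e2]; group
    · set U : Subgroup G := (S : Subgroup L).map L.subtype with hU
      haveI : U.Normal := ⟨by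
        rintro _ ⟨a, ha, rfl⟩ g
        refine ⟨f g * a * (f g)⁻¹, hSn.conj_mem a ha (f g), ?_⟩
        set n := g * ((f g : L) : G)⁻¹ with hn
        have hnN : n ∈ N := hfp g
        have e : g = n * ((f g : L) : G) := by rw [hn]; group
        show ((f g * a * (f g)⁻¹ : L) : G) = g * (a : G) * g⁻¹
        have e1 := hc S _ (hSn.conj_mem a ha (f g)) n hnN
        rw [Subgroup.coe_mul, Subgroup.coe_mul, Subgroup.coe_inv] at e1 ⊢
        conv_rhs => rw [e]
        calc ((f g : L) : G) * a * ((f g : L) : G)⁻¹ = n * (((f g : L) : G) * a * ((f g : L) : G)⁻¹) * n⁻¹ := by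
              rw [← e1, mul_inv_cancel_right]
          _ = _ := by group⟩
      have hUc : ∀ x ∈ U, ∀ y ∈ U, x * y = y * x := by
        rintro _ ⟨a, ha, rfl⟩ _ ⟨b, hb, rfl⟩
        exact congrArg Subtype.val (hSc a ha b hb)
      have h := not_normal_abelian htd U hUc
      rw [hU, Subgroup.index_map_subtype] at h
      rcases (Fact.out : t.Prime).dvd_mul.1 h with h' | h'
      · exact S.not_dvd_index h'
      · have hidx : L.index = Nat.card N := by
          have hc' : Subgroup.IsComplement' N L := Subgroup.isComplement'_of_disjoint_and_mul_eq_univ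
            (disjoint_iff.2 hinf) (by rw [← Subgroup.normal_mul, hsup, Subgroup.coe_top])
          exact hc'.index_eq_card
        obtain ⟨k, hk⟩ := IsPGroup.iff_card.1 hNp
        rw [hidx, hk] at h'
        exact hlt ((Nat.prime_dvd_prime_iff_eq Fact.out hl.out).1 ((Fact.out : t.Prime).dvd_of_dvd_pow h')).symm
  rcases hres with h | h
  · exact fin (Or.inl rfl) hqd h
  · exact fin (Or.inr rfl) hrd h

end Cfsg.Agent.Char.Palfy
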