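import Cfsg.Agent.Lib.Char.Palfy.Pairing

/-!
# A minimal normal `p`-subgroup
-/

set_option linter.style.haveILetI false
set_option linter.unusedSectionVars false

namespace Cfsg.Agent.Char.Palfy

open Cfsg SqfreeDeg
open scoped commutatorElement

universe u

variable {G : Type u} [Group G] [Fintype G]

theorem deg_one_or_dvd_pGroup {H : Type u} [Group H] [Fintype H] {p : ℕ} [hp : Fact p.Prime]
    (hH : IsPGroup p H) (ψ : IrrCharacter H) :
    deg (ψ : H → ℂ) = 1 ∨ p ∣ deg (ψ : H → ℂ) := by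
  obtain ⟨n, hn⟩ := IsPGroup.iff_card.1 hH
  obtain ⟨k, -, hk⟩ := (Nat.dvd_prime_pow hp.out).1 (hn ▸ deg_dvd_card ψ.2)
  rcases Nat.eq_zero_or_pos k with rfl | hk0
  · exact Or.inl (by rw [hk, pow_zero])
  · exact Or.inr (hk ▸ dvd_pow_self p hk0.ne')

/-- Orbit length of a character in a split extension. -/
theorem card_cliffOrbit_split (N : Subgroup G) [N.Normal] [Fintype N] (L : Subgroup G)
    (hinf : N ⊓ L = ⊥) (hsup : N ⊔ L = ⊤) (θ : IrrCharacter N) :
    (cliffOrbit N θ).card = (inertiaH N L θ).index := by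
  classical
  obtain ⟨f, hf, -, hfp⟩ := exists_proj_top N L hinf hsup
  set K : Subgroup G := (inertiaH N L θ).comap f
  have hiff : ∀ g : G, irrComp (MulAut.conjNormal g) θ = θ ↔ g ∈ K := by
    intro g
    show _ ↔ f g ∈ inertiaH N L θ
    rw [mem_inertiaH]
    have e : irrComp (MulAut.conjNormal g) θ = irrComp (MulAut.conjNormal ((f g : L) : G)) θ := by
      refine Subtype.ext (funext fun m => ?_)
      rw [irrComp_apply, irrComp_apply]
      set n := g * ((f g : L) : G)⁻¹ with hn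
      have hnN : n ∈ N := hfp g
      rw [show g = n * ((f g : L) : G) by rw [hn]; group, map_mul, MulAut.mul_apply,
        show MulAut.conjNormal n (MulAut.conjNormal ((f g : L) : G) m) =
          (⟨n, hnN⟩ : N) * MulAut.conjNormal ((f g : L) : G) m * (⟨n, hnN⟩ : N)⁻¹ from
          Subtype.ext (by simp [MulAut.conjNormal_apply]),
        isClassFunction_character (irr_isCharacter θ.2)]
      congr 3
      rw [hn]; group
    rw [e]
  have h1 := card_cliffOrbit_mul (N := N) θ
  rw [Nat.card_congr (Equiv.subtypeEquivRight hiff), ← Subgroup.card_mul_index K, mul_comm] at h1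
  rw [Nat.eq_of_mul_eq_mul_left Nat.card_pos h1]
  exact Subgroup.index_comap_of_surjective _ hf

/-- An annihilating subgroup of a pairing has square at most the order. -/
theorem card_sq_le_of_isotropic {M : Type u} [CommGroup M] [Finite M] {W : Type u} [CommGroup W]
    (c : M → M → W) (h1 : ∀ a b d, c a (b * d) = c a b * c a d) (h2 : ∀ a b d, c (a * b) d = c a d * c b d)
    (hnd : ∀ a, a ≠ 1 → ∀ n : W, ∃ b, c a b = n) (v : W →* ℂˣ) (hv : v ≠ 1) (D : Subgroup M)
    (hD : ∀ a ∈ D, ∀ b ∈ D, v (c a b) = 1) : Nat.card D ^ 2 ≤ Nat.card M := by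
  classical
  haveI := finite_linear M
  let E : M →* (M →* ℂˣ) := MonoidHom.mk'
    (fun a => MonoidHom.mk' (fun b => v (c a b)) fun b d => by rw [h1, map_mul])
    fun a b => MonoidHom.ext fun d => by
      show v (c (a * b) d) = v (c a d) * v (c b d)
      rw [h2, map_mul]
  have hEi : Function.Injective E := by
    rw [injective_iff_map_eq_one]
    intro a ha
    by_contra ha1
    exact hv (MonoidHom.ext fun n => by
      obtain ⟨b, rfl⟩ := hnd a ha1 n
      exact DFunLike.congr_fun ha b)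
  have hEb : Function.Surjective E := ((Nat.bijective_iff_injective_and_card E).2
    ⟨hEi, (CommGroup.card_monoidHom_of_hasEnoughRootsOfUnity M ℂ).symm⟩).2
  let Φ : M →* (↥D →* ℂˣ) := (MonoidHom.domRestrictHom D ℂˣ).comp E
  have hΦ : Function.Surjective Φ := (MonoidHom.domRestrict_surjective D (M := ℂ)).comp hEb
  have hker : D ≤ Φ.ker := fun a ha => MonoidHom.ext fun b => hD a ha b b.2
  have hcard : Nat.card M = Nat.card Φ.ker * Nat.card D := by
    rw [← CommGroup.card_monoidHom_of_hasEnoughRootsOfUnity D ℂ, ← Subgroup.card_mul_index Φ.ker,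
      Subgroup.index_ker, MonoidHom.range_eq_top.2 hΦ, Subgroup.card_top]
  rw [hcard, pow_two]
  exact Nat.mul_le_mul_right _ (Subgroup.card_le_of_le hker)

/-- One prime centralises, the other moves: impossible. -/
theorem one_moved {N P : Subgroup G} [P.Normal] [N.Normal] (hd : ∀ x ∈ P, ∀ y ∈ P, ⁅x, y⁆ ∈ N)
    (hz : ∀ n ∈ N, ∀ x ∈ P, n * x = x * n) {p : ℕ} [hp : Fact p.Prime] (hPp : IsPGroup p P) (hNP : N ≤ P)
    (hpow : ∀ n ∈ N, n ^ p = 1) (hlin : ∀ (μ : ↥P →* ℂˣ) (n : N), μ (Subgroup.inclusion hNP n) = 1)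
    (L : Subgroup G) (Q : Subgroup L) [Q.Normal] (hQN : ∀ a ∈ Q, ∀ n ∈ N, ((a : L) : G) * n = n * a)
    (hQp : ¬ p ∣ Nat.card Q) (hQmove : ∃ a ∈ Q, ∃ μ : ↥P →* ℂˣ, dualConj P ((a : L) : G) μ ≠ μ)
    (hrad : ∀ v : ↥N →* ℂˣ, v ≠ 1 → ∀ x : P, (∀ y : P, v (cm hd x y) = 1) →
      ∀ a ∈ Q, ∀ μ : ↥P →* ℂˣ, dualConj P (a : G) μ x = μ x)
    {r : ℕ} [Fact r.Prime]
    (hcover : ∀ μ : ↥P →* ℂˣ, (∃ a ∈ Q, dualConj P ((a : L) : G) μ ≠ μ) →
      ∃ S : Sylow r L, ∀ x ∈ (S : Subgroup L), dualConj P (x : G) μ = μ)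
    (huniq : ∀ v : ↥N →* ℂˣ, v ≠ 1 → ∀ S S' : Sylow r L, (S : Subgroup L) ≤ stabL N L v →
      (S' : Subgroup L) ≤ stabL N L v → S = S')
    (hex : ∀ S : Sylow r L, ∃ v : ↥N →* ℂˣ, v ≠ 1 ∧ (S : Subgroup L) ≤ stabL N L v)
    (hR : ∀ S : Sylow r L, ∃ x ∈ (S : Subgroup L), ∃ n ∈ N, (x : G) * n ≠ n * x) : False := by
  classical
  haveI := finite_linear (P : Type u)
  haveI := finite_linear (N : Type u)
  haveI := Fintype.ofFinite N
  letI : CommGroup N := { (inferInstance : Group N) with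
    mul_comm := fun x y => Subtype.ext (hz x x.2 y (hNP y.2)) }
  set M₁ := movedChars (P := P) L Q with hM₁
  obtain ⟨a₀, ha₀, μ₀, hμ₀⟩ := hQmove
  have hM1ne : (⟨dualConj P ((a₀ : L) : G) μ₀ / μ₀, Subgroup.subset_closure ⟨a₀, ha₀, μ₀, rfl⟩⟩ : M₁) ≠ 1 :=
    fun e => hμ₀ (div_eq_one.1 (congrArg Subtype.val e))
  haveI : Nontrivial M₁ := ⟨⟨_, 1, hM1ne⟩⟩
  -- fixed point free
  have hfpf : ∀ m ∈ M₁, (∀ a ∈ Q, dualConj P ((a : L) : G) m = m) → m = 1 := by
    intro m hm hfix
    haveI := Fintype.ofFinite Q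
    have hnorm : ∀ m' ∈ M₁, ∀ y : P, ∏ a : Q, dualConj P ((a : L) : G) m' y = 1 := by
      intro m' hm'
      induction hm' using Subgroup.closure_induction with
      | mem x hx =>
        obtain ⟨b, hb, μ, rfl⟩ := hx
        intro y
        have e : ∀ a : Q, dualConj P ((a : L) : G) (dualConj P ((b : L) : G) μ / μ) y =
            dualConj P (((a * ⟨b, hb⟩ : Q) : L) : G) μ y / dualConj P ((a : L) : G) μ y := fun a => by
          simp only [dualConj_apply, MonoidHom.div_apply, Subgroup.coe_mul, mul_inv_rev, map_mul, MulAut.mul_apply]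
        rw [Finset.prod_congr rfl fun a _ => e a, Finset.prod_div_distrib, div_eq_one]
        exact Fintype.prod_equiv (Equiv.mulRight (⟨b, hb⟩ : Q)) _ _ fun a => rfl
      | one => intro y; simp [dualConj_apply]
      | mul x x' _ _ hx hx' =>
        intro y
        simp only [dualConj_apply, MonoidHom.mul_apply, Finset.prod_mul_distrib] at hx hx' ⊢
        rw [hx, hx', one_mul]
      | inv x _ hx =>
        intro y
        simp only [dualConj_apply, MonoidHom.inv_apply, Finset.prod_inv_distrib] at hx ⊢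
        rw [hx, inv_one]
    refine MonoidHom.ext fun y => ?_
    have h := hnorm m hm y
    rw [Finset.prod_congr rfl (g := fun _ => m y) (fun a _ => by rw [hfix a a.2]), Finset.prod_const,
      Finset.card_univ, ← Nat.card_eq_fintype_card] at h
    obtain ⟨k, hk⟩ := IsPGroup.iff_orderOf.1 hPp y
    exact orderOf_eq_one_iff.1 (Nat.Coprime.eq_one_of_dvd
      (Nat.Coprime.coprime_dvd_left (hk ▸ orderOf_map_dvd m y) (Nat.Coprime.pow_left k
        ((hp.out.coprime_iff_not_dvd).2 hQp))) (orderOf_dvd_of_pow_eq_one h))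
  -- fixed subgroups
  let C : Sylow r L → Subgroup M₁ := fun S =>
    { carrier := {m | ∀ x ∈ (S : Subgroup L), dualConj P (x : G) (m : ↥P →* ℂˣ) = m}
      mul_mem' := fun {m m'} hm hm' x hx => by
        refine MonoidHom.ext fun y => ?_
        rw [dualConj_apply, Subgroup.coe_mul, MonoidHom.mul_apply, MonoidHom.mul_apply, ← dualConj_apply P,
          ← dualConj_apply P, hm x hx, hm' x hx]
      one_mem' := fun x _ => MonoidHom.ext fun y => by simp [dualConj_apply]
      inv_mem' := fun {m} hm x hx => by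
        refine MonoidHom.ext fun y => ?_
        rw [dualConj_apply, Subgroup.coe_inv, MonoidHom.inv_apply, MonoidHom.inv_apply, ← dualConj_apply P,
          hm x hx] }
  choose vS hvS1 hvS using hex
  -- the order of N
  haveI : Nonempty (Sylow r L) := inferInstance
  obtain ⟨S₀⟩ := (inferInstance : Nonempty (Sylow r L))
  have hN2 : Nat.card N ^ 2 ≤ Nat.card M₁ := by
    obtain ⟨c, c1, c2, c3, c4, -, -⟩ := exists_pairing hd hz L Q hPp hNP hlin hQN hQp hrad (vS S₀) (hvS1 S₀)
    have hexp : ∀ a : M₁, a ^ p = 1 := fun a => by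
      obtain ⟨c', _, _, _, _, _, c6⟩ := exists_pairing hd hz L Q hPp hNP hlin hQN hQp hrad (vS S₀) (hvS1 S₀)
      rcases c6 a with h | ⟨n, hn, hne⟩
      · exact Subtype.ext h
      · exact absurd (hpow n hn) hne
    have hA : ∀ a : Additive M₁, p • a = 0 := fun a => by
      show Additive.ofMul (a.toMul ^ p) = 0
      rw [hexp]; rfl
    have hW : ∀ a : Additive N, p • a = 0 := fun a => by
      show Additive.ofMul (a.toMul ^ p) = 0
      rw [show (a.toMul : N) ^ p = 1 from Subtype.ext (hpow _ a.toMul.2)]; rfl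
    letI i1 : Module (ZMod p) (Additive M₁) := @AddCommGroup.zmodModule p (Additive M₁) _ hA
    letI i2 : Module (ZMod p) (Additive N) := @AddCommGroup.zmodModule p (Additive N) _ hW
    let g₁ : Additive M₁ → (Additive M₁ →+ Additive N) := fun a =>
      AddMonoidHom.mk' (fun b => Additive.ofMul (c a.toMul b.toMul)) fun b d =>
        congrArg Additive.ofMul (c1 _ _ _)
    have hg₁ : ∀ a b d, g₁ (a + b) d = g₁ a d + g₁ b d := fun a b d =>
      congrArg Additive.ofMul (c2 a.toMul b.toMul d.toMul)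
    let c' : Additive M₁ →ₗ[ZMod p] Additive M₁ →ₗ[ZMod p] Additive N :=
      LinearMap.mk₂ (ZMod p) (fun a b => g₁ a b) hg₁
        (fun k a b => ZMod.map_smul (AddMonoidHom.mk' (fun a => g₁ a b) fun a a' => hg₁ a a' b) k a)
        (fun a b d => map_add (g₁ a) b d) (fun k a b => ZMod.map_smul (g₁ a) k b)
    haveI : Finite (Additive M₁) := inferInstanceAs (Finite M₁)
    haveI : Finite (Additive N) := inferInstanceAs (Finite N)
    have h := card_sq_le c' (fun a => congrArg Additive.ofMul (c3 a.toMul))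
      ⟨Additive.ofMul _, fun e => hM1ne (congrArg Additive.toMul e)⟩ fun a ha n => by
        obtain ⟨b, hb⟩ := c4 a.toMul (fun e => ha (congrArg Additive.ofMul e)) n.toMul
        refine ⟨Additive.ofMul b, ?_⟩
        show Additive.ofMul (c a.toMul b) = n
        rw [hb]; rfl
    exact h
  -- the fixed subgroups are small
  have hC2 : ∀ S, Nat.card (C S) ^ 2 ≤ Nat.card M₁ := by
    intro S
    obtain ⟨c, c1, c2, -, c4, c5, -⟩ := exists_pairing hd hz L Q hPp hNP hlin hQN hQp hrad (vS S) (hvS1 S)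
    let CN : Subgroup N :=
      { carrier := {n | ∀ x ∈ (S : Subgroup L), MulAut.conjNormal (x : G) n = n}
        mul_mem' := fun ha hb x hx => by rw [map_mul, ha x hx, hb x hx]
        one_mem' := fun x _ => map_one _
        inv_mem' := fun ha x hx => by rw [map_inv, ha x hx] }
    obtain ⟨x, hx, n, hn, hxn⟩ := hR S
    have hnC : (⟨n, hn⟩ : N) ∉ CN := fun h => hxn (by
      have := congrArg Subtype.val (h x hx)
      rw [MulAut.conjNormal_apply] at this
      exact mul_inv_eq_iff_eq_mul.1 this)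
    obtain ⟨v, hvC, hvn⟩ : ∃ v : ↥N →* ℂˣ, (∀ y ∈ CN, v y = 1) ∧ v ⟨n, hn⟩ ≠ 1 := by
      have := (CommGroup.forall_monoidHom_apply_eq_one_iff (G := ↥N) (M := ℂ) CN ⟨n, hn⟩).not.2 hnC
      push Not at this
      exact this
    exact card_sq_le_of_isotropic c c1 c2 c4 v (fun e => hvn (by rw [e]; rfl)) (C S) fun a ha b hb =>
      hvC _ fun y hy => c5 y (hvS S hy) a b (ha y hy) (hb y hy)
  -- counting
  haveI : Fintype (Sylow r L) := Fintype.ofFinite _
  haveI : Fintype M₁ := Fintype.ofFinite _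
  have hn : Fintype.card (Sylow r L) + 1 ≤ Nat.card N := by
    haveI := Fintype.ofFinite (↥N →* ℂˣ)
    have hinj : Function.Injective vS := fun S S' e => huniq _ (hvS1 S) S S' (hvS S) (e ▸ hvS S')
    have h1 : (Finset.univ.image vS) ⊆ (Finset.univ.erase (1 : ↥N →* ℂˣ)) := by
      intro v hv
      obtain ⟨S, -, rfl⟩ := Finset.mem_image.1 hv
      exact Finset.mem_erase.2 ⟨hvS1 S, Finset.mem_univ _⟩
    have h2 := Finset.card_le_card h1
    rw [Finset.card_image_of_injective _ hinj, Finset.card_univ, Finset.card_erase_of_mem (Finset.mem_univ _),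
      Finset.card_univ, ← Nat.card_eq_fintype_card (α := ↥N →* ℂˣ),
      CommGroup.card_monoidHom_of_hasEnoughRootsOfUnity] at h2
    have : 0 < Nat.card N := Nat.card_pos
    omega
  have hcov : Nat.card M₁ ≤ 1 + ∑ S : Sylow r L, (Nat.card (C S) - 1) := by
    have hsub : (Finset.univ : Finset M₁) ⊆ insert 1
        (Finset.univ.biUnion fun S : Sylow r L => (Finset.univ.filter fun m => m ∈ C S).erase 1) := by
      intro m _
      rcases eq_or_ne m 1 with rfl | hm
      · exact Finset.mem_insert_self _ _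
      · refine Finset.mem_insert_of_mem (Finset.mem_biUnion.2 ?_)
        obtain ⟨S, hS⟩ := hcover m.1 (by
          by_contra hall
          push Not at hall
          exact hm (Subtype.ext (hfpf m.1 m.2 hall)))
        exact ⟨S, Finset.mem_univ _, Finset.mem_erase.2 ⟨hm, Finset.mem_filter.2 ⟨Finset.mem_univ _, hS⟩⟩⟩
    have h := (Finset.card_le_card hsub).trans (Finset.card_insert_le _ _)
    rw [Finset.card_univ, ← Nat.card_eq_fintype_card] at h
    refine h.trans ?_
    rw [add_comm 1]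
    refine Nat.add_le_add_right (Finset.card_biUnion_le.trans (le_of_eq ?_)) 1
    refine Finset.sum_congr rfl fun S _ => ?_
    rw [Finset.card_erase_of_mem (Finset.mem_filter.2 ⟨Finset.mem_univ _, one_mem _⟩),
      Nat.card_eq_fintype_card, Fintype.card_subtype]
  set b := (Finset.univ.sup fun S : Sylow r L => Nat.card (C S)) with hb
  obtain ⟨S₁, -, hS₁⟩ := Finset.exists_mem_eq_sup Finset.univ Finset.univ_nonempty (fun S : Sylow r L => Nat.card (C S))
  have hb2 : b ^ 2 ≤ Nat.card M₁ := by rw [hb, hS₁]; exact hC2 S₁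
  have hbound : Nat.card M₁ ≤ 1 + (Nat.card N - 1) * (b - 1) := by
    refine hcov.trans (Nat.add_le_add_left ?_ 1)
    refine (Finset.sum_le_card_nsmul _ _ (b - 1) fun S _ => Nat.sub_le_sub_right
      (Finset.le_sup (f := fun S : Sylow r L => Nat.card (C S)) (Finset.mem_univ S)) 1).trans ?_
    rw [Finset.card_univ, smul_eq_mul]
    exact Nat.mul_le_mul_right _ (by omega)
  have hM2 : 2 ≤ Nat.card M₁ := Finite.one_lt_card
  have hNpos : 1 ≤ Nat.card N := Nat.card_pos
  have hbpos : 1 ≤ b := by rw [hb, hS₁]; exact Nat.card_pos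
  obtain ⟨n', hn'⟩ : ∃ n', Nat.card N = n' + 1 := ⟨_, (Nat.sub_add_cancel hNpos).symm⟩
  obtain ⟨b', hb'⟩ : ∃ b', b = b' + 1 := ⟨_, (Nat.sub_add_cancel hbpos).symm⟩
  rw [hn'] at hN2 hbound
  rw [hb'] at hb2 hbound
  simp only [Nat.add_sub_cancel] at hbound
  nlinarith [Nat.zero_le n', Nat.zero_le b', Nat.mul_le_mul (le_refl n') (le_refl b')]

/-- The case of a minimal normal `p`-subgroup. -/
theorem caseC [Group.IsSolvable G] {p q r : ℕ} [hp : Fact p.Prime] [hq : Fact q.Prime] [hr : Fact r.Prime]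
    (hpq' : p ≠ q) (hpr' : p ≠ r) (hqr' : q ≠ r)
    (hpq : ∀ χ : IrrCharacter G, ¬ p * q ∣ deg (χ : G → ℂ))
    (hpr : ∀ χ : IrrCharacter G, ¬ p * r ∣ deg (χ : G → ℂ))
    (hqr : ∀ χ : IrrCharacter G, ¬ q * r ∣ deg (χ : G → ℂ))
    (hpd : ∃ χ : IrrCharacter G, p ∣ deg (χ : G → ℂ)) (hqd : ∃ χ : IrrCharacter G, q ∣ deg (χ : G → ℂ))
    (hrd : ∃ χ : IrrCharacter G, r ∣ deg (χ : G → ℂ))
    (N : Subgroup G) [N.Normal] (hN : N ≠ ⊥) (hmin : ∀ K : Subgroup G, K.Normal → K ≤ N → K = ⊥ ∨ K = N)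
    (hNc : ∀ a b : N, a * b = b * a) (hpow : ∀ x ∈ N, x ^ p = 1)
    (hNp : IsPGroup p N) (Ps : Sylow p G) [hPn : (Ps : Subgroup G).Normal] (hNP : N ≤ (Ps : Subgroup G))
    (hd : ∀ x ∈ (Ps : Subgroup G), ∀ y ∈ (Ps : Subgroup G), ⁅x, y⁆ ∈ N) : False := by
  classical
  set P : Subgroup G := (Ps : Subgroup G) with hP
  haveI := Fintype.ofFinite P
  haveI := Fintype.ofFinite N
  have hPp : IsPGroup p P := Ps.isPGroup'
  -- N is the derived subgroup and is central
  have hder : ⁅P, P⁆ = N := by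
    refine (hmin _ inferInstance ((Subgroup.commutator_le).2 hd)).resolve_left fun e => ?_
    exact Ps.not_dvd_index (not_normal_abelian hpd P fun x hx y hy =>
      commutatorElement_eq_one_iff_mul_comm.1 (Subgroup.mem_bot.1 (e ▸ Subgroup.commutator_mem_commutator hx hy)))
  have hz : ∀ n ∈ N, ∀ x ∈ P, n * x = x * n := by
    have h : N ⊓ Subgroup.centralizer (P : Set G) = N := by
      haveI : (N ⊓ Subgroup.centralizer (P : Set G)).Normal := Subgroup.normal_inf_normal _ _
      refine (hmin _ inferInstance inf_le_left).resolve_left fun e => ?_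
      haveI : Nontrivial N := (Subgroup.nontrivial_iff_ne_bot N).2 hN
      obtain ⟨k, hk0, hk⟩ := IsPGroup.nontrivial_iff_card hNp |>.1 inferInstance
      letI : MulAction P N := MulAction.compHom N ((MulAut.conjNormal (H := N)).comp P.subtype)
      obtain ⟨w, hw, hw1⟩ := hPp.exists_fixed_point_of_prime_dvd_card_of_fixed_point (α := N)
        (hk ▸ dvd_pow_self p (by omega)) (a := 1) (fun g => by show MulAut.conjNormal (g : G) (1 : N) = 1; exact map_one _)
      refine hw1 (Eq.symm (Subtype.ext (Subgroup.mem_bot.1 (e ▸ (⟨w.2, Subgroup.mem_centralizer_iff.2 fun x hx => ?_⟩ :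
        (w : G) ∈ N ⊓ Subgroup.centralizer (P : Set G))))))
      have h1 : MulAut.conjNormal (x : G) w = w := hw ⟨x, hx⟩
      have h2 := congrArg Subtype.val h1
      rw [MulAut.conjNormal_apply] at h2
      exact mul_inv_eq_iff_eq_mul.1 h2
    exact fun n hn x hx => (Subgroup.mem_centralizer_iff.1 (h.ge hn).2 x hx).symm
  have hlin : ∀ (μ : ↥P →* ℂˣ) (n : N), μ (Subgroup.inclusion hNP n) = 1 := by
    intro μ n
    have hle : ⁅P, P⁆ ≤ μ.ker.map P.subtype := by
      rw [Subgroup.commutator_le]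
      intro x hx y hy
      refine ⟨⁅(⟨x, hx⟩ : P), ⟨y, hy⟩⁆, ?_, by simp [commutatorElement_def]⟩
      show μ _ = 1
      rw [map_commutatorElement, commutatorElement_eq_one_iff_mul_comm, mul_comm]
    obtain ⟨m, hm, e⟩ := hle (hder.ge n.2)
    rw [show Subgroup.inclusion hNP n = m from Subtype.ext e.symm]
    exact hm
  -- a complement
  obtain ⟨L, hL⟩ := Subgroup.exists_right_complement'_of_coprime (N := P) Ps.card_coprime_index
  have hinf : P ⊓ L = ⊥ := hL.disjoint.eq_bot
  have hsup : P ⊔ L = ⊤ := hL.sup_eq_top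
  have hLidx : L.index = Nat.card P := hL.index_eq_card
  have hLco : ¬ p ∣ Nat.card L := by
    rw [← hL.symm.index_eq_card]; exact Ps.not_dvd_index
  obtain ⟨f, hf, hfk, hfp⟩ := exists_proj_top P L hinf hsup
  -- the invariant characters and their stabilisers
  have hθ : ∀ v : ↥N →* ℂˣ, ∃ θ : IrrCharacter P, OverLin hNP v θ ∧ inertiaH P L θ = stabL N L v :=
    fun v => exists_invariant_over hd hz hNP hpow L hLco v
  have hdegp : ∀ v : ↥N →* ℂˣ, v ≠ 1 → ∀ θ : IrrCharacter P, OverLin hNP v θ → p ∣ deg (θ : P → ℂ) := by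
    intro v hv θ hθv
    refine (deg_one_or_dvd_pGroup hPp θ).resolve_left fun h1 => hv (MonoidHom.ext fun n => Units.ext ?_)
    obtain ⟨c, hc⟩ := exists_hom_of_degree_one (irr_isCharacter θ.2)
      (by rw [char_one_eq_deg (irr_isCharacter θ.2), h1, Nat.cast_one])
    have h2 := hθv n
    rw [h1, hc] at h2
    simp only [Nat.cast_one, one_mul, hlin] at h2
    exact h2.symm
  have hnot : ∀ (t : ℕ), t = q ∨ t = r → ∀ v : ↥N →* ℂˣ, v ≠ 1 → ∀ θ : IrrCharacter P, OverLin hNP v θ →
      ∀ χ : IrrCharacter G, classInner (fun n : P => (χ : G → ℂ) n) (θ : P → ℂ) ≠ 0 → ¬ t ∣ deg (χ : G → ℂ) := by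
    intro t ht v hv θ hθv χ hχ htd
    have h1 : p ∣ deg (χ : G → ℂ) := ((hdegp v hv θ hθv).trans (dvd_mul_left _ _)).trans (orbit_mul_deg_dvd P χ θ hχ)
    rcases ht with rfl | rfl
    · exact hpq χ (Nat.Coprime.mul_dvd_of_dvd_of_dvd ((Nat.coprime_primes hp.out hq.out).2 hpq') h1 htd)
    · exact hpr χ (Nat.Coprime.mul_dvd_of_dvd_of_dvd ((Nat.coprime_primes hp.out hr.out).2 hpr') h1 htd)
  have hco : ∀ θ : IrrCharacter P, (deg (θ : P → ℂ)).Coprime (Nat.card L) := fun θ => by
    obtain ⟨a, ha⟩ := IsPGroup.iff_card.1 hPp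
    exact Nat.Coprime.coprime_dvd_left (ha ▸ deg_dvd_card θ.2) (Nat.Coprime.pow_left a ((hp.out.coprime_iff_not_dvd).2 hLco))
  have hst : ∀ t : ℕ, (ht : t = q ∨ t = r) → ∀ v : ↥N →* ℂˣ, v ≠ 1 → ¬ t ∣ (stabL N L v).index ∧
      ∃ P : Subgroup (stabL N L v), P.Normal ∧ (∀ x ∈ P, ∀ y ∈ P, x * y = y * x) ∧ IsPGroup t P ∧
        ¬ t ∣ P.index := by
    intro t ht v hv
    haveI : Fact t.Prime := by rcases ht with rfl | rfl <;> assumption
    obtain ⟨θ, hθv, hθI⟩ := hθ v
    have h := split_inertia P L hinf hsup inferInstance θ (hco θ) (t := t) (hnot t ht v hv θ hθv)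
    rwa [hθI] at h
  have hres := sylow_centralizes N hNc hp.out hpow hN hmin L (fun g => ⟨g * ((f g : L) : G)⁻¹,
      Subgroup.mem_centralizer_iff.2 fun n hn => hz n hn _ (hfp g), _, (f g).2, by group⟩)
    inferInstance hqr' (fun χ hd' => by
      obtain ⟨ψ, hψ⟩ := exists_deg_comp_surjective f hf χ
      exact hqr ψ (hψ ▸ hd'))
    (fun t ht v hv => by
      obtain ⟨h1, P', h2, -, h3, h4⟩ := hst t ht v hv
      exact ⟨h1, P', h2, h3, h4⟩)
  obtain ⟨v, hv⟩ : ∃ v : ↥N →* ℂˣ, v ≠ 1 := by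
    obtain ⟨n, hn⟩ := (Subgroup.ne_bot_iff_exists_ne_one).1 hN
    by_contra hall
    push Not at hall
    exact hn (separate hNc fun v => by rw [hall v]; rfl)
  -- a centralising Sylow subgroup is normal abelian and moves a linear character
  have hnorm : ∀ {t : ℕ} [Fact t.Prime], (t = q ∨ t = r) → (∃ χ : IrrCharacter G, t ∣ deg (χ : G → ℂ)) → t ≠ p →
      (∀ S : Sylow t L, ∀ x ∈ (S : Subgroup L), ∀ n ∈ N, (x : G) * n = n * x) →
      ∃ S : Sylow t L, (S : Subgroup L).Normal ∧ (∀ a ∈ (S : Subgroup L), ∀ n ∈ N, (a : G) * n = n * a) ∧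
        ¬ p ∣ Nat.card (S : Subgroup L) ∧ ∃ a ∈ (S : Subgroup L), ∃ μ : ↥P →* ℂˣ, dualConj P ((a : L) : G) μ ≠ μ := by
    intro t htf ht htd htp hc
    obtain ⟨-, P', hP'n, hP'c, hP'p, hP'i⟩ := hst t ht v hv
    haveI := hP'n
    obtain ⟨S⟩ : Nonempty (Sylow t L) := inferInstance
    obtain ⟨hSn, hSc⟩ := sylow_normal_of_centralizes N L hc P' hP'c hP'p hP'i S
    refine ⟨S, hSn, hc S, fun h => hLco (h.trans (Subgroup.card_subgroup_dvd_card _)), ?_⟩
    by_contra hall
    push Not at hall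
    -- then S centralises P
    have hcent : ∀ a ∈ (S : Subgroup L), ∀ y ∈ P, (a : G) * y = y * a := by
      intro a ha y hy
      set d : G := y⁻¹ * ((a : G) * y * (a : G)⁻¹) with hd'
      have hdP : d ∈ P := P.mul_mem (P.inv_mem hy) (hPn.conj_mem y hy _)
      have hdN : d ∈ N := by
        by_contra hnot'
        haveI : (N.subgroupOf P).Normal := Subgroup.Normal.comap inferInstance _
        letI : CommGroup (P ⧸ N.subgroupOf P) :=
          { (inferInstance : Group (P ⧸ N.subgroupOf P)) with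
            mul_comm := fun a b => by
              obtain ⟨x, rfl⟩ := QuotientGroup.mk_surjective a
              obtain ⟨z, rfl⟩ := QuotientGroup.mk_surjective b
              rw [← QuotientGroup.mk_mul, ← QuotientGroup.mk_mul, QuotientGroup.eq]
              have := hd _ (P.inv_mem z.2) _ (P.inv_mem x.2)
              simpa [Subgroup.mem_subgroupOf, commutatorElement_def, mul_assoc] using this }
        have hne : (QuotientGroup.mk (⟨d, hdP⟩ : P) : P ⧸ N.subgroupOf P) ≠ 1 := fun e =>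
          hnot' (Subgroup.mem_subgroupOf.1 ((QuotientGroup.eq_one_iff (⟨d, hdP⟩ : P)).1 e))
        obtain ⟨w, hw⟩ := CommGroup.exists_apply_ne_one_of_hasEnoughRootsOfUnity (P ⧸ N.subgroupOf P) ℂ hne
        refine hw ?_
        set μ := w.comp (QuotientGroup.mk' (N.subgroupOf P))
        show μ ⟨d, hdP⟩ = 1
        have h1 : μ (MulAut.conjNormal (((a⁻¹ : L) : G))⁻¹ ⟨y, hy⟩) = μ ⟨y, hy⟩ := by
          rw [← dualConj_apply P, hall a⁻¹ (Subgroup.inv_mem _ ha) μ]
        rw [show (⟨d, hdP⟩ : P) = (⟨y, hy⟩ : P)⁻¹ * MulAut.conjNormal (((a⁻¹ : L) : G))⁻¹ ⟨y, hy⟩ from Subtype.ext (by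
          show d = (y : G)⁻¹ * ((MulAut.conjNormal (((a⁻¹ : L) : G))⁻¹ (⟨y, hy⟩ : P) : P) : G)
          rw [MulAut.conjNormal_apply, hd']
          simp), map_mul, map_inv, h1, inv_mul_cancel]
      have had : (a : G) * d = d * a := hc S a ha d hdN
      have hpow' : ∀ n : ℕ, (a : G) ^ n * y * ((a : G) ^ n)⁻¹ = y * d ^ n := by
        intro n
        induction n with
        | zero => simp
        | succ n ih =>
          have e : (a : G) * d ^ n * (a : G)⁻¹ = d ^ n := by
            rw [(Commute.pow_right had n).eq, mul_inv_cancel_right]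
          rw [pow_succ' (a : G), mul_inv_rev,
            show (a : G) * (a : G) ^ n * y * (((a : G) ^ n)⁻¹ * (a : G)⁻¹) =
              (a : G) * ((a : G) ^ n * y * ((a : G) ^ n)⁻¹) * (a : G)⁻¹ by group, ih,
            show (a : G) * (y * d ^ n) * (a : G)⁻¹ = ((a : G) * y * (a : G)⁻¹) * ((a : G) * d ^ n * (a : G)⁻¹) by group, e,
            show (a : G) * y * (a : G)⁻¹ = y * d by rw [hd']; group, pow_succ', mul_assoc]
      have h2 := hpow' (orderOf (a : G))
      rw [pow_orderOf_eq_one, one_mul, inv_one, mul_one, left_eq_mul] at h2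
      have h3 : orderOf d ∣ p := orderOf_dvd_of_pow_eq_one (hpow d hdN)
      have h4 : orderOf d ∣ Nat.card L := by
        refine (orderOf_dvd_of_pow_eq_one h2).trans ?_
        rw [Subgroup.orderOf_coe]
        exact orderOf_dvd_natCard a
      have hd1 : d = 1 := orderOf_eq_one_iff.1 (Nat.Coprime.eq_one_of_dvd
        (Nat.Coprime.coprime_dvd_left h3 ((hp.out.coprime_iff_not_dvd).2 hLco)) h4)
      rw [hd', inv_mul_eq_one] at hd1
      exact mul_inv_eq_iff_eq_mul.1 hd1.symm
    set U : Subgroup G := (S : Subgroup L).map L.subtype with hU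
    haveI : U.Normal := ⟨by
      rintro _ ⟨a, ha, rfl⟩ g
      refine ⟨f g * a * (f g)⁻¹, hSn.conj_mem a ha (f g), ?_⟩
      set n := g * ((f g : L) : G)⁻¹ with hn
      have e : g = n * ((f g : L) : G) := by rw [hn]; group
      show ((f g * a * (f g)⁻¹ : L) : G) = g * (a : G) * g⁻¹
      have e1 := hcent _ (hSn.conj_mem a ha (f g)) n (hfp g)
      rw [Subgroup.coe_mul, Subgroup.coe_mul, Subgroup.coe_inv] at e1 ⊢
      conv_rhs => rw [e]
      calc ((f g : L) : G) * a * ((f g : L) : G)⁻¹ = n * (((f g : L) : G) * a * ((f g : L) : G)⁻¹) * n⁻¹ := by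
            rw [← e1, mul_inv_cancel_right]
        _ = _ := by group⟩
    have h := not_normal_abelian htd U (by
      rintro _ ⟨a, ha, rfl⟩ _ ⟨b, hb, rfl⟩
      exact congrArg Subtype.val (hSc a ha b hb))
    rw [hU, Subgroup.index_map_subtype] at h
    rcases (Fact.out : t.Prime).dvd_mul.1 h with h' | h'
    · exact S.not_dvd_index h'
    · obtain ⟨k, hk⟩ := IsPGroup.iff_card.1 hPp
      rw [hLidx, hk] at h'
      exact htp ((Nat.prime_dvd_prime_iff_eq Fact.out hp.out).1 ((Fact.out : t.Prime).dvd_of_dvd_pow h'))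
  -- orbits of linear characters of P
  have horb : ∀ (μ : ↥P →* ℂˣ), ∃ χ : IrrCharacter G, (stabL P L μ).index ∣ deg (χ : G → ℂ) := by
    intro μ
    obtain ⟨χ, hχ⟩ := orbit_dvd P (linChar μ)
    rw [card_cliffOrbit_split P L hinf hsup, inertiaH_linChar] at hχ
    exact ⟨χ, (dvd_mul_right _ _).trans hχ⟩
  have hmoved : ∀ {t : ℕ} [Fact t.Prime] (S : Sylow t L), (S : Subgroup L).Normal →
      ∀ μ : ↥P →* ℂˣ, (∃ a ∈ (S : Subgroup L), dualConj P ((a : L) : G) μ ≠ μ) → t ∣ (stabL P L μ).index := by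
    intro t _ S hSn μ ⟨a, ha, hne⟩
    by_contra hnd
    obtain ⟨T⟩ : Nonempty (Sylow t (stabL P L μ)) := inferInstance
    have hT : ¬ t ∣ ((T : Subgroup (stabL P L μ)).map (stabL P L μ).subtype).index := by
      rw [Subgroup.index_map_subtype]
      exact fun h => ((Fact.out : t.Prime).dvd_mul.1 h).elim T.not_dvd_index hnd
    haveI := Sylow.unique_of_normal S hSn
    have e : (T.isPGroup'.map (stabL P L μ).subtype).toSylow hT = S := Subsingleton.elim _ _
    exact hne (Subgroup.map_subtype_le (H := stabL P L μ) (T : Subgroup (stabL P L μ)) (by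
      have h' := (congrArg (fun X : Sylow t L => (X : Subgroup L)) e).ge ha
      exact h'))
  have fin : ∀ {t s : ℕ} [Fact t.Prime] [Fact s.Prime], (t = q ∧ s = r ∨ t = r ∧ s = q) →
      (∀ S : Sylow t L, ∀ x ∈ (S : Subgroup L), ∀ n ∈ N, (x : G) * n = n * x) → False := by
    intro t s _ _ hts hc
    have htdeg : ∃ χ : IrrCharacter G, t ∣ deg (χ : G → ℂ) := by
      rcases hts with ⟨rfl, -⟩ | ⟨rfl, -⟩ <;> assumption
    have hsdeg : ∃ χ : IrrCharacter G, s ∣ deg (χ : G → ℂ) := by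
      rcases hts with ⟨-, rfl⟩ | ⟨-, rfl⟩ <;> assumption
    have htpne : t ≠ p ∧ s ≠ p ∧ t ≠ s ∧ (t = q ∨ t = r) ∧ (s = q ∨ s = r) := by
      rcases hts with ⟨rfl, rfl⟩ | ⟨rfl, rfl⟩
      · exact ⟨hpq'.symm, hpr'.symm, hqr', Or.inl rfl, Or.inr rfl⟩
      · exact ⟨hpr'.symm, hpq'.symm, hqr'.symm, Or.inr rfl, Or.inl rfl⟩
    obtain ⟨htp, hsp, hne, ht', hs'⟩ := htpne
    have hts_deg : ∀ χ : IrrCharacter G, t ∣ deg (χ : G → ℂ) → s ∣ deg (χ : G → ℂ) → False := by
      intro χ h1 h2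
      have h3 := Nat.Coprime.mul_dvd_of_dvd_of_dvd ((Nat.coprime_primes Fact.out Fact.out).2 hne) h1 h2
      rcases hts with ⟨rfl, rfl⟩ | ⟨rfl, rfl⟩
      · exact hqr χ h3
      · exact hqr χ (mul_comm t s ▸ h3)
    obtain ⟨S, hSn, hSN, hSp, a, ha, μ₀, hμ₀⟩ := hnorm ht' htdeg htp hc
    haveI := hSn
    by_cases hsc : ∀ T : Sylow s L, ∀ x ∈ (T : Subgroup L), ∀ n ∈ N, (x : G) * n = n * x
    · -- both centralise
      obtain ⟨T, hTn, -, -, b, hb, μ₁, hμ₁⟩ := hnorm hs' hsdeg hsp hsc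
      have hmul : ∀ (g : G) (x y : ↥P →* ℂˣ), dualConj P g (x * y) = dualConj P g x * dualConj P g y := fun g x y =>
        MonoidHom.ext fun z => by simp [dualConj_apply]
      -- a character moved by both
      obtain ⟨μ, h1, h2⟩ : ∃ μ : ↥P →* ℂˣ, (∃ a ∈ (S : Subgroup L), dualConj P ((a : L) : G) μ ≠ μ) ∧
          (∃ b ∈ (T : Subgroup L), dualConj P ((b : L) : G) μ ≠ μ) := by
        by_contra hno
        push Not at hno
        have e1 : dualConj P ((b : L) : G) μ₀ = μ₀ := hno μ₀ ⟨a, ha, hμ₀⟩ b hb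
        have e2 : dualConj P ((a : L) : G) μ₁ = μ₁ := by
          by_contra hh
          exact hμ₁ (hno μ₁ ⟨a, ha, hh⟩ b hb)
        have e3 := hno (μ₀ * μ₁) ⟨a, ha, by
          rw [hmul, e2]; exact fun h => hμ₀ (mul_right_cancel h)⟩ b hb
        rw [hmul, e1] at e3
        exact hμ₁ (mul_left_cancel e3)
      obtain ⟨χ, hχ⟩ := horb μ
      exact hts_deg χ ((hmoved S hSn μ h1).trans hχ) ((hmoved T hTn μ h2).trans hχ)
    -- one moves
    push Not at hsc
    obtain ⟨T₀, x₀, hx₀, n₀, hn₀, hne₀⟩ := hsc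
    have hplace : ∀ w : ↥N →* ℂˣ, w ≠ 1 → ∃ T : Sylow s L, (T : Subgroup L) ≤ stabL N L w ∧
        ∀ T' : Sylow s L, (T' : Subgroup L) ≤ stabL N L w → T' = T := by
      intro w hw
      obtain ⟨hi, P', hP'n, -, hP'p, hP'i⟩ := hst s hs' w hw
      haveI := hP'n
      have hidx : ¬ s ∣ (P'.map (stabL N L w).subtype).index := by
        rw [Subgroup.index_map_subtype]
        exact fun h => ((Nat.Prime.dvd_mul Fact.out).1 h).elim hP'i hi
      refine ⟨(hP'p.map _).toSylow hidx, Subgroup.map_subtype_le _, fun T' hT' => ?_⟩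
      refine Sylow.ext (T'.is_maximal' (hP'p.map _) fun x hx => ?_).symm
      exact ⟨⟨x, hT' hx⟩, pgroup_le_of_not_dvd_index ((T'.isPGroup').comap_of_injective (stabL N L w).subtype
        (Subgroup.subtype_injective _)) P' hP'i
        (show (⟨x, hT' hx⟩ : stabL N L w) ∈ (T' : Subgroup L).comap _ from hx), rfl⟩
    have hex : ∀ T : Sylow s L, ∃ w : ↥N →* ℂˣ, w ≠ 1 ∧ (T : Subgroup L) ≤ stabL N L w := by
      intro T
      obtain ⟨T₁, hT₁, -⟩ := hplace v hv
      obtain ⟨g, hg⟩ := MulAction.exists_smul_eq L T₁ T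
      refine ⟨dualConj N (g : G) v, fun e => hv ?_, ?_⟩
      · refine MonoidHom.ext fun n => ?_
        have := DFunLike.congr_fun e (MulAut.conjNormal (g : G) n)
        rw [dualConj_apply, ← MulAut.mul_apply, ← map_mul, inv_mul_cancel, map_one, MulAut.one_apply] at this
        exact this
      · rw [← hg, Sylow.coe_subgroup_smul]
        rintro _ ⟨y, hy, rfl⟩
        have h1 : dualConj N (y : G) v = v := hT₁ hy
        show dualConj N ((g * y * g⁻¹ : L) : G) (dualConj N (g : G) v) = dualConj N (g : G) v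
        rw [← MulAut.mul_apply, ← map_mul, Subgroup.coe_mul, Subgroup.coe_mul, Subgroup.coe_inv,
          inv_mul_cancel_right, map_mul, MulAut.mul_apply, h1]
    have huniq : ∀ w : ↥N →* ℂˣ, w ≠ 1 → ∀ T T' : Sylow s L, (T : Subgroup L) ≤ stabL N L w →
        (T' : Subgroup L) ≤ stabL N L w → T = T' := fun w hw T T' h h' => by
      obtain ⟨T₁, -, hu⟩ := hplace w hw
      exact (hu T h).trans (hu T' h').symm
    have hR : ∀ T : Sylow s L, ∃ x ∈ (T : Subgroup L), ∃ n ∈ N, (x : G) * n ≠ n * x := by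
      intro T
      obtain ⟨g, hg⟩ := MulAction.exists_smul_eq L T₀ T
      refine ⟨g * x₀ * g⁻¹, ?_, (g : G) * n₀ * (g : G)⁻¹, Subgroup.Normal.conj_mem inferInstance _ hn₀ _, fun h => hne₀ ?_⟩
      · rw [← hg, Sylow.coe_subgroup_smul]
        exact ⟨x₀, hx₀, rfl⟩
      · rw [Subgroup.coe_mul, Subgroup.coe_mul, Subgroup.coe_inv] at h
        calc (x₀ : G) * n₀ = (g : G)⁻¹ * ((g : G) * x₀ * (g : G)⁻¹ * ((g : G) * n₀ * (g : G)⁻¹)) * g := by group
          _ = (g : G)⁻¹ * ((g : G) * n₀ * (g : G)⁻¹ * ((g : G) * x₀ * (g : G)⁻¹)) * g := by rw [h]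
          _ = n₀ * x₀ := by group
    refine one_moved hd hz hPp hNP hpow hlin L (S : Subgroup L) hSN hSp ⟨a, ha, μ₀, hμ₀⟩ ?_ ?_ huniq hex hR
    · -- radical
      intro w hw x hx b hb μ
      obtain ⟨θ, hθv, -⟩ := hθ w
      have hfixθ : ∀ θ' : IrrCharacter P, OverLin hNP w θ' → ∀ y : P,
          (θ' : P → ℂ) (MulAut.conjNormal ((b : L) : G) y) = (θ' : P → ℂ) y := by
        intro θ' hθ'
        obtain ⟨hi, -⟩ := split_inertia P L hinf hsup inferInstance θ' (hco θ') (t := t) (hnot t ht' w hw θ' hθ')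
        obtain ⟨T⟩ : Nonempty (Sylow t (inertiaH P L θ')) := inferInstance
        have hT : ¬ t ∣ ((T : Subgroup (inertiaH P L θ')).map (inertiaH P L θ').subtype).index := by
          rw [Subgroup.index_map_subtype]
          exact fun h => ((Fact.out : t.Prime).dvd_mul.1 h).elim T.not_dvd_index hi
        haveI := Sylow.unique_of_normal S hSn
        have e : (T.isPGroup'.map (inertiaH P L θ').subtype).toSylow hT = S := Subsingleton.elim _ _
        exact Subgroup.map_subtype_le (H := inertiaH P L θ') (T : Subgroup (inertiaH P L θ'))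
          ((congrArg (fun X : Sylow t L => (X : Subgroup L)) e).ge hb)
      -- twist by μ
      let θ₂ : IrrCharacter P := ⟨fun y => (μ y : ℂ) * (θ : P → ℂ) y, isIrr_linear_mul θ.2 μ⟩
      have hdeg2 : deg (θ₂ : P → ℂ) = deg (θ : P → ℂ) := by
        apply Nat.cast_injective (R := ℂ)
        rw [← char_one_eq_deg (irr_isCharacter θ₂.2), ← char_one_eq_deg (irr_isCharacter θ.2)]
        show (μ 1 : ℂ) * _ = _
        rw [map_one, Units.val_one, one_mul]
      have hover2 : OverLin hNP w θ₂ := fun n => by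
        show (μ _ : ℂ) * (θ : P → ℂ) _ = _
        rw [hlin, Units.val_one, one_mul, hθv n, hdeg2]
      -- the radical gives a non-zero value
      have hnz : (θ : P → ℂ) x ≠ 0 := by
        intro h0
        have hcz : x ∈ TwoDeg.cz θ := by
          rw [TwoDeg.mem_cz_iff_comm]
          intro y z
          have e : x * y * x⁻¹ * y⁻¹ = Subgroup.inclusion hNP (cm hd x y) := Subtype.ext (by
            show (x : G) * y * (x : G)⁻¹ * (y : G)⁻¹ = ⁅(x : G), (y : G)⁆
            rw [commutatorElement_def])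
          have h1 : (θ : P → ℂ) (x * y * x⁻¹ * y⁻¹) = (deg (θ : P → ℂ) : ℂ) := by
            rw [e, hθv, hx y, Units.val_one, mul_one]
          have h2 := scalar_mul θ (g := x * y * x⁻¹ * y⁻¹) (by rw [h1, Complex.norm_natCast]) z
          rw [h1, mul_comm] at h2
          exact mul_left_cancel₀ (Nat.cast_ne_zero.2 (deg_pos θ.2).ne') h2
        have h3 := (TwoDeg.mem_cz_iff θ x).1 hcz
        rw [h0, norm_zero] at h3
        exact Nat.cast_ne_zero.2 (deg_pos θ.2).ne' h3.symm
      set x' : P := MulAut.conjNormal ((b : L) : G)⁻¹ x with hx'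
      have hbx : MulAut.conjNormal ((b : L) : G) x' = x := by
        rw [hx', ← MulAut.mul_apply, ← map_mul, mul_inv_cancel, map_one, MulAut.one_apply]
      have e1 : (θ : P → ℂ) x = (θ : P → ℂ) x' := by
        have := hfixθ θ hθv x'
        rwa [hbx] at this
      have e2 : (μ x : ℂ) * (θ : P → ℂ) x = (μ x' : ℂ) * (θ : P → ℂ) x' := by
        have := hfixθ θ₂ hover2 x'
        rwa [hbx] at this
      rw [← e1] at e2
      rw [dualConj_apply]
      exact (Units.ext (mul_right_cancel₀ hnz e2)).symm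
    · -- covering
      intro μ hμ
      have h1 := hmoved S hSn μ hμ
      obtain ⟨χ, hχ⟩ := horb μ
      have h2 : ¬ s ∣ (stabL P L μ).index := fun h => hts_deg χ (h1.trans hχ) (h.trans hχ)
      obtain ⟨T⟩ : Nonempty (Sylow s (stabL P L μ)) := inferInstance
      have hT : ¬ s ∣ ((T : Subgroup (stabL P L μ)).map (stabL P L μ).subtype).index := by
        rw [Subgroup.index_map_subtype]
        exact fun h => ((Fact.out : s.Prime).dvd_mul.1 h).elim T.not_dvd_index h2
      exact ⟨(T.isPGroup'.map _).toSylow hT, fun x hx => Subgroup.map_subtype_le _ hx⟩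
  rcases hres with h | h
  · exact fin (t := q) (s := r) (Or.inl ⟨rfl, rfl⟩) h
  · exact fin (t := r) (s := q) (Or.inr ⟨rfl, rfl⟩) h

end Cfsg.Agent.Char.Palfy
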