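import Cfsg.Agent.Lib.Char.Palfy.Fpf
import Cfsg.Agent.Lib.Char.Palfy.Aut
import Cfsg.Agent.Lib.Solv.Cores

/-!
# Sylow subgroups centralising the centre of a core centralise the core
-/

set_option linter.style.haveILetI false
set_option linter.unusedSectionVars false

namespace Cfsg.Agent.Char.Palfy

universe u v

variable {L : Type u} [Group L] [Finite L] {V : Type v} [CommGroup V] [Finite V]
  [MulDistribMulAction L V] {l : ℕ}

/-- A normal subgroup not containing a Sylow subgroup has index divisible by the prime. -/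
theorem sylow_le_of_not_dvd_index {q : ℕ} [Fact q.Prime] (N : Subgroup L) [N.Normal] (hq : ¬ q ∣ N.index)
    (S : Sylow q L) : (S : Subgroup L) ≤ N := by
  intro g hg
  obtain ⟨k, hk⟩ := IsPGroup.iff_orderOf.1 S.isPGroup' ⟨g, hg⟩
  rw [Subgroup.orderOf_mk] at hk
  have h1 : orderOf (g : L ⧸ N) ∣ q ^ k := hk ▸ orderOf_map_dvd (QuotientGroup.mk' N) g
  have h2 : orderOf (g : L ⧸ N) ∣ N.index := orderOf_dvd_natCard _
  have h3 := Nat.Coprime.eq_one_of_dvd
    (Nat.Coprime.coprime_dvd_left h1 (Nat.Coprime.pow_left k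
      ((Nat.Prime.coprime_iff_not_dvd Fact.out).2 hq))) h2
  exact (QuotientGroup.eq_one_iff g).1 (orderOf_eq_one_iff.1 h3)

/-- One Sylow subgroup centralising a normal subgroup makes all of them do so. -/
theorem centralizes_of_one {q : ℕ} [Fact q.Prime] (X : Subgroup L) [hX : X.Normal] (S₀ : Sylow q L)
    (h : ∀ g ∈ (S₀ : Subgroup L), ∀ x ∈ X, g * x = x * g) (S : Sylow q L) :
    ∀ g ∈ (S : Subgroup L), ∀ x ∈ X, g * x = x * g := by
  obtain ⟨a, rfl⟩ := MulAction.exists_smul_eq L S₀ S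
  intro g hg x hx
  rw [Sylow.coe_subgroup_smul] at hg
  obtain ⟨y, hy, rfl⟩ := hg
  simp only [MulDistribMulAction.toMonoidEnd_apply, MulDistribMulAction.toMonoidHom_apply,
    MulAut.smul_def, MulAut.conj_apply]
  have := h y hy (a⁻¹ * x * a) (by simpa using hX.conj_mem x hx a⁻¹)
  calc a * y * a⁻¹ * x = a * (y * (a⁻¹ * x * a)) * a⁻¹ := by group
    _ = a * (a⁻¹ * x * a * y) * a⁻¹ := by rw [this]
    _ = x * (a * y * a⁻¹) := by group

/-- The main step for a core. -/
theorem centralizes_core (c : Ctx L V l) {p : ℕ} [Fact p.Prime] (hp2 : p ≠ 2) (hup : UniqSylow p L V)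
    (hp : p ∣ Nat.card L) {q : ℕ} [hq : Fact q.Prime] (hu : UniqSylow q L V)
    {s : ℕ} [hs : Fact s.Prime] (hsl : s ≠ l) (hsq : s ≠ q) (X : Subgroup L) [hX : X.Normal]
    (hXs : IsPGroup s X) (hX1 : X ≠ ⊥)
    (hzc : ∀ S : Sylow q L, ∀ g ∈ (S : Subgroup L), ∀ z ∈ X, (∀ x ∈ X, z * x = x * z) → z ^ s = 1 → g * z = z * g)
    (hcond : s ≠ 2 ∨ q ≠ 3 ∨ ∀ x ∈ X, ∀ y ∈ X, x * y = y * x) :
    ∀ S : Sylow q L, ∀ g ∈ (S : Subgroup L), ∀ x ∈ X, g * x = x * g := by
  classical
  have hcoX : (Nat.card X).Coprime l := by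
    obtain ⟨k, hk⟩ := IsPGroup.iff_card.1 hXs
    rw [hk]
    exact Nat.Coprime.pow_left k ((Nat.coprime_primes hs.out c.hl).2 hsl)
  -- the fixed point free central element
  haveI : Group.IsNilpotent X := hXs.isNilpotent
  haveI : Nontrivial X := (Subgroup.nontrivial_iff_ne_bot X).2 hX1
  haveI : Nontrivial (Subgroup.center X) := hXs.center_nontrivial
  obtain ⟨z₀, hz₀⟩ : ∃ z : Subgroup.center X, orderOf z = s := by
    refine exists_prime_orderOf_dvd_card' s ?_
    obtain ⟨k, hk, e⟩ := IsPGroup.nontrivial_iff_card (hXs.to_subgroup (Subgroup.center X)) |>.1 inferInstance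
    rw [e]; exact dvd_pow_self _ (by omega)
  set z : L := ((z₀ : X) : L) with hzdef
  have hzX : z ∈ X := (z₀ : X).2
  have hzcomm : ∀ x ∈ X, z * x = x * z := fun x hx =>
    congrArg Subtype.val ((Subgroup.mem_center_iff.1 z₀.2 ⟨x, hx⟩).symm)
  have hzs : z ^ s = 1 := by
    rw [hzdef, ← Subgroup.coe_pow, ← Subgroup.coe_pow, ← hz₀, pow_orderOf_eq_one]; rfl
  have hz1 : z ≠ 1 := fun e => hs.out.ne_one (by
    rw [← hz₀, orderOf_eq_one_iff]; exact Subtype.ext (Subtype.ext e))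
  let ZC : Subgroup L := X ⊓ Subgroup.centralizer (X : Set L)
  haveI : ZC.Normal := Subgroup.normal_inf_normal _ _
  have hzZC : z ∈ ZC := ⟨hzX, Subgroup.mem_centralizer_iff.2 fun x hx => (hzcomm x hx).symm⟩
  have hzfpf : ∀ v : V, z • v = v → v = 1 := fun v => fpf_abelian c hup hp2 hp ZC
    (fun a ha b hb => (Subgroup.mem_centralizer_iff.1 hb.2 a ha.1)) (hcoX.coprime_dvd_left
      (Subgroup.card_dvd_of_le inf_le_left)) hzZC hz1
  -- a maximal stabiliser
  let stab : V → Subgroup L := fun v => X ⊓ MulAction.stabilizer L v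
  haveI : Nonempty {v : V // v ≠ 1} := ⟨⟨c.nontriv.choose, c.nontriv.choose_spec⟩⟩
  obtain ⟨⟨v₀, hv₀⟩, hmax⟩ := Finite.exists_max fun v : {v : V // v ≠ 1} => Nat.card (stab v.1)
  set A₀ := stab v₀ with hA₀
  obtain ⟨S, hS⟩ := hu.exists_fix hv₀
  refine fun T => centralizes_of_one X S (fun g hg => ?_) T
  have hgord : ∃ k, orderOf g = q ^ k := by
    obtain ⟨k, hk⟩ := IsPGroup.iff_orderOf.1 S.isPGroup' ⟨g, hg⟩
    exact ⟨k, by rwa [Subgroup.orderOf_mk] at hk⟩
  have hgco : (orderOf g).Coprime s := by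
    obtain ⟨k, hk⟩ := hgord
    rw [hk]; exact Nat.Coprime.pow_left k ((Nat.coprime_primes hq.out hs.out).2 hsq.symm)
  have hgv : g • v₀ = v₀ := hS g hg
  have hgz : g * z = z * g := hzc S g hg z hzX hzcomm hzs
  -- the Sylow subgroup centralises the stabiliser
  have hgA : ∀ a ∈ A₀, g * a = a * g := by
    intro a ha
    have haS := hu.normalizes hv₀ hS (MulAction.mem_stabilizer_iff.1 ha.2)
    have h1 : a * g * a⁻¹ * g⁻¹ ∈ (S : Subgroup L) :=
      mul_mem ((Subgroup.mem_normalizer_iff.1 haS g).1 hg) (inv_mem hg)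
    have h2 : a * g * a⁻¹ * g⁻¹ ∈ X := by
      rw [show a * g * a⁻¹ * g⁻¹ = a * (g * a⁻¹ * g⁻¹) by group]
      exact mul_mem ha.1 (hX.conj_mem _ (inv_mem ha.1) g)
    have h3 : a * g * a⁻¹ * g⁻¹ = 1 := by
      obtain ⟨i, hi⟩ := IsPGroup.iff_orderOf.1 S.isPGroup' ⟨_, h1⟩
      obtain ⟨j, hj⟩ := IsPGroup.iff_orderOf.1 hXs ⟨_, h2⟩
      rw [Subgroup.orderOf_mk] at hi hj
      have hco : (q ^ i).Coprime (s ^ j) := Nat.Coprime.pow i j ((Nat.coprime_primes hq.out hs.out).2 hsq.symm)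
      exact orderOf_eq_one_iff.1 (hi.trans (Nat.Coprime.eq_one_of_dvd hco (by rw [← hi, hj])))
    calc g * a = (a * g * a⁻¹ * g⁻¹)⁻¹ * (a * g) := by group
      _ = a * g := by rw [h3, inv_one, one_mul]
  set D : Subgroup V := fixV A₀ V with hD
  have hv₀D : v₀ ∈ D := fun a ha => MulAction.mem_stabilizer_iff.1 ha.2
  set N := Subgroup.centralizer (A₀ : Set L) ⊔ A₀ with hN
  have hND : ∀ m ∈ N, ∀ w ∈ D, m • w ∈ D := by
    have : N ≤ Subgroup.normalizer (A₀ : Set L) := sup_le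
      (fun m hm => Subgroup.mem_normalizer_iff.2 fun a => by
        constructor
        · intro ha
          rw [← Subgroup.mem_centralizer_iff.1 hm a ha, mul_inv_cancel_right]; exact ha
        · intro ha
          have e := Subgroup.mem_centralizer_iff.1 hm _ ha
          have : m * a * m⁻¹ = a := by
            have e2 : m * a = m * (m * a * m⁻¹) := by rw [← e]; group
            exact (mul_left_cancel e2).symm
          rwa [this] at ha) Subgroup.le_normalizer
    intro m hm w hw a ha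
    have h1 : m⁻¹ * a * m ∈ A₀ := by
      have := (Subgroup.mem_normalizer_iff.1 (inv_mem (this hm)) a).1 ha
      simpa using this
    rw [← mul_smul, show a * m = m * (m⁻¹ * a * m) by group, mul_smul, hw _ h1]
  let act : N →* MulAut D :=
    { toFun := fun m =>
        { toFun := fun w => ⟨(m : L) • (w : V), hND m m.2 w w.2⟩
          invFun := fun w => ⟨((m⁻¹ : N) : L) • (w : V), hND _ (inv_mem m.2) w w.2⟩
          left_inv := fun w => Subtype.ext (by simp)
          right_inv := fun w => Subtype.ext (by simp)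
          map_mul' := fun a b => Subtype.ext (smul_mul' _ _ _) }
      map_one' := MulEquiv.ext fun w => Subtype.ext (one_smul _ _)
      map_mul' := fun a b => MulEquiv.ext fun w => Subtype.ext (mul_smul (a : L) (b : L) (w : V)) }
  have hgN : g ∈ N := Subgroup.mem_sup_left (Subgroup.mem_centralizer_iff.2 fun a ha => (hgA a ha).symm)
  have hzN : z ∈ N := Subgroup.mem_sup_left (Subgroup.mem_centralizer_iff.2 fun a ha => (hzcomm a ha.1).symm)
  set Y : Subgroup L := X ⊓ N with hY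
  let ψ : Y →* MulAut D := act.comp (Subgroup.inclusion inf_le_right)
  have hYs : IsPGroup s Y := hXs.to_le inf_le_left
  -- kernel and freeness
  have hker : ∀ y : Y, ψ y = 1 → (y : L) ∈ A₀ := fun y hy => by
    have e : ((ψ y ⟨v₀, hv₀D⟩ : D) : V) = v₀ := by rw [hy]; rfl
    exact ⟨y.2.1, MulAction.mem_stabilizer_iff.2 e⟩
  have hfree : ∀ (y : Y), ψ y ≠ 1 → ∀ w : D, ψ y w = w → w = 1 := by
    intro y hy w hw
    by_contra hw1
    have hw' : (w : V) ≠ 1 := fun e => hw1 (Subtype.ext e)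
    have hle : A₀ ≤ stab w.1 := fun a ha => ⟨ha.1, MulAction.mem_stabilizer_iff.2 (w.2 a ha)⟩
    have heq : A₀ = stab w.1 := Subgroup.eq_of_le_of_card_ge hle (hmax ⟨w.1, hw'⟩)
    have hyA : (y : L) ∈ A₀ := by
      rw [heq]; exact ⟨y.2.1, MulAction.mem_stabilizer_iff.2 (congrArg Subtype.val hw)⟩
    exact hy (MulEquiv.ext fun u => Subtype.ext (u.2 _ hyA))
  set K := ψ.range with hK
  have hKs : IsPGroup s K := hYs.of_surjective ψ.rangeRestrict ψ.rangeRestrict_surjective
  set zy : Y := ⟨z, hzX, hzN⟩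
  set zb : K := ψ.rangeRestrict zy with hzb
  have hD1 : ∃ w : D, w ≠ 1 := ⟨⟨v₀, hv₀D⟩, fun e => hv₀ (congrArg Subtype.val e)⟩
  have hzb1 : zb ≠ 1 := fun e => by
    have h1 : ψ zy = 1 := congrArg Subtype.val e
    exact hv₀ (hzfpf v₀ (MulAction.mem_stabilizer_iff.1 (hker zy h1).2))
  have hzbs : zb ^ s = 1 := by
    rw [hzb, ← map_pow, show zy ^ s = 1 from Subtype.ext hzs, map_one]
  have hzbc : ∀ k : K, zb * k = k * zb := by
    rintro ⟨_, y, rfl⟩
    refine Subtype.ext ?_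
    show ψ zy * ψ y = ψ y * ψ zy
    rw [← map_mul, ← map_mul, show zy * y = y * zy from Subtype.ext (hzcomm y y.2.1)]
  have hDs : ∀ w : D, w ^ s = 1 → w = 1 := fun w hw => Subtype.ext
    (c.pow_injective ((Nat.coprime_primes hs.out c.hl).2 hsl) (by
      show (w : V) ^ s = (1 : V) ^ s
      rw [one_pow, ← Subgroup.coe_pow, hw]; rfl))
  have hgen : ∀ k : K, k ^ s = 1 → k ∈ Subgroup.zpowers zb := by
    intro k hk
    have h := mem_zpowers_of_fpf (H := K) (W := D) hDs hD1 (hzbc k) hzbs hk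
      (fun g _ hg1 w hw => by
        obtain ⟨y, hy⟩ := g.2
        refine hfree y (fun e => hg1 (Subtype.ext (hy.symm.trans e))) w ?_
        rw [hy]; exact hw) hzb1
    exact h
  have hUO : Solv.UniqueOrderP s K := by
    intro a b ha hb hb1
    obtain ⟨j, hj⟩ := hgen b hb
    have hz2 : zb ∈ Subgroup.zpowers b := by
      have hjn : ¬ (s : ℤ) ∣ j := fun ⟨i, hi⟩ => hb1 (by
        rw [← hj]; simp only; rw [hi, zpow_mul, zpow_natCast, hzbs, one_zpow])
      obtain ⟨i, m, him⟩ : IsCoprime j (s : ℤ) :=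
        ((Prime.coprime_iff_not_dvd (Nat.prime_iff_prime_int.1 hs.out)).2 hjn).symm
      refine ⟨i, ?_⟩
      simp only at hj ⊢
      rw [← hj, ← zpow_mul, show j * i = 1 + (s : ℤ) * (-m) by linarith, zpow_add, zpow_one, zpow_mul,
        zpow_natCast, hzbs, one_zpow, mul_one]
    exact Subgroup.zpowers_le.2 hz2 (hgen a ha)
  -- the automorphism
  have hgY : ∀ y ∈ Y, g * y * g⁻¹ ∈ Y := fun y hy =>
    ⟨hX.conj_mem _ hy.1 g, N.mul_mem (N.mul_mem hgN hy.2) (N.inv_mem hgN)⟩
  set gb : MulAut D := act ⟨g, hgN⟩ with hgb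
  have hconjK : ∀ k ∈ K, gb * k * gb⁻¹ ∈ K := by
    rintro _ ⟨y, rfl⟩
    refine ⟨⟨g * y * g⁻¹, hgY y y.2⟩, ?_⟩
    show act _ = act _ * act _ * (act _)⁻¹
    rw [← map_inv, ← map_mul, ← map_mul]; rfl
  have hgbN : gb ∈ Subgroup.normalizer (K : Set (MulAut D)) := by
    haveI : Finite (MulAut D) := Finite.of_injective (fun f => (f : D → D)) DFunLike.coe_injective
    exact Subgroup.mem_normalizer_iff.2 (fun k => ⟨fun hk => hconjK k hk, fun hk => by
      have hmap : K.map (MulAut.conj gb).toMonoidHom = K := Subgroup.eq_of_le_of_card_ge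
        (by rintro _ ⟨k', hk', rfl⟩; exact hconjK k' hk')
        (le_of_eq (Subgroup.card_map_of_injective (MulEquiv.injective _)).symm)
      rw [← hmap] at hk
      obtain ⟨k', hk', e⟩ := hk
      simp only [MulEquiv.coe_toMonoidHom, MulAut.conj_apply] at e
      rwa [← mul_left_cancel (mul_right_cancel e)]⟩)
  set α : MulAut K := K.normalizerMonoidHom ⟨gb, hgbN⟩ with hα
  have hαord : orderOf α ∣ orderOf g :=
    (orderOf_map_dvd _ _).trans (by
      rw [Subgroup.orderOf_mk]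
      exact (orderOf_map_dvd act _).trans (by rw [Subgroup.orderOf_mk]))
  have hα1 : α = 1 := by
    refine aut_trivial_of_unique hKs hUO (Nat.Coprime.coprime_dvd_left hαord hgco) ?_ ?_
    · have hfz : α zb = zb := Subtype.ext (by
        show gb * ψ zy * gb⁻¹ = ψ zy
        rw [mul_inv_eq_iff_eq_mul]
        show act _ * act _ = act _ * act _
        rw [← map_mul, ← map_mul]; congr 1; exact Subtype.ext hgz)
      intro k hk
      obtain ⟨j, rfl⟩ := hgen k hk
      show α (zb ^ j) = zb ^ j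
      rw [map_zpow, hfz]
    · rcases hcond with h | h | h
      · exact Or.inl h
      · refine Or.inr (Or.inl fun hd => h ?_)
        obtain ⟨k, hk⟩ := hgord
        have := Nat.Prime.dvd_of_dvd_pow Nat.prime_three (hk ▸ hd.trans hαord)
        exact ((Nat.prime_dvd_prime_iff_eq Nat.prime_three hq.out).1 this).symm
      · refine Or.inr (Or.inr ?_)
        rintro ⟨_, a, rfl⟩ ⟨_, b, rfl⟩
        refine Subtype.ext ?_
        show ψ a * ψ b = ψ b * ψ a
        rw [← map_mul, ← map_mul, show a * b = b * a from Subtype.ext (h a a.2.1 b b.2.1)]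
  -- lift to the subgroup
  have hfixY : ∀ y ∈ Y, g * y = y * g := by
    intro y hy
    have h1 : gb * ψ ⟨y, hy⟩ * gb⁻¹ = ψ ⟨y, hy⟩ := by
      have h0 := DFunLike.congr_fun hα1 ⟨ψ ⟨y, hy⟩, ⟨y, hy⟩, rfl⟩
      rw [MulAut.one_apply] at h0
      exact congrArg Subtype.val h0
    set d : L := y⁻¹ * (g * y * g⁻¹) with hd
    have hdY : d ∈ Y := mul_mem (inv_mem hy) (hgY y hy)
    have hdA : d ∈ A₀ := hker ⟨d, hdY⟩ (by
      show act _ = 1
      have : act ⟨d, hdY.2⟩ = (act ⟨y, hy.2⟩)⁻¹ * (gb * act ⟨y, hy.2⟩ * gb⁻¹) := by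
        rw [hgb, ← map_inv, ← map_inv, ← map_mul, ← map_mul, ← map_mul]; rfl
      show act ⟨d, hdY.2⟩ = 1
      rw [this]
      exact inv_mul_eq_one.2 h1.symm)
    have hgd := hgA d hdA
    have hpow : ∀ n : ℕ, g ^ n * y * (g ^ n)⁻¹ = y * d ^ n := by
      intro n
      induction n with
      | zero => simp
      | succ n ih =>
        have e : g * d ^ n * g⁻¹ = d ^ n := by
          rw [(Commute.pow_right hgd n).eq, mul_inv_cancel_right]
        rw [pow_succ' g, mul_inv_rev,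
          show g * g ^ n * y * ((g ^ n)⁻¹ * g⁻¹) = g * (g ^ n * y * (g ^ n)⁻¹) * g⁻¹ by group, ih,
          show g * (y * d ^ n) * g⁻¹ = (g * y * g⁻¹) * (g * d ^ n * g⁻¹) by group, e,
          show g * y * g⁻¹ = y * d by rw [hd]; group, pow_succ', mul_assoc]
    have h2 := hpow (orderOf g)
    rw [pow_orderOf_eq_one, one_mul, inv_one, mul_one, left_eq_mul] at h2
    obtain ⟨k, hk⟩ := IsPGroup.iff_orderOf.1 hYs ⟨d, hdY⟩
    rw [Subgroup.orderOf_mk] at hk
    have hd1 : d = 1 := orderOf_eq_one_iff.1 (hk.trans (Nat.Coprime.eq_one_of_dvd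
      (Nat.Coprime.pow_left k hgco.symm) (hk ▸ orderOf_dvd_of_pow_eq_one h2)))
    rw [hd, inv_mul_eq_one] at hd1
    exact (mul_inv_eq_iff_eq_mul.1 hd1.symm)
  refine centralizes_of_self_centralizing hXs inf_le_left ?_ (Subgroup.mem_normalizer_iff.2 fun x =>
    ⟨fun hx => hX.conj_mem x hx g, fun hx => by simpa [mul_assoc] using hX.conj_mem _ hx g⁻¹⟩) hgco hfixY
  intro x hx
  refine ⟨hx.1, Subgroup.mem_sup_left (Subgroup.mem_centralizer_iff.2 fun a ha => ?_)⟩
  exact Subgroup.mem_centralizer_iff.1 hx.2 a ⟨ha.1, Subgroup.mem_sup_right ha⟩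

end Cfsg.Agent.Char.Palfy
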