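import Cfsg.Agent.Lib.Char.FongReynolds
import Cfsg.Agent.Lib.Char.RelFixLayer
import Cfsg.Agent.Lib.Char.ItoConverse
import Cfsg.Agent.Lib.Char.RelGlaubermanCentral
import Cfsg.Agent.Lib.Char.Coprime
import Cfsg.Agent.Lib.Char.CoprimeMcKay

/-!
# Characters of a split extension

If `G = N ⋊ H` and no character over `θ ∈ Irr(N)` has degree divisible by `t`, then `t` does not
divide the index of the inertia group in `H`, which has a normal abelian Sylow `t`-subgroup.
-/

set_option linter.style.haveILetI false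
set_option linter.unusedSectionVars false

namespace Cfsg.Agent.Char.Palfy

open Cfsg

universe u

variable {G : Type u} [Group G] [Fintype G] (N : Subgroup G) [N.Normal] [Fintype N] (H : Subgroup G)

/-- The inertia group in the complement. -/
def inertiaH (θ : IrrCharacter N) : Subgroup H where
  carrier := {h | ∀ n : N, (θ : N → ℂ) (MulAut.conjNormal (h : G) n) = (θ : N → ℂ) n}
  mul_mem' := fun {a b} ha hb n => by
    rw [Subgroup.coe_mul, map_mul, MulAut.mul_apply, ha, hb]
  one_mem' := fun n => by rw [OneMemClass.coe_one, map_one]; rfl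
  inv_mem' := fun {a} ha n => by
    rw [← ha (MulAut.conjNormal ((a⁻¹ : H) : G) n), ← MulAut.mul_apply, ← map_mul,
      Subgroup.coe_inv, mul_inv_cancel, map_one]
    rfl

theorem mem_inertiaH {θ : IrrCharacter N} {h : H} :
    h ∈ inertiaH N H θ ↔ irrComp (MulAut.conjNormal (h : G)) θ = θ :=
  ⟨fun hh => Subtype.ext (funext hh), fun e n => congrFun (congrArg Subtype.val e) n⟩

/-- The quotient map of a split extension. -/
theorem exists_proj (hinf : N ⊓ H = ⊥) (T : Subgroup G) (K : Subgroup H) (hNT : N ≤ T)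
    (hKT : K.map H.subtype ≤ T) (hT : T ≤ N ⊔ K.map H.subtype) :
    ∃ f : T →* K, Function.Surjective f ∧ (∀ x : T, f x = 1 ↔ (x : G) ∈ N) ∧
      ∀ x : T, (x : G) * (((f x : K) : H) : G)⁻¹ ∈ N := by
  classical
  have hdec : ∀ x : T, ∃ k : K, (x : G) * ((k : H) : G)⁻¹ ∈ N := fun x => by
    obtain ⟨n, hn, _, ⟨k, hk, rfl⟩, e⟩ := Subgroup.mem_sup_of_normal_left.1 (hT x.2)
    exact ⟨⟨k, hk⟩, by rw [← e]; simpa using hn⟩
  have huniq : ∀ {k k' : K} {x : G}, x * ((k : H) : G)⁻¹ ∈ N → x * ((k' : H) : G)⁻¹ ∈ N → k = k' := by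
    intro k k' x h h'
    have h1 : ((k : H) : G) * ((k' : H) : G)⁻¹ ∈ N ⊓ H := by
      refine ⟨?_, H.mul_mem (k : H).2 (H.inv_mem (k' : H).2)⟩
      have := mul_mem (inv_mem h) h'
      simpa [mul_assoc] using this
    rw [hinf, Subgroup.mem_bot, mul_inv_eq_one] at h1
    exact Subtype.ext (Subtype.ext h1)
  choose k hk using hdec
  refine ⟨MonoidHom.mk' k fun x y => huniq (hk _) ?_, fun c => ?_, fun x => ?_, hk⟩
  · have h1 : ((x : G) * ((k x : H) : G)⁻¹) * (((k x : H) : G) * ((y : G) * ((k y : H) : G)⁻¹) * ((k x : H) : G)⁻¹) ∈ N :=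
      mul_mem (hk x) (Subgroup.Normal.conj_mem inferInstance _ (hk y) _)
    simpa [mul_assoc] using h1
  · refine ⟨⟨((c : H) : G), hKT ⟨c, c.2, rfl⟩⟩, huniq (hk _) (by simp)⟩
  · show k x = 1 ↔ _
    constructor
    · intro e
      simpa [e] using hk x
    · intro hx
      exact huniq (hk x) (by simpa using hx)

/-- The main lemma on split extensions. -/
theorem split_inertia (hinf : N ⊓ H = ⊥) (hsup : N ⊔ H = ⊤) (hsolv : Group.IsSolvable H)
    (θ : IrrCharacter N) (hco : (deg (θ : N → ℂ)).Coprime (Nat.card H)) {t : ℕ} [ht : Fact t.Prime]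
    (h : ∀ χ : IrrCharacter G, classInner (fun n : N => (χ : G → ℂ) n) (θ : N → ℂ) ≠ 0 →
      ¬ t ∣ deg (χ : G → ℂ)) :
    ¬ t ∣ (inertiaH N H θ).index ∧ ∃ P : Subgroup (inertiaH N H θ), P.Normal ∧
      (∀ x ∈ P, ∀ y ∈ P, x * y = y * x) ∧ IsPGroup t P ∧ ¬ t ∣ P.index := by
  classical
  set K := inertiaH N H θ
  set T : Subgroup G := N ⊔ K.map H.subtype with hTdef
  have hNT : N ≤ T := le_sup_left
  haveI := Fintype.ofFinite T
  haveI := Fintype.ofFinite K
  obtain ⟨f, hf, hfker, hpr⟩ := exists_proj N H hinf T K hNT le_sup_right le_rfl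
  -- the inertia group
  have hI : ∀ g : G, irrComp (MulAut.conjNormal g) θ = θ → g ∈ T := by
    intro g hg
    obtain ⟨n, hn, x, hx, rfl⟩ := Subgroup.mem_sup_of_normal_left.1 (hsup.ge (Subgroup.mem_top g))
    refine mul_mem (hNT hn) (Subgroup.mem_sup_right ⟨⟨x, hx⟩, fun m => ?_, rfl⟩)
    have h1 := congrFun (congrArg Subtype.val hg) m
    rw [irrComp_apply, map_mul, MulAut.mul_apply] at h1
    rw [← h1, show MulAut.conjNormal n (MulAut.conjNormal x m) =
      (⟨n, hn⟩ : N) * MulAut.conjNormal x m * (⟨n, hn⟩ : N)⁻¹ from Subtype.ext (by simp [MulAut.conjNormal_apply]),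
      isClassFunction_character (irr_isCharacter θ.2)]
  -- the normal subgroup inside
  haveI hN'n : (N.subgroupOf T).Normal := Subgroup.Normal.comap inferInstance _
  haveI := Fintype.ofFinite (N.subgroupOf T)
  let e : N.subgroupOf T ≃* N := Subgroup.subgroupOfEquivOfLe hNT
  let θ' : IrrCharacter (N.subgroupOf T) := ⟨fun x => (θ : N → ℂ) (e x), isIrrCharacter_comp_equiv e θ.2⟩
  have hinvT : ∀ (g : T) (n : N), (θ : N → ℂ) (MulAut.conjNormal (g : G) n) = (θ : N → ℂ) n := by
    intro g n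
    obtain ⟨m, hm, x, ⟨y, hy, rfl⟩, e⟩ := Subgroup.mem_sup_of_normal_left.1 g.2
    rw [← e, map_mul, MulAut.mul_apply,
      show MulAut.conjNormal m (MulAut.conjNormal (H.subtype y) n) =
        (⟨m, hm⟩ : N) * MulAut.conjNormal (H.subtype y) n * (⟨m, hm⟩ : N)⁻¹ from Subtype.ext (by simp [MulAut.conjNormal_apply]),
      isClassFunction_character (irr_isCharacter θ.2)]
    exact hy n
  have hinv' : ∀ (g : T) (n : N.subgroupOf T), (θ' : N.subgroupOf T → ℂ) (MulAut.conjNormal g n) =
      (θ' : N.subgroupOf T → ℂ) n := by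
    intro g n
    refine Eq.trans ?_ (hinvT g (e n))
    show (θ : N → ℂ) _ = (θ : N → ℂ) _
    congr 1
  have hker : f.ker = N.subgroupOf T := by
    ext x; rw [MonoidHom.mem_ker, hfker]; rfl
  have hidx : (N.subgroupOf T).index = Nat.card K := by
    rw [← hker, Subgroup.index_ker, MonoidHom.range_eq_top.2 hf, Subgroup.card_top]
  have hdeg' : deg (θ' : N.subgroupOf T → ℂ) = deg (θ : N → ℂ) := by
    apply Nat.cast_injective (R := ℂ)
    rw [← char_one_eq_deg (irr_isCharacter θ'.2), ← char_one_eq_deg (irr_isCharacter θ.2)]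
    show (θ : N → ℂ) (e 1) = _
    rw [map_one]
  -- extend
  obtain ⟨d₀, σ, hσ⟩ := irr_isCharacter θ'.2
  let D : N.subgroupOf T →* ℂˣ := detHom σ
  have hD : ∀ m : N.subgroupOf T, (D m : ℂ) = detChar (θ' : N.subgroupOf T → ℂ) m := fun m => by
    rw [detChar_eq_hom σ hσ]
  have hDinv : ∀ (g : T) (m : N.subgroupOf T), D (MulAut.conjNormal g m) = D m := fun g m => Units.ext (by
    rw [hD, hD, detChar_conj_inv _ (irr_isCharacter θ'.2) hinv'])
  let kT : T →* T := (MonoidHom.mk' (fun a : K => (⟨((a : H) : G), Subgroup.mem_sup_right ⟨_, a.2, rfl⟩⟩ : T))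
    (fun a b => rfl)).comp f
  let nu : T → N.subgroupOf T := fun x => ⟨x * (kT x)⁻¹, hpr x⟩
  have hnu : ∀ x y : T, nu (x * y) = nu x * MulAut.conjNormal (kT x) (nu y) := fun x y => Subtype.ext (by
    show x * y * (kT (x * y))⁻¹ = x * (kT x)⁻¹ * (MulAut.conjNormal (kT x) (nu y) : N.subgroupOf T)
    rw [MulAut.conjNormal_apply, map_mul]
    show _ = x * (kT x)⁻¹ * (kT x * (y * (kT y)⁻¹) * (kT x)⁻¹)
    group)
  let μ : T →* ℂˣ := MonoidHom.mk' (fun x => D (nu x)) fun x y => by rw [hnu, map_mul, hDinv]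
  have hnuN : ∀ m : N.subgroupOf T, nu (m : T) = m := fun m => Subtype.ext (by
    show (m : T) * (kT m)⁻¹ = m
    have : f (m : T) = 1 := (hfker _).2 m.2
    rw [show kT (m : T) = 1 by simp only [kT, MonoidHom.comp_apply, this, map_one], inv_one, mul_one])
  have hcop : (N.subgroupOf T).index.Coprime (deg (θ' : N.subgroupOf T → ℂ)) := by
    rw [hidx, hdeg']
    exact (hco.coprime_dvd_right (Subgroup.card_subgroup_dvd_card K)).symm
  obtain ⟨η, hη, hηres⟩ := exists_extension_of_det_extension (N.subgroupOf T) θ'.2 hinv' _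
    (char_one_eq_deg (irr_isCharacter θ'.2)) hcop μ fun m => by
      show (D (nu (m : T)) : ℂ) = _
      rw [hnuN, hD]
  -- every character of the inertia group gives one over the character
  have hbeta : ∀ β : IrrCharacter K, ¬ t ∣ T.index * deg (β : K → ℂ) := by
    intro β hdvd
    have hb : IsIrrCharacter T (fun x => (β : K → ℂ) (f x)) := isIrr_comp_surjective f hf β.2
    have hbN : ∀ m : N.subgroupOf T, (fun x : T => (β : K → ℂ) (f x)) m = (fun x : T => (β : K → ℂ) (f x)) 1 :=
      fun m => by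
        show (β : K → ℂ) (f m) = (β : K → ℂ) (f 1)
        rw [(hfker (m : T)).2 m.2, map_one]
    obtain ⟨hirr, hover⟩ := (gallagher_one (N.subgroupOf T) θ' (irr_isCharacter hη) hηres).mapsTo ⟨hb, hbN⟩
    let ψ : IrrCharacter T := ⟨_, hirr⟩
    have hres : classInner (resN T hNT (ψ : T → ℂ)) (θ : N → ℂ) ≠ 0 := by
      rw [← classInner_subgroupOf hNT]
      exact hover
    obtain ⟨χ, hχ⟩ := exists_constituent_over T ψ
    obtain ⟨hind, hθ, -⟩ := clifford_ind hI hres hχ
    refine h χ hθ ?_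
    have hdeg : deg (χ : G → ℂ) = T.index * (deg (β : K → ℂ) * deg (θ : N → ℂ)) := by
      apply Nat.cast_injective (R := ℂ)
      rw [← char_one_eq_deg (irr_isCharacter χ.2), hind, indFun_one, Nat.cast_mul, Nat.cast_mul]
      congr 1
      show (β : K → ℂ) (f 1) * η 1 = _
      rw [map_one, char_one_eq_deg (irr_isCharacter β.2),
        show η 1 = η ((1 : N.subgroupOf T) : T) from rfl, hηres, char_one_eq_deg (irr_isCharacter θ'.2), hdeg']
    rw [hdeg, ← mul_assoc]
    exact hdvd.trans (dvd_mul_right _ _)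
  have hTi : T.index = K.index := by
    have h1 := Subgroup.card_mul_index T
    have h2 := Subgroup.card_mul_index K
    have h3 : Nat.card T = Nat.card N * Nat.card K := by
      rw [← Subgroup.card_mul_index (N.subgroupOf T), hidx, Nat.card_congr e.toEquiv]
    have h4 : Nat.card G = Nat.card N * Nat.card H := by
      have hc : Subgroup.IsComplement' N H := Subgroup.isComplement'_of_disjoint_and_mul_eq_univ
        (disjoint_iff.2 hinf) (by rw [← Subgroup.normal_mul, hsup, Subgroup.coe_top])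
      exact hc.card_mul.symm
    rw [h4, h3, ← h2, mul_assoc] at h1
    exact Nat.eq_of_mul_eq_mul_left Nat.card_pos (Nat.eq_of_mul_eq_mul_left Nat.card_pos h1)
  constructor
  · intro hd
    exact hbeta ⟨fun _ => 1, isIrrCharacter_one⟩ (Dvd.dvd.mul_right (hTi ▸ hd) _)
  · haveI : Group.IsSolvable K := inferInstance
    exact (normal_abelian_sylow_iff (isPSolvable_of_isSolvable ht.out _ rfl inferInstance)).2 fun β hd =>
      hbeta β (hd.trans (dvd_mul_left _ _))

end Cfsg.Agent.Char.Palfy
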