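import Cfsg.Agent.Lib.Char.Palfy.Action
import Cfsg.Agent.Lib.Char.Palfy.Split
import Cfsg.Agent.Lib.Char.SquarefreeDegrees
import Cfsg.Agent.Lib.Char.LinearExt

/-!
# Application to the dual of a minimal normal subgroup
-/

set_option linter.style.haveILetI false
set_option linter.unusedSectionVars false

namespace Cfsg.Agent.Char.Palfy

open Cfsg SqfreeDeg

universe u

/-- Composition with a surjection preserves the degree. -/
theorem exists_deg_comp_surjective {G H : Type u} [Group G] [Fintype G] [Group H] [Fintype H]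
    (f : G →* H) (hf : Function.Surjective f) (χ : IrrCharacter H) :
    ∃ ψ : IrrCharacter G, deg (ψ : G → ℂ) = deg (χ : H → ℂ) := by
  refine ⟨⟨fun g => (χ : H → ℂ) (f g), isIrr_comp_surjective f hf χ.2⟩, Nat.cast_injective (R := ℂ) ?_⟩
  rw [← char_one_eq_deg (irr_isCharacter χ.2), ← char_one_eq_deg (irr_isCharacter (isIrr_comp_surjective f hf χ.2))]
  show (χ : H → ℂ) (f 1) = _
  rw [map_one]

/-- A `t`-subgroup lies in every normal subgroup of index prime to `t`. -/
theorem pgroup_le_of_not_dvd_index {L : Type u} [Group L] [Finite L] {t : ℕ} [Fact t.Prime]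
    {P : Subgroup L} (hP : IsPGroup t P) (N : Subgroup L) [N.Normal] (hN : ¬ t ∣ N.index) : P ≤ N := by
  intro g hg
  obtain ⟨k, hk⟩ := IsPGroup.iff_orderOf.1 hP ⟨g, hg⟩
  rw [Subgroup.orderOf_mk] at hk
  have h1 : orderOf (g : L ⧸ N) ∣ t ^ k := hk ▸ orderOf_map_dvd (QuotientGroup.mk' N) g
  have h3 := Nat.Coprime.eq_one_of_dvd (Nat.Coprime.coprime_dvd_left h1 (Nat.Coprime.pow_left k
    ((Nat.Prime.coprime_iff_not_dvd Fact.out).2 hN))) (orderOf_dvd_natCard (g : L ⧸ N))
  exact (QuotientGroup.eq_one_iff g).1 (orderOf_eq_one_iff.1 h3)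

/-- A linear character as an irreducible character. -/
noncomputable def linChar {H : Type u} [Group H] [Fintype H] (l : H →* ℂˣ) : IrrCharacter H :=
  ⟨fun h => (l h : ℂ), isIrrCharacter_linear l⟩

theorem deg_linChar {H : Type u} [Group H] [Fintype H] (l : H →* ℂˣ) :
    deg (linChar l : H → ℂ) = 1 := by
  apply Nat.cast_injective (R := ℂ)
  rw [← char_one_eq_deg (irr_isCharacter (linChar l).2), Nat.cast_one]
  show (l 1 : ℂ) = 1
  rw [map_one, Units.val_one]

variable {G : Type u} [Group G]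

/-- The stabiliser in `L` of a linear character of the normal subgroup `N`. -/
noncomputable def stabL (N : Subgroup G) [N.Normal] (L : Subgroup G) (v : ↥N →* ℂˣ) : Subgroup L where
  carrier := {x | dualConj N (x : G) v = v}
  mul_mem' := fun {a b} ha hb => by
    show dualConj N ((a : G) * b) v = v
    rw [map_mul, MulAut.mul_apply, hb, ha]
  one_mem' := by show dualConj N (1 : G) v = v; rw [map_one]; rfl
  inv_mem' := fun {a} ha => by
    show dualConj N (a : G)⁻¹ v = v
    nth_rewrite 1 [← ha]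
    rw [← MulAut.mul_apply, ← map_mul, inv_mul_cancel, map_one]; rfl

theorem mem_stabL {N : Subgroup G} [N.Normal] {L : Subgroup G} {v : ↥N →* ℂˣ} {x : L} :
    x ∈ stabL N L v ↔ dualConj N (x : G) v = v := Iff.rfl

theorem inertiaH_linChar [Fintype G] (N : Subgroup G) [N.Normal] [Fintype N] (L : Subgroup G) (v : ↥N →* ℂˣ) :
    inertiaH N L (linChar v) = stabL N L v := by
  ext x
  constructor
  · intro hx
    rw [← inv_mem_iff]
    show dualConj N _ v = v
    refine MonoidHom.ext fun n => Units.ext ?_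
    rw [dualConj_apply, Subgroup.coe_inv, inv_inv]
    exact hx n
  · intro hx n
    have h1 := DFunLike.congr_fun (inv_mem hx : x⁻¹ ∈ stabL N L v) n
    rw [dualConj_apply, Subgroup.coe_inv, inv_inv] at h1
    show (v _ : ℂ) = (v n : ℂ)
    rw [h1]

/-- A normal cyclic subgroup moved by two primes gives a degree divisible by both. -/
theorem exists_degree_of_moved {L : Type u} [Group L] [Fintype L] (A : Subgroup L) [A.Normal]
    [hA : IsCyclic A] {q r : ℕ} (hq : q.Prime) (hr : r.Prime) (hqr : q ≠ r)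
    (hqA : Moves q A) (hrA : Moves r A) : ∃ χ : IrrCharacter L, q * r ∣ deg (χ : L → ℂ) := by
  classical
  haveI := Fintype.ofFinite A
  letI : CommGroup A := IsCyclic.commGroup
  obtain ⟨a, ha⟩ := hA.exists_generator
  -- a faithful linear character
  haveI : NeZero (orderOf a) := ⟨(orderOf_pos a).ne'⟩
  obtain ⟨ζ, hζ⟩ := HasEnoughRootsOfUnity.exists_primitiveRoot ℂ (orderOf a)
  have hζ' : orderOf (hζ.isUnit (orderOf_pos a).ne').unit ∣ orderOf a := by
    rw [← orderOf_units, IsUnit.unit_spec, ← hζ.eq_orderOf]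
  let lam : A →* ℂˣ := monoidHomOfForallMemZpowers ha hζ'
  have hlam : Function.Injective lam := by
    rw [injective_iff_map_eq_one]
    intro x hx
    obtain ⟨i, rfl⟩ := Subgroup.mem_zpowers_iff.1 (ha x)
    rw [map_zpow, monoidHomOfForallMemZpowers_apply_gen, ← orderOf_dvd_iff_zpow_eq_one] at hx
    rw [← orderOf_dvd_iff_zpow_eq_one]
    rwa [← orderOf_units, IsUnit.unit_spec, ← hζ.eq_orderOf] at hx
  obtain ⟨χ, hχ⟩ := orbit_dvd A (linChar lam)
  refine ⟨χ, dvd_trans ?_ ((dvd_mul_right _ _).trans hχ)⟩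
  set C := Subgroup.centralizer (A : Set L)
  have hfix : ∀ g : L, irrComp (MulAut.conjNormal g) (linChar lam) = linChar lam ↔ g ∈ C := by
    intro g
    constructor
    · intro hg
      refine Subgroup.mem_centralizer_iff.2 fun x hx => ?_
      have h1 : lam (MulAut.conjNormal g (⟨x, hx⟩ : A)) = lam ⟨x, hx⟩ :=
        Units.ext (congrFun (congrArg Subtype.val hg) ⟨x, hx⟩)
      have h2 := congrArg Subtype.val (hlam h1)
      rw [MulAut.conjNormal_apply] at h2
      exact (mul_inv_eq_iff_eq_mul.1 h2).symm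
    · intro hg
      refine Subtype.ext (funext fun x => ?_)
      rw [irrComp_apply]
      refine congrArg (linChar lam : A → ℂ) (Subtype.ext ?_)
      rw [MulAut.conjNormal_apply, ← Subgroup.mem_centralizer_iff.1 hg x x.2, mul_inv_cancel_right]
  have hcard : (cliffOrbit A (linChar lam)).card = C.index := by
    have h1 := card_cliffOrbit_mul (N := A) (linChar lam)
    rw [Nat.card_congr (Equiv.subtypeEquivRight hfix), ← Subgroup.card_mul_index C, mul_comm] at h1
    exact Nat.eq_of_mul_eq_mul_left Nat.card_pos h1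
  rw [hcard]
  exact Nat.Coprime.mul_dvd_of_dvd_of_dvd ((Nat.coprime_primes hq hr).2 hqr) hqA hrA

variable [Fintype G]

/-- One of the two Sylow subgroups centralises the minimal normal subgroup. -/
theorem sylow_centralizes (N : Subgroup G) [N.Normal] (hNc : ∀ a b : N, a * b = b * a) {l : ℕ}
    (hl : l.Prime) (hpow : ∀ x ∈ N, x ^ l = 1) (hN : N ≠ ⊥)
    (hmin : ∀ K : Subgroup G, K.Normal → K ≤ N → K = ⊥ ∨ K = N)
    (L : Subgroup G) (hgen : ∀ g : G, ∃ c ∈ Subgroup.centralizer (N : Set G), ∃ x ∈ L, g = c * x)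
    (hsolv : Group.IsSolvable L) {q r : ℕ} [hq : Fact q.Prime] [hr : Fact r.Prime] (hqr : q ≠ r)
    (hdeg : ∀ [Fintype L] (χ : IrrCharacter L), ¬ q * r ∣ deg (χ : L → ℂ))
    (hst : ∀ t : ℕ, t = q ∨ t = r → ∀ v : ↥N →* ℂˣ, v ≠ 1 → ¬ t ∣ (stabL N L v).index ∧
      ∃ P : Subgroup (stabL N L v), P.Normal ∧ IsPGroup t P ∧ ¬ t ∣ P.index) :
    (∀ S : Sylow q L, ∀ x ∈ (S : Subgroup L), ∀ n ∈ N, (x : G) * n = n * x) ∨
    (∀ S : Sylow r L, ∀ x ∈ (S : Subgroup L), ∀ n ∈ N, (x : G) * n = n * x) := by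
  classical
  haveI : Fintype L := Fintype.ofFinite L
  haveI := Fintype.ofFinite N
  letI : CommGroup N := { (inferInstance : Group N) with mul_comm := hNc }
  set φ : L →* MulAut (↥N →* ℂˣ) := (dualConj N).comp L.subtype with hφ
  haveI : Finite (↥N →* ℂˣ) := Nat.finite_of_card_ne_zero (by
    rw [CommGroup.card_monoidHom_of_hasEnoughRootsOfUnity]; exact Nat.card_pos.ne')
  haveI : Finite φ.range := Finite.of_surjective φ.rangeRestrict φ.rangeRestrict_surjective
  haveI := Fintype.ofFinite φ.range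
  letI : MulDistribMulAction (MulAut (↥N →* ℂˣ)) (↥N →* ℂˣ) :=
    { smul := fun e v => e v
      one_smul := fun _ => rfl
      mul_smul := fun _ _ _ => rfl
      smul_mul := fun e => map_mul e
      smul_one := fun e => map_one e }
  letI : MulDistribMulAction φ.range (↥N →* ℂˣ) := MulDistribMulAction.compHom _ φ.range.subtype
  have hker : ∀ x : L, φ x = 1 → ∀ n ∈ N, (x : G) * n = n * x := by
    intro x hx n hn
    have h1 : MulAut.conjNormal (x : G)⁻¹ (⟨n, hn⟩ : N) = ⟨n, hn⟩ := separate hNc fun v => by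
      rw [← dualConj_apply N (x : G) v, show dualConj N (x : G) = φ x from rfl, hx, MulAut.one_apply]
    have h2 := congrArg Subtype.val h1
    rw [MulAut.conjNormal_apply, inv_inv] at h2
    calc (x : G) * n = x * ((x : G)⁻¹ * n * x) := by rw [h2]
      _ = n * x := by group
  -- a prime not dividing the image
  have small : ∀ {t : ℕ} [Fact t.Prime], ¬ t ∣ Nat.card φ.range →
      ∀ S : Sylow t L, ∀ x ∈ (S : Subgroup L), ∀ n ∈ N, (x : G) * n = n * x := by
    intro t _ ht S x hx
    refine hker x ?_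
    obtain ⟨k, hk⟩ := IsPGroup.iff_orderOf.1 S.isPGroup' ⟨x, hx⟩
    rw [Subgroup.orderOf_mk] at hk
    have h1 : orderOf (φ.rangeRestrict x) ∣ t ^ k := hk ▸ orderOf_map_dvd _ _
    have h3 := Nat.Coprime.eq_one_of_dvd (Nat.Coprime.coprime_dvd_left h1 (Nat.Coprime.pow_left k
      ((Nat.Prime.coprime_iff_not_dvd Fact.out).2 ht))) (orderOf_dvd_natCard (φ.rangeRestrict x))
    exact congrArg Subtype.val (orderOf_eq_one_iff.1 h3)
  by_cases hqd : q ∣ Nat.card φ.range
  swap
  · exact Or.inl (small hqd)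
  by_cases hrd : r ∣ Nat.card φ.range
  swap
  · exact Or.inr (small hrd)
  exfalso
  have uniq : ∀ {t : ℕ} [Fact t.Prime], (t = q ∨ t = r) → UniqSylow t φ.range (↥N →* ℂˣ) := by
    intro t _ ht v hv
    obtain ⟨hi, P, hPn, hPp, hPi⟩ := hst t ht v hv
    haveI := hPn
    have hP' : IsPGroup t (P.map (stabL N L v).subtype) := hPp.map _
    have hidx : ¬ t ∣ (P.map (stabL N L v).subtype).index := by
      rw [Subgroup.index_map_subtype]
      exact fun h => ((Nat.Prime.dvd_mul Fact.out).1 h).elim hPi hi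
    set S : Sylow t L := hP'.toSylow hidx
    refine ⟨S.mapSurjective φ.rangeRestrict_surjective, ?_, ?_⟩
    · intro g hg
      obtain ⟨x, hx, rfl⟩ := hg
      obtain ⟨y, hy, rfl⟩ := (hx : x ∈ P.map (stabL N L v).subtype)
      exact y.2
    · intro T hT
      obtain ⟨T₀, rfl⟩ := Sylow.mapSurjective_surjective φ.rangeRestrict_surjective t T
      congr 1
      refine Sylow.ext (T₀.is_maximal' S.isPGroup' ?_).symm
      intro x hx
      have hxs : x ∈ stabL N L v := hT (φ.rangeRestrict x) ⟨x, hx, rfl⟩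
      have hle := pgroup_le_of_not_dvd_index ((T₀.isPGroup').comap_of_injective (stabL N L v).subtype
        (Subgroup.subtype_injective _)) P hPi
      exact ⟨⟨x, hxs⟩, hle (show (⟨x, hxs⟩ : stabL N L v) ∈ (T₀ : Subgroup L).comap _ from hx), rfl⟩
  have c : Ctx φ.range (↥N →* ℂˣ) l := by
    refine ⟨hl, fun v => ⟨1, MonoidHom.ext fun n => ?_⟩, ?_, fun g hg => Subtype.ext (MulEquiv.ext hg), ?_⟩
    · rw [pow_one, MonoidHom.pow_apply, ← map_pow, show n ^ l = 1 from Subtype.ext (hpow n n.2), map_one]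
      rfl
    · obtain ⟨n, hn⟩ := (Subgroup.ne_bot_iff_exists_ne_one).1 hN
      by_contra hall
      push Not at hall
      exact hn (separate hNc fun v => by rw [hall v]; rfl)
    · intro W hW
      have hperp : ∀ g : G, ∀ n : N, (∀ v ∈ W, v n = 1) → ∀ v ∈ W, v (MulAut.conjNormal g n) = 1 := by
        intro g n hn v hv
        obtain ⟨c, hc, x, hx, rfl⟩ := hgen g
        have h0 : MulAut.conjNormal (c * x) n = MulAut.conjNormal x n := by
          refine Subtype.ext ?_
          rw [MulAut.conjNormal_apply, MulAut.conjNormal_apply]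
          have := Subgroup.mem_centralizer_iff.1 hc (x * n * x⁻¹)
            (Subgroup.Normal.conj_mem inferInstance (n : G) n.2 x)
          calc c * x * n * (c * x)⁻¹ = c * (x * n * x⁻¹) * c⁻¹ := by group
            _ = x * n * x⁻¹ := by rw [← this, mul_inv_cancel_right]
        rw [h0]
        have h1 := hn _ (hW (φ.rangeRestrict (⟨x, hx⟩⁻¹ : L)) v hv)
        have h2 : (φ.rangeRestrict (⟨x, hx⟩⁻¹ : L)) • v = dualConj N x⁻¹ v := rfl
        have h3 := (DFunLike.congr_fun h2 n).symm.trans h1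
        rwa [dualConj_apply, inv_inv] at h3
      let M : Subgroup G := (⨅ v : W, (v : ↥N →* ℂˣ).ker).map N.subtype
      have hmemM : ∀ n : N, (n : G) ∈ M ↔ ∀ v ∈ W, v n = 1 := fun n => by
        constructor
        · rintro ⟨m, hm, e⟩ v hv
          rw [show n = m from Subtype.ext e.symm]
          exact (Subgroup.mem_iInf.1 hm) ⟨v, hv⟩
        · intro h
          exact ⟨n, Subgroup.mem_iInf.2 fun v => h v.1 v.2, rfl⟩
      haveI : M.Normal := ⟨fun n hn g => by
        obtain ⟨m, hm, rfl⟩ := hn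
        have := (hmemM (MulAut.conjNormal g m)).2 (hperp g m fun v hv => (Subgroup.mem_iInf.1 hm) ⟨v, hv⟩)
        rwa [MulAut.conjNormal_apply] at this⟩
      rcases hmin M inferInstance (Subgroup.map_subtype_le _) with hM | hM
      · right
        have e : (CommGroup.subgroupOrderIsoSubgroupMonoidHom ↥N ℂ).symm (OrderDual.toDual W) = ⊥ := by
          refine (Subgroup.eq_bot_iff_forall _).2 fun n hn => ?_
          rw [CommGroup.mem_subgroupOrderIsoSubgroupMonoidHom_symm_iff] at hn
          exact Subtype.ext (Subgroup.mem_bot.1 (hM ▸ (hmemM n).2 hn))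
        refine eq_top_iff.2 fun v _ => ?_
        have h1 := congrArg (CommGroup.subgroupOrderIsoSubgroupMonoidHom ↥N ℂ) e
        rw [OrderIso.apply_symm_apply] at h1
        rw [show W = (CommGroup.subgroupOrderIsoSubgroupMonoidHom ↥N ℂ ⊥).ofDual from congrArg OrderDual.ofDual h1,
          CommGroup.mem_subgroupOrderIsoSubgroupMonoidHom_iff]
        intro g hg
        rw [Subgroup.mem_bot.1 hg, map_one]
      · left
        refine (Subgroup.eq_bot_iff_forall _).2 fun v hv => MonoidHom.ext fun n => ?_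
        exact (hmemM n).1 (hM.ge n.2) v hv
  haveI : Group.IsSolvable φ.range := Group.isSolvable_of_surjective φ.rangeRestrict_surjective
  obtain ⟨A, hAn, hAc, hA1, hA2⟩ := exists_cyclic_moved inferInstance c hqr (uniq (Or.inl rfl)) hqd (uniq (Or.inr rfl)) hrd
  haveI := hAn
  haveI := hAc
  obtain ⟨χ, hχ⟩ := exists_degree_of_moved A hq.out hr.out hqr hA1 hA2
  obtain ⟨ψ, hψ⟩ := exists_deg_comp_surjective φ.rangeRestrict φ.rangeRestrict_surjective χ
  exact hdeg ψ (hψ.symm ▸ hχ)

end Cfsg.Agent.Char.Palfy
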