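import Cfsg.Agent.Lib.Char.Palfy.CaseA
import Cfsg.Agent.Lib.Char.TwoDegreesPrime

/-!
# Characters of a group of class two over a character of its derived subgroup
-/

set_option linter.style.haveILetI false
set_option linter.unusedSectionVars false

namespace Cfsg.Agent.Char.Palfy

open Cfsg SqfreeDeg
open scoped commutatorElement

universe u

variable {G : Type u} [Group G] [Fintype G]

/-- The commutator of two elements of `P` as an element of `N`. -/
def cm {N P : Subgroup G} (hd : ∀ x ∈ P, ∀ y ∈ P, ⁅x, y⁆ ∈ N) (x y : P) : N :=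
  ⟨⁅(x : G), (y : G)⁆, hd x x.2 y y.2⟩

variable {N P : Subgroup G} (hd : ∀ x ∈ P, ∀ y ∈ P, ⁅x, y⁆ ∈ N) (hz : ∀ n ∈ N, ∀ x ∈ P, n * x = x * n)

include hz in
theorem cm_mul_right (x y z : P) : cm hd x (y * z) = cm hd x y * cm hd x z := by
  refine Subtype.ext ?_
  show ⁅(x : G), (y : G) * z⁆ = ⁅(x : G), (y : G)⁆ * ⁅(x : G), (z : G)⁆
  have h := hz _ (hd x x.2 z z.2) y y.2
  calc ⁅(x : G), (y : G) * z⁆ = ⁅(x : G), (y : G)⁆ * ((y : G) * ⁅(x : G), (z : G)⁆ * (y : G)⁻¹) := by
        simp only [commutatorElement_def]; group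
    _ = _ := by rw [← h, mul_inv_cancel_right]

include hz in
theorem cm_mul_left (x y z : P) : cm hd (x * y) z = cm hd x z * cm hd y z := by
  refine Subtype.ext ?_
  show ⁅(x : G) * y, (z : G)⁆ = ⁅(x : G), (z : G)⁆ * ⁅(y : G), (z : G)⁆
  have h := hz _ (hd y y.2 z z.2) x x.2
  have h2 : ⁅(x : G), (z : G)⁆ * ⁅(y : G), (z : G)⁆ = ⁅(y : G), (z : G)⁆ * ⁅(x : G), (z : G)⁆ :=
    (hz _ (hd y y.2 z z.2) _ (P.mul_mem (P.mul_mem (P.mul_mem x.2 z.2) (P.inv_mem x.2)) (P.inv_mem z.2))).symm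
  calc ⁅(x : G) * y, (z : G)⁆ = (x : G) * ⁅(y : G), (z : G)⁆ * (x : G)⁻¹ * ⁅(x : G), (z : G)⁆ := by
        simp only [commutatorElement_def]; group
    _ = _ := by rw [← h, mul_inv_cancel_right, h2]

theorem cm_self (x : P) : cm hd x x = 1 := Subtype.ext (commutatorElement_self _)

/-- A character is a multiple of a linear character on a central subgroup. -/
theorem scalar_mul {H : Type u} [Group H] [Fintype H] (θ : IrrCharacter H) {g : H}
    (hg : ‖(θ : H → ℂ) g‖ = (deg (θ : H → ℂ) : ℝ)) (x : H) :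
    (θ : H → ℂ) (g * x) * (deg (θ : H → ℂ) : ℂ) = (θ : H → ℂ) g * (θ : H → ℂ) x := by
  obtain ⟨n, σ, hirr, hσ⟩ := θ.2
  have hn : (deg (θ : H → ℂ) : ℂ) = (Module.finrank ℂ (Fin n → ℂ) : ℂ) := by
    rw [← char_one_eq_deg (irr_isCharacter θ.2), ← congrFun hσ, Representation.char_one]
  have hg' : ‖σ.character g‖ = (Module.finrank ℂ (Fin n → ℂ) : ℝ) := by
    rw [congrFun hσ, hg]
    have := hn
    exact_mod_cast this
  obtain ⟨w, hw⟩ := (eq_scalar_iff σ g).1 hg'
  rw [hn, ← congrFun hσ, ← congrFun hσ, ← congrFun hσ]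
  simp only [Representation.character, map_mul, hw]
  rw [show ((w • LinearMap.id : (Fin n → ℂ) →ₗ[ℂ] (Fin n → ℂ)) * σ x) = w • σ x from LinearMap.ext fun v => rfl,
    map_smul, map_smul, LinearMap.trace_id, smul_eq_mul, smul_eq_mul]
  ring

variable [P.Normal] [N.Normal] [Fintype P] (hNP : N ≤ P)

/-- `θ` lies over the linear character `v`. -/
def OverLin (v : ↥N →* ℂˣ) (θ : IrrCharacter P) : Prop :=
  ∀ n : N, (θ : P → ℂ) (Subgroup.inclusion hNP n) = (deg (θ : P → ℂ) : ℂ) * (v n : ℂ)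

include hd hz in
/-- Characters over `v` vanish outside the radical of `v`. -/
theorem OverLin.vanish {v : ↥N →* ℂˣ} {θ : IrrCharacter P} (h : OverLin hNP v θ) {x y : P}
    (hxy : v (cm hd x y) ≠ 1) : (θ : P → ℂ) x = 0 := by
  have hnorm : ∀ n : N, ‖(θ : P → ℂ) (Subgroup.inclusion hNP n)‖ = (deg (θ : P → ℂ) : ℝ) := fun n => by
    rw [h n, norm_mul, Complex.norm_natCast, Complex.norm_eq_one_of_pow_eq_one (linear_pow_card v n)
      (orderOf_pos n).ne', mul_one]
  have hd0 : (deg (θ : P → ℂ) : ℂ) ≠ 0 := Nat.cast_ne_zero.2 (deg_pos θ.2).ne'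
  have h1 : y * x * y⁻¹ = Subgroup.inclusion hNP (cm hd y x) * x := Subtype.ext (by
    show (y : G) * x * (y : G)⁻¹ = ⁅(y : G), (x : G)⁆ * x
    rw [commutatorElement_def]; group)
  have h2 := isClassFunction_character (irr_isCharacter θ.2) x y
  rw [h1] at h2
  have h3 := scalar_mul θ (hnorm (cm hd y x)) x
  rw [h2, h (cm hd y x)] at h3
  by_contra hx
  have h4 : (v (cm hd y x) : ℂ) = 1 := by
    refine mul_left_cancel₀ hd0 (mul_right_cancel₀ hx ?_)
    rw [← h3, mul_one, mul_comm]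
  have h5 : cm hd y x = (cm hd x y)⁻¹ := Subtype.ext (by
    show ⁅(y : G), (x : G)⁆ = ⁅(x : G), (y : G)⁆⁻¹
    rw [commutatorElement_inv])
  rw [h5, map_inv] at h4
  exact hxy (inv_eq_one.1 (Units.ext h4))

/-- The radical of `v`. -/
def radical (v : ↥N →* ℂˣ) : Subgroup P where
  carrier := {x | ∀ y : P, v (cm hd x y) = 1}
  mul_mem' := fun {a b} ha hb y => by rw [cm_mul_left hd hz, map_mul, ha, hb, one_mul]
  one_mem' := fun y => by
    have : cm hd 1 y = 1 := Subtype.ext (commutatorElement_one_left _)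
    rw [this, map_one]
  inv_mem' := fun {a} ha y => by
    have h : cm hd a⁻¹ y * cm hd a y = 1 := by
      rw [← cm_mul_left hd hz, inv_mul_cancel]
      exact Subtype.ext (commutatorElement_one_left _)
    rw [eq_inv_of_mul_eq_one_left h, map_inv, ha, inv_one]

include hd hz in
/-- An invariant character over `v`. -/
theorem exists_invariant_over {l : ℕ} [Fact l.Prime] (hpow : ∀ x ∈ N, x ^ l = 1) (L : Subgroup G)
    (hco : ¬ l ∣ Nat.card L) (v : ↥N →* ℂˣ) :
    ∃ θ : IrrCharacter P, OverLin hNP v θ ∧ inertiaH P L θ = stabL N L v := by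
  classical
  set Z := radical hd hz v with hZdef
  have hιZ : ∀ n : N, Subgroup.inclusion hNP n ∈ Z := fun n y => by
    have : cm hd (Subgroup.inclusion hNP n) y = 1 := Subtype.ext
      (commutatorElement_eq_one_iff_mul_comm.2 (hz n n.2 y y.2))
    rw [this, map_one]
  let ι : N →* Z := (Subgroup.inclusion hNP).codRestrict Z hιZ
  haveI hZn : Z.Normal := ⟨fun x hx y => by
    have h1 : y * x * y⁻¹ = Subgroup.inclusion hNP (cm hd y x) * x := Subtype.ext (by
      show (y : G) * x * (y : G)⁻¹ = ⁅(y : G), (x : G)⁆ * x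
      rw [commutatorElement_def]; group)
    rw [h1]; exact Z.mul_mem (hιZ _) hx⟩
  haveI := Fintype.ofFinite Z
  -- the kernel of v
  let K₀ : Subgroup Z := v.ker.map ι
  haveI hK₀ : K₀.Normal := ⟨by
    rintro _ ⟨k, hk, rfl⟩ z
    refine ⟨k, hk, Subtype.ext (Subtype.ext ?_)⟩
    show (k : G) = ((z : P) : G) * k * (((z : P) : G))⁻¹
    rw [← hz k k.2 (z : P) (z : P).2, mul_inv_cancel_right]⟩
  have hcomm : ∀ a b : Z ⧸ K₀, a * b = b * a := fun a b => by
    obtain ⟨x, rfl⟩ := QuotientGroup.mk_surjective a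
    obtain ⟨y, rfl⟩ := QuotientGroup.mk_surjective b
    rw [← QuotientGroup.mk_mul, ← QuotientGroup.mk_mul, eq_comm, QuotientGroup.eq]
    refine ⟨cm hd ((x⁻¹ : Z) : P) ((y⁻¹ : Z) : P), (x⁻¹).2 _, Subtype.ext (Subtype.ext ?_)⟩
    show ⁅(((x⁻¹ : Z) : P) : G), (((y⁻¹ : Z) : P) : G)⁆ = _
    simp only [Subgroup.coe_inv, inv_inv, Subgroup.coe_mul, commutatorElement_def]
    group
  letI : CommGroup (Z ⧸ K₀) := { (inferInstance : Group (Z ⧸ K₀)) with mul_comm := hcomm }
  haveI := Fintype.ofFinite (Z ⧸ K₀)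
  have hker : ∀ n : N, (QuotientGroup.mk' K₀) (ι n) = 1 ↔ v n = 1 := fun n => by
    rw [QuotientGroup.mk'_apply, QuotientGroup.eq_one_iff]
    constructor
    · rintro ⟨k, hk, e⟩
      rw [show n = k from Subtype.ext (congrArg (fun z : Z => ((z : P) : G)) e).symm]
      exact hk
    · exact fun h => ⟨n, h, rfl⟩
  set j := (QuotientGroup.mk' K₀).comp ι with hj
  have hext : ∃ μ : Z →* ℂˣ, ∀ n : N, μ (ι n) = v n := by
    let w : j.range →* ℂˣ := (MonoidHom.liftOfSurjective j.rangeRestrict j.rangeRestrict_surjective)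
      ⟨v, fun n hn => (hker n).1 (congrArg Subtype.val hn)⟩
    obtain ⟨w', hw'⟩ := MonoidHom.domRestrict_surjective j.range (M := ℂ) w
    refine ⟨w'.comp (QuotientGroup.mk' K₀), fun n => ?_⟩
    show w' (j n) = v n
    have h2 : w (j.rangeRestrict n) = v n := MonoidHom.liftOfRightInverse_comp_apply _ _ _ _ n
    rw [← h2, ← hw']
    rfl
  obtain ⟨μ, hμ⟩ := hext
  -- average over the stabiliser
  set K := stabL N L v
  haveI := Fintype.ofFinite K
  have hconjZ : ∀ (a : K) (x : P), x ∈ Z → MulAut.conjNormal ((a : L) : G) x ∈ Z := by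
    intro a x hx y
    have h1 : cm hd (MulAut.conjNormal ((a : L) : G) x) y =
        MulAut.conjNormal ((a : L) : G) (cm hd x (MulAut.conjNormal ((a : L) : G)⁻¹ y)) := Subtype.ext (by
      show ⁅(MulAut.conjNormal ((a : L) : G) x : G), (y : G)⁆ = _
      rw [MulAut.conjNormal_apply, MulAut.conjNormal_apply]
      show _ = ((a : L) : G) * ⁅(x : G), (MulAut.conjNormal ((a : L) : G)⁻¹ y : G)⁆ * ((a : L) : G)⁻¹
      rw [MulAut.conjNormal_apply]
      simp only [commutatorElement_def]; group)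
    have h2 := DFunLike.congr_fun (inv_mem a.2 : (a : L)⁻¹ ∈ stabL N L v) (cm hd x (MulAut.conjNormal ((a : L) : G)⁻¹ y))
    rw [dualConj_apply, Subgroup.coe_inv, inv_inv] at h2
    rw [h1, h2]
    exact hx _
  let act : K → Z →* Z := fun a => ((MulAut.conjNormal ((a : L) : G) : MulAut P).toMonoidHom.comp Z.subtype).codRestrict Z
    fun z => hconjZ a z z.2
  have hactmul : ∀ (a b : K) (z : Z), act (a * b) z = act a (act b z) := fun a b z => Subtype.ext (by
    show MulAut.conjNormal ((((a * b : K) : L)) : G) (z : P) =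
      MulAut.conjNormal ((a : L) : G) (MulAut.conjNormal ((b : L) : G) (z : P))
    rw [Subgroup.coe_mul, Subgroup.coe_mul, map_mul]; rfl)
  let ν₀ : Z →* ℂˣ := ∏ a : K, μ.comp (act a)
  have hν₀ : ∀ n : N, ν₀ (ι n) = v n ^ Nat.card K := fun n => by
    rw [MonoidHom.finsetProd_apply, Finset.prod_congr rfl (g := fun _ => v n) fun a _ => ?_, Finset.prod_const,
      Finset.card_univ, Nat.card_eq_fintype_card]
    show μ (act a (ι n)) = v n
    have h2 := DFunLike.congr_fun (inv_mem a.2 : (a : L)⁻¹ ∈ stabL N L v) n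
    rw [dualConj_apply, Subgroup.coe_inv, inv_inv] at h2
    rw [show act a (ι n) = ι (MulAut.conjNormal ((a : L) : G) n) from Subtype.ext (Subtype.ext (by
      show (MulAut.conjNormal ((a : L) : G) (Subgroup.inclusion hNP n) : G) = (MulAut.conjNormal ((a : L) : G) n : G)
      rw [MulAut.conjNormal_apply, MulAut.conjNormal_apply]; rfl)), hμ]
    exact h2
  have hcK : (Nat.card K).Coprime l := ((Nat.Prime.coprime_iff_not_dvd Fact.out).2
    fun h => hco (h.trans (Subgroup.card_subgroup_dvd_card K))).symm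
  obtain ⟨k, hk⟩ := Nat.exists_mul_mod_eq_one_of_coprime hcK (Fact.out : l.Prime).one_lt
  set ν : Z →* ℂˣ := ν₀ ^ k with hν
  have hνN : ∀ n : N, ν (ι n) = v n := fun n => by
    rw [hν, MonoidHom.pow_apply, hν₀, ← pow_mul]
    have : v n ^ l = 1 := by rw [← map_pow, show n ^ l = 1 from Subtype.ext (hpow n n.2), map_one]
    rw [pow_eq_pow_mod _ this, hk.2, pow_one]
  have hνinv : ∀ (a : K) (z : Z), ν (act a z) = ν z := fun a z => by
    rw [hν, MonoidHom.pow_apply, MonoidHom.pow_apply, MonoidHom.finsetProd_apply, MonoidHom.finsetProd_apply]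
    congr 1
    exact Fintype.prod_equiv (Equiv.mulRight a) _ _ fun b => by
      show μ (act b (act a z)) = μ (act (b * a) z)
      rw [hactmul]
  -- the character
  obtain ⟨θ, hθ⟩ := exists_constituent_over Z (linChar ν)
  have hinvP : ∀ (g : P) (z : Z), (linChar ν : Z → ℂ) (MulAut.conjNormal g z) = (linChar ν : Z → ℂ) z := by
    intro g z
    show (ν _ : ℂ) = (ν z : ℂ)
    have h1 : MulAut.conjNormal g z = ι (cm hd g (z : P)) * z := Subtype.ext (Subtype.ext (by
      show ((MulAut.conjNormal g z : Z) : P).1 = ⁅(g : G), ((z : P) : G)⁆ * ((z : P) : G)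
      rw [MulAut.conjNormal_apply, commutatorElement_def]
      simp [mul_assoc]))
    have h2 : v (cm hd g (z : P)) = 1 := by
      have h := z.2 g
      have h5 : cm hd g (z : P) = (cm hd (z : P) g)⁻¹ := Subtype.ext (by
        show ⁅(g : G), ((z : P) : G)⁆ = ⁅((z : P) : G), (g : G)⁆⁻¹
        rw [commutatorElement_inv])
      rw [h5, map_inv, h, inv_one]
    rw [h1, map_mul, hνN, h2, one_mul]
  obtain ⟨c, hc⟩ := restrict_eq_of_invariant Z θ (linChar ν) hθ hinvP
  have hcd : c = (deg (θ : P → ℂ) : ℂ) := by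
    have h := hc 1
    rw [OneMemClass.coe_one, char_one_eq_deg (irr_isCharacter θ.2)] at h
    rw [h]
    show c = c * (ν 1 : ℂ)
    rw [map_one, Units.val_one, mul_one]
  have hover : OverLin hNP v θ := fun n => by
    have h := hc (ι n)
    rw [hcd] at h
    show (θ : P → ℂ) ((ι n : Z) : P) = _
    rw [h]
    show _ * (ν (ι n) : ℂ) = _
    rw [hνN]
  refine ⟨θ, hover, le_antisymm (fun x hx => ?_) fun x hx m => ?_⟩
  · rw [← inv_mem_iff]
    show dualConj N _ v = v
    refine MonoidHom.ext fun n => Units.ext ?_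
    rw [dualConj_apply, Subgroup.coe_inv, inv_inv]
    have h := hx (Subgroup.inclusion hNP n)
    rw [show MulAut.conjNormal (x : G) (Subgroup.inclusion hNP n) = Subgroup.inclusion hNP (MulAut.conjNormal (x : G) n)
      from Subtype.ext (by
        show ((MulAut.conjNormal (x : G) (Subgroup.inclusion hNP n) : P) : G) = ((MulAut.conjNormal (x : G) n : N) : G)
        rw [MulAut.conjNormal_apply, MulAut.conjNormal_apply]; rfl),
      hover, hover] at h
    exact mul_left_cancel₀ (Nat.cast_ne_zero.2 (deg_pos θ.2).ne') h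
  · by_cases hm : m ∈ Z
    · have h1 := hc (act ⟨x, hx⟩ ⟨m, hm⟩)
      have h2 := hc ⟨m, hm⟩
      show (θ : P → ℂ) ((act ⟨x, hx⟩ ⟨m, hm⟩ : Z) : P) = (θ : P → ℂ) m
      rw [h1, h2]
      show c * (ν _ : ℂ) = c * (ν _ : ℂ)
      rw [hνinv]
    · have hm' : MulAut.conjNormal (x : G) m ∉ Z := fun h => hm (by
        have h2 := hconjZ ⟨x, hx⟩⁻¹ _ h
        rwa [show MulAut.conjNormal ((((⟨x, hx⟩ : K)⁻¹ : K) : L) : G) (MulAut.conjNormal (x : G) m) = m from by
          rw [← MulAut.mul_apply, ← map_mul]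
          simp] at h2)
      have hv0 : ∀ y : P, y ∉ Z → (θ : P → ℂ) y = 0 := fun y hy => by
        obtain ⟨y', hy'⟩ := not_forall.1 hy
        exact OverLin.vanish hd hz hNP hover hy'
      rw [hv0 _ hm', hv0 _ hm]

end Cfsg.Agent.Char.Palfy
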