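import Cfsg.Agent.Lib.Small.SymplecticClasses
import Mathlib.FieldTheory.ChevalleyWarning
import Mathlib.RingTheory.Localization.FractionRing
import Mathlib.RingTheory.IntegralClosure.IntegrallyClosed
import Mathlib.RingTheory.Polynomial.UniqueFactorization

/-!
# Spaces of non-degenerate alternating forms

If `c : A × A → W` is an alternating bilinear map over the field with `p` elements such that every
`c a ·` with `a ≠ 0` is onto, then `|W|² ≤ |A|`.
-/

set_option linter.style.haveILetI false
set_option linter.unusedSectionVars false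

namespace Cfsg.Agent.Char.Palfy

open Matrix

universe u v

/-- The determinant of a non-degenerate alternating matrix over a field is a square. -/
theorem det_isSquare {K : Type u} [Field K] {ι : Type v} [Fintype ι] [DecidableEq ι] (G : Matrix ι ι K)
    (halt : ∀ w, w ⬝ᵥ (G *ᵥ w) = 0) (hG : G.det ≠ 0) : IsSquare G.det := by
  obtain ⟨m, P, Q, hm, hP, hPQ, hQP⟩ := Small.SymplecticSemisimple.exists_std G halt (isUnit_iff_ne_zero.2 hG)
  have e : ι ≃ Fin m ⊕ Fin m := Fintype.equivOfCardEq (by simp; omega)
  set P' : Matrix ι ι K := P.submatrix id e with hP'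
  have h1 : P'ᵀ * G * P' = (Matrix.J (Fin m) K).submatrix e e := by
    rw [← hP]
    ext i j
    simp [hP', Matrix.mul_apply, Matrix.transpose_apply, Matrix.submatrix_apply]
  have h2 := congrArg Matrix.det h1
  rw [Matrix.det_mul, Matrix.det_mul, Matrix.det_transpose, Matrix.det_submatrix_equiv_self,
    show (Matrix.J (Fin m) K).det = 1 from
      Small.SymplecticClasses.det_eq_one ⟨_, SymplecticGroup.J_mem (l := Fin m) (R := K)⟩] at h2
  refine ⟨P'.det⁻¹, ?_⟩
  have hne : P'.det ≠ 0 := fun e0 => by rw [e0] at h2; simp at h2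
  field_simp
  linear_combination h2

variable {p : ℕ} [hp : Fact p.Prime] {A : Type u} [AddCommGroup A] [Module (ZMod p) A] [Finite A]
  {W : Type v} [AddCommGroup W] [Module (ZMod p) W] [Finite W]

/-- Chevalley-Warning applied to the Pfaffian. -/
theorem card_sq_le (c : A →ₗ[ZMod p] A →ₗ[ZMod p] W) (halt : ∀ a, c a a = 0) (hA : ∃ a : A, a ≠ 0)
    (hnd : ∀ a : A, a ≠ 0 → Function.Surjective (c a)) : Nat.card W ^ 2 ≤ Nat.card A := by
  classical
  set n := Module.finrank (ZMod p) A with hn
  set d := Module.finrank (ZMod p) W with hd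
  have hcA : Nat.card A = p ^ n := by
    rw [Module.natCard_eq_pow_finrank (K := ZMod p), Nat.card_zmod]
  have hcW : Nat.card W = p ^ d := by
    rw [Module.natCard_eq_pow_finrank (K := ZMod p), Nat.card_zmod]
  rw [hcA, hcW, ← pow_mul]
  refine Nat.pow_le_pow_right hp.out.pos ?_
  by_contra hlt
  set bA := Module.finBasis (ZMod p) A
  set bW := Module.finBasis (ZMod p) W
  set R := MvPolynomial (Fin d) (ZMod p)
  let co : Fin n → Fin n → Fin d → ZMod p := fun i j k => bW.repr (c (bA i) (bA j)) k
  let M : Matrix (Fin n) (Fin n) R := Matrix.of fun i j => ∑ k, MvPolynomial.C (co i j k) * MvPolynomial.X k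
  have hco0 : ∀ i k, co i i k = 0 := fun i k => by simp [co, halt]
  have hskew : ∀ i j k, co j i k = - co i j k := fun i j k => by
    have h := halt (bA i + bA j)
    simp only [map_add, LinearMap.add_apply, halt, zero_add, add_zero] at h
    have h' : c (bA j) (bA i) = - c (bA i) (bA j) := eq_neg_of_add_eq_zero_left h
    simp [co, h']
  -- evaluation
  let f : (Fin d → ZMod p) → (W →ₗ[ZMod p] ZMod p) := fun x => bW.constr (ZMod p) x
  have hev : ∀ x : Fin d → ZMod p, MvPolynomial.eval x M.det =
      (Matrix.of fun i j => f x (c (bA i) (bA j))).det := by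
    intro x
    rw [RingHom.map_det]
    congr 1
    ext i j
    simp [M, f, co, Module.Basis.constr_apply_fintype, Module.Basis.equivFun_apply, mul_comm]
    rfl
  have hnz : ∀ x : Fin d → ZMod p, x ≠ 0 → MvPolynomial.eval x M.det ≠ 0 := by
    intro x hx h0
    rw [hev] at h0
    obtain ⟨w, hw, hw0⟩ := Matrix.exists_mulVec_eq_zero_iff.2 h0
    set a : A := ∑ j, w j • bA j with ha
    have ha0 : a ≠ 0 := fun e => hw (by
      have := bA.repr_sum_self w
      rw [← ha, e, map_zero] at this
      funext j
      simpa using (congrArg (fun g => g j) this).symm)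
    obtain ⟨k, hk⟩ : ∃ k, x k ≠ 0 := Function.ne_iff.1 hx
    obtain ⟨b, hb⟩ := hnd a ha0 (bW k)
    have hz : ∀ i, f x (c a (bA i)) = 0 := fun i => by
      have h := congrFun hw0 i
      simp only [Matrix.mulVec, dotProduct, Matrix.of_apply, Pi.zero_apply] at h
      have hs : ∀ j, c (bA j) (bA i) = - c (bA i) (bA j) := fun j => by
        have h' := halt (bA i + bA j)
        simp only [map_add, LinearMap.add_apply, halt, zero_add, add_zero] at h'
        exact eq_neg_of_add_eq_zero_left h'
      rw [ha, map_sum, LinearMap.sum_apply, map_sum,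
        Finset.sum_congr rfl fun j _ => show f x ((c (w j • bA j)) (bA i)) = -(f x (c (bA i) (bA j)) * w j) by
          rw [map_smul, LinearMap.smul_apply, map_smul, hs j, map_neg, smul_eq_mul]; ring,
        Finset.sum_neg_distrib, h, neg_zero]
    refine hk ?_
    have : f x (c a b) = 0 := by
      rw [← bA.sum_repr b, map_sum, map_sum]
      exact Finset.sum_eq_zero fun i _ => by rw [map_smul, map_smul, hz i, smul_zero]
    rw [hb] at this
    simpa [f] using this
  have hn0 : 0 < n := by
    obtain ⟨a, ha⟩ := hA
    haveI : Nontrivial A := ⟨⟨a, 0, ha⟩⟩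
    exact Module.finrank_pos
  have hd0 : 0 < d := by omega
  have hdet : M.det ≠ 0 := fun e => hnz (fun _ => 1) (fun e' => one_ne_zero (congrFun e' ⟨0, hd0⟩))
    (by rw [e, map_zero])
  -- the determinant is a square
  obtain ⟨E, hE⟩ : IsSquare M.det := by
    set K := FractionRing R
    set φ := algebraMap R K with hφ
    have hφi : Function.Injective φ := IsFractionRing.injective R K
    set MK : Matrix (Fin n) (Fin n) K := M.map φ
    have hMKdet : MK.det = φ M.det := (RingHom.map_det φ M).symm
    have halt' : ∀ w, w ⬝ᵥ (MK *ᵥ w) = 0 := by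
      intro w
      have hii : ∀ i, MK i i = 0 := fun i => by simp [MK, M, hco0]
      have hij : ∀ i j, MK j i = - MK i j := fun i j => by
        simp [MK, M, hskew i j, Finset.sum_neg_distrib]
      simp only [Matrix.mulVec, dotProduct, Finset.mul_sum]
      rw [← Finset.sum_product']
      refine Finset.sum_involution (fun x _ => (x.2, x.1)) ?_ ?_ (fun x _ => Finset.mem_univ _) (fun x _ => rfl)
      · intro x _
        dsimp only
        rw [hij x.1 x.2]; ring
      · intro x _ hx e
        have : x.1 = x.2 := (congrArg Prod.fst e).symm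
        exact hx (by rw [this, hii]; ring)
    obtain ⟨a, ha⟩ := det_isSquare MK halt' (by rw [hMKdet]; exact fun e => hdet (hφi (by rw [e, map_zero])))
    rw [hMKdet] at ha
    have hint : IsIntegral R a := IsIntegral.of_pow (n := 2) (by norm_num) (by
      rw [pow_two, ← ha]; exact isIntegral_algebraMap)
    obtain ⟨e, he⟩ := IsIntegrallyClosed.isIntegral_iff.1 hint
    exact ⟨e, hφi (by rw [map_mul, he, ha])⟩
  -- degree bound
  have hdeg : M.det.totalDegree ≤ n := by
    rw [Matrix.det_apply']
    refine MvPolynomial.totalDegree_finsetSum_le fun σ _ => ?_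
    refine (MvPolynomial.totalDegree_mul _ _).trans ?_
    have h1 : ((Equiv.Perm.sign σ : ℤ) : R).totalDegree = 0 := by
      rw [← map_intCast (MvPolynomial.C (σ := Fin d) (R := ZMod p)), MvPolynomial.totalDegree_C]
    rw [h1, zero_add]
    refine (MvPolynomial.totalDegree_finsetProd _ _).trans ?_
    refine (Finset.sum_le_card_nsmul _ _ 1 fun i _ => ?_).trans (by simp)
    show MvPolynomial.totalDegree (∑ k, MvPolynomial.C (co (σ i) i k) * MvPolynomial.X k) ≤ 1
    refine MvPolynomial.totalDegree_finsetSum_le fun k _ => ?_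
    refine (MvPolynomial.totalDegree_mul _ _).trans ?_
    simp
  have hE0 : E ≠ 0 := fun e => hdet (by rw [hE, e, mul_zero])
  have hdegE : E.totalDegree < Fintype.card (Fin d) := by
    have h := MvPolynomial.totalDegree_mul_of_isDomain hE0 hE0
    rw [← hE] at h
    rw [Fintype.card_fin]; omega
  have hdiv := char_dvd_card_solutions p hdegE
  have hone : Fintype.card {x : Fin d → ZMod p // MvPolynomial.eval x E = 0} = 1 := by
    rw [Fintype.card_eq_one_iff]
    have h0 : MvPolynomial.eval (0 : Fin d → ZMod p) E = 0 := by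
      haveI : Nonempty (Fin n) := ⟨⟨0, hn0⟩⟩
      have h := hev 0
      rw [hE, map_mul, show (Matrix.of fun i j => f 0 (c (bA i) (bA j))) = (0 : Matrix (Fin n) (Fin n) (ZMod p)) by
        ext i j; simp [f], Matrix.det_zero] at h
      exact mul_self_eq_zero.1 h
    refine ⟨⟨0, h0⟩, fun x => Subtype.ext (by_contra fun hx => hnz x.1 hx ?_)⟩
    rw [hE, map_mul, x.2, mul_zero]
  rw [hone, Nat.dvd_one] at hdiv
  exact hp.out.ne_one hdiv

end Cfsg.Agent.Char.Palfy
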