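import Cfsg.Agent.Lib.Char.Palfy.Basic
import Mathlib.Algebra.BigOperators.Group.Finset.Basic
import Mathlib.GroupTheory.SpecificGroups.Cyclic

/-!
# Normal abelian subgroups act fixed point freely
-/

set_option linter.style.haveILetI false
set_option linter.unusedSectionVars false

namespace Cfsg.Agent.Char.Palfy

universe u v

variable {L : Type u} [Group L] [Finite L] {V : Type v} [CommGroup V] [Finite V]
  [MulDistribMulAction L V] {l : ℕ}

theorem eq_one_of_smul_eq_one {g : L} {v : V} (h : g • v = 1) : v = 1 := by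
  simpa using congrArg (g⁻¹ • ·) h

/-- The norm with respect to a subgroup. -/
noncomputable def normV (B : Subgroup L) (v : V) : V :=
  letI := Fintype.ofFinite B
  ∏ b : B, (b : L) • v

theorem normV_mul (B : Subgroup L) (v w : V) : normV B (v * w) = normV B v * normV B w := by
  simp only [normV, smul_mul', Finset.prod_mul_distrib]

theorem normV_mem_fix (B : Subgroup L) (v : V) : normV B v ∈ fixV B V := fun g hg => by
  letI := Fintype.ofFinite B
  simp only [normV, Finset.smul_prod']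
  exact Fintype.prod_equiv (Equiv.mulLeft (⟨g, hg⟩ : B)) _ _ fun b => by
    simp [mul_smul]

theorem normV_of_fix {B : Subgroup L} {v : V} (hv : v ∈ fixV B V) : normV B v = v ^ Nat.card B := by
  letI := Fintype.ofFinite B
  simp only [normV]
  rw [Finset.prod_congr rfl (fun (b : B) _ => hv b b.2), Finset.prod_const, Finset.card_univ,
    Nat.card_eq_fintype_card]

theorem normV_fix_comm {B B' : Subgroup L} {v : V} (hv : v ∈ fixV B' V)
    (hc : ∀ b ∈ B, ∀ b' ∈ B', b' * b = b * b') : normV B v ∈ fixV B' V := fun g hg => by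
  letI := Fintype.ofFinite B
  simp only [normV, Finset.smul_prod']
  exact Finset.prod_congr rfl fun b _ => by rw [← mul_smul, hc b b.2 g hg, mul_smul, hv g hg]

/-- `B` is a maximal subgroup of `A` with non-trivial fixed vectors. -/
def MaxFix (A B : Subgroup L) (V : Type v) [CommGroup V] [MulDistribMulAction L V] : Prop :=
  Maximal (fun C : Subgroup L => C ≤ A ∧ fixV C V ≠ ⊥) B

theorem maxFix_conj {A B : Subgroup L} [hA : A.Normal] (g : L) (h : MaxFix A B V) :
    MaxFix A (B.map (MulAut.conj g).toMonoidHom) V ∧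
      ∀ v ∈ fixV B V, g • v ∈ fixV (B.map (MulAut.conj g).toMonoidHom) V := by
  have key : ∀ (g : L) (C : Subgroup L), ∀ v ∈ fixV C V, g • v ∈ fixV (C.map (MulAut.conj g).toMonoidHom) V := by
    rintro g C v hv _ ⟨b, hb, rfl⟩
    rw [MulEquiv.coe_toMonoidHom, MulAut.conj_apply, mul_smul, mul_smul, inv_smul_smul, hv b hb]
  have good : ∀ (g : L) (C : Subgroup L), C ≤ A → fixV C V ≠ ⊥ →
      C.map (MulAut.conj g).toMonoidHom ≤ A ∧ fixV (C.map (MulAut.conj g).toMonoidHom) V ≠ ⊥ := by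
    intro g C hC hne
    refine ⟨?_, fun e => hne ((Subgroup.eq_bot_iff_forall _).2 fun v hv => ?_)⟩
    · rintro _ ⟨b, hb, rfl⟩
      exact hA.conj_mem b (hC hb) g
    · have := Subgroup.mem_bot.1 (e ▸ key g C v hv)
      exact eq_one_of_smul_eq_one this
  refine ⟨⟨good g B h.prop.1 h.prop.2, fun C hC hle => ?_⟩, key g B⟩
  have h1 : B ≤ C.map (MulAut.conj g⁻¹).toMonoidHom := fun b hb =>
    ⟨g * b * g⁻¹, hle ⟨b, hb, rfl⟩, by simp [mul_assoc]⟩
  have h2 := h.le_of_ge (good g⁻¹ C hC.1 hC.2) h1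
  intro c hc
  exact ⟨g⁻¹ * c * g, h2 ⟨c, hc, by simp⟩, by simp [mul_assoc]⟩

/-- Distinct maximal subgroups: the norm over one kills the fixed vectors of the other. -/
theorem maxFix_norm {A B B' : Subgroup L} (hab : ∀ a ∈ A, ∀ b ∈ A, a * b = b * a)
    (h : MaxFix A B V) (h' : MaxFix A B' V) (hne : B ≠ B') {v : V} (hv : v ∈ fixV B' V) :
    normV B v = 1 := by
  by_contra hn
  have hfix : normV B v ∈ fixV (B ⊔ B') V := by
    have : B ⊔ B' ≤ MulAction.stabilizer L (normV B v) := sup_le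
      (fun g hg => normV_mem_fix B v g hg)
      (fun g hg => normV_fix_comm hv (fun b hb b' hb' => hab b' (h'.prop.1 hb') b (h.prop.1 hb)) g hg)
    exact fun g hg => this hg
  have hp : B ⊔ B' ≤ A ∧ fixV (B ⊔ B') V ≠ ⊥ :=
    ⟨sup_le h.prop.1 h'.prop.1, fun e => hn (Subgroup.mem_bot.1 (e ▸ hfix))⟩
  exact hne ((h.eq_of_le hp le_sup_left).trans (h'.eq_of_le hp le_sup_right).symm)

/-- A normal abelian subgroup of order prime to the characteristic acts fixed point freely. -/
theorem fpf_abelian (c : Ctx L V l) {q : ℕ} [Fact q.Prime] (hu : UniqSylow q L V) (hq2 : q ≠ 2)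
    (hq : q ∣ Nat.card L) (A : Subgroup L) [hA : A.Normal] (hab : ∀ a ∈ A, ∀ b ∈ A, a * b = b * a)
    (hco : (Nat.card A).Coprime l) {a : L} (ha : a ∈ A) (ha1 : a ≠ 1) {v : V} (hv : a • v = v) :
    v = 1 := by
  by_contra hv1
  have hz : Subgroup.zpowers a ≤ A ∧ fixV (Subgroup.zpowers a) V ≠ ⊥ := by
    refine ⟨Subgroup.zpowers_le.2 ha, fun e => hv1 (Subgroup.mem_bot.1 (e ▸ ?_))⟩
    intro g hg
    exact (Subgroup.zpowers_le.2 (show a ∈ MulAction.stabilizer L v from hv) hg : g ∈ MulAction.stabilizer L v)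
  obtain ⟨B, haB, hB⟩ := Finite.exists_le_maximal
    (p := fun C : Subgroup L => C ≤ A ∧ fixV C V ≠ ⊥) hz
  have hB : MaxFix A B V := hB
  -- two different maximal subgroups
  obtain ⟨g₀, hg₀⟩ : ∃ g : L, B.map (MulAut.conj g).toMonoidHom ≠ B := by
    by_contra hall
    push Not at hall
    haveI : B.Normal := ⟨fun b hb g => by
      have : g * b * g⁻¹ ∈ B.map (MulAut.conj g).toMonoidHom := ⟨b, hb, rfl⟩
      rwa [hall g] at this⟩
    obtain ⟨w, hw, hw1⟩ := (fixV B V).ne_bot_iff_exists_ne_one.1 hB.prop.2 |> fun ⟨w, hw⟩ =>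
      (⟨w.1, w.2, fun e => hw (Subtype.ext e)⟩ : ∃ w, w ∈ fixV B V ∧ w ≠ 1)
    have := c.fixed_normal hw1 hw
    exact ha1 (Subgroup.mem_bot.1 (this ▸ haB (Subgroup.mem_zpowers a)))
  have hcoB : ∀ {C : Subgroup L}, C ≤ A → (Nat.card C).Coprime l := fun hC =>
    hco.coprime_dvd_left (Subgroup.card_dvd_of_le hC)
  have hodd : ∀ (S : Sylow q L) (g : L), g ∈ (S : Subgroup L) → g ∈ Subgroup.zpowers (g ^ 2) := by
    intro S g hg
    obtain ⟨k, hk⟩ := IsPGroup.iff_orderOf.1 S.isPGroup' ⟨g, hg⟩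
    rw [Subgroup.orderOf_mk] at hk
    have hodd : Odd (orderOf g) := hk ▸ ((Nat.Prime.odd_of_ne_two Fact.out hq2).pow)
    obtain ⟨m, hm⟩ := hodd
    refine ⟨((m + 1 : ℕ) : ℤ), ?_⟩
    simp only
    rw [zpow_natCast, ← pow_mul, show 2 * (m + 1) = orderOf g + 1 by omega, pow_succ,
      pow_orderOf_eq_one, one_mul]
  -- the key: the Sylow subgroup fixing a product fixes both parts
  have key : ∀ {B₁ B₂ : Subgroup L}, MaxFix A B₁ V → MaxFix A B₂ V → B₁ ≠ B₂ → ∀ {v w : V},
      v ≠ 1 → v ∈ fixV B₁ V → w ≠ 1 → w ∈ fixV B₂ V → ∀ {S S' : Sylow q L},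
      v ∈ fixV (S : Subgroup L) V → w ∈ fixV (S' : Subgroup L) V → S = S' := by
    intro B₁ B₂ h₁ h₂ hne v w hv1 hv hw1 hw S S' hS hS'
    have hvw : v * w ≠ 1 := by
      intro e
      have : normV B₁ (v * w) = v ^ Nat.card B₁ := by
        rw [normV_mul, normV_of_fix hv, maxFix_norm hab h₁ h₂ hne hw, mul_one]
      rw [e, show normV B₁ (1 : V) = 1 from by rw [normV_of_fix (one_mem _), one_pow]] at this
      exact hv1 (c.pow_injective (hcoB h₁.prop.1) (by simpa using this.symm))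
    obtain ⟨T, hT⟩ := hu.exists_fix hvw
    have hfix : ∀ g ∈ (T : Subgroup L), g • v = v ∧ g • w = w := by
      intro g hgT
      have e0 : (g • v) * (g • w) = v * w := by rw [← smul_mul']; exact hT g hgT
      have m1 := maxFix_conj g h₁
      have m2 := maxFix_conj g h₂
      set C₁ := B₁.map (MulAut.conj g).toMonoidHom
      set C₂ := B₂.map (MulAut.conj g).toMonoidHom
      have hCne : C₁ ≠ C₂ := fun e => hne (Subgroup.map_injective (MulEquiv.injective _) e)
      have mem : ∀ {C C' : Subgroup L}, MaxFix A C V → MaxFix A C' V → C ≠ C' → ∀ {x y : V},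
          x ≠ 1 → x ∈ fixV C V → y ∈ fixV C' V → x * y = v * w → C = B₁ ∨ C = B₂ := by
        intro C C' hC hC' hne' x y hx1 hx hy e
        by_contra hno
        push Not at hno
        have h3 := congrArg (normV C) e
        rw [normV_mul, normV_mul, normV_of_fix hx, maxFix_norm hab hC hC' hne' hy,
          maxFix_norm hab hC h₁ hno.1 hv, maxFix_norm hab hC h₂ hno.2 hw, mul_one] at h3
        exact hx1 (c.pow_injective (hcoB hC.prop.1) (by simpa using h3))
      have a1 := mem m1.1 m2.1 hCne (fun e => hv1 (eq_one_of_smul_eq_one e)) (m1.2 v hv) (m2.2 w hw) e0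
      have a2 := mem m2.1 m1.1 hCne.symm (fun e => hw1 (eq_one_of_smul_eq_one e)) (m2.2 w hw) (m1.2 v hv)
        (by rw [mul_comm]; exact e0)
      have conj2 : ∀ (C : Subgroup L), (C.map (MulAut.conj g).toMonoidHom).map (MulAut.conj g).toMonoidHom =
          C.map (MulAut.conj (g ^ 2)).toMonoidHom := fun C => by
        rw [Subgroup.map_map]; congr 1; ext x; simp [pow_two, mul_assoc]
      have hsq : B₁.map (MulAut.conj (g ^ 2)).toMonoidHom = B₁ := by
        rw [← conj2]
        rcases a1 with e | e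
        · rw [show B₁.map (MulAut.conj g).toMonoidHom = B₁ from e, show B₁.map (MulAut.conj g).toMonoidHom = B₁ from e]
        · rcases a2 with e' | e'
          · rw [show B₁.map (MulAut.conj g).toMonoidHom = B₂ from e, show B₂.map (MulAut.conj g).toMonoidHom = B₁ from e']
          · exact absurd (e.trans e'.symm) hCne
      have hN : g ^ 2 ∈ Subgroup.normalizer (B₁ : Set L) := by
        rw [Subgroup.mem_normalizer_iff]
        intro x
        constructor
        · intro hx
          have : g ^ 2 * x * (g ^ 2)⁻¹ ∈ B₁.map (MulAut.conj (g ^ 2)).toMonoidHom := ⟨x, hx, rfl⟩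
          rwa [hsq] at this
        · intro hx
          rw [← hsq] at hx
          obtain ⟨y, hy, hyx⟩ := hx
          rw [MulEquiv.coe_toMonoidHom, MulAut.conj_apply] at hyx
          rwa [← mul_left_cancel (mul_right_cancel hyx)]
      have hgN : g ∈ Subgroup.normalizer (B₁ : Set L) := Subgroup.zpowers_le.2 hN (hodd T g hgT)
      have e1 : C₁ = B₁ := by
        ext x
        constructor
        · rintro ⟨y, hy, rfl⟩
          exact (Subgroup.mem_normalizer_iff.1 hgN y).1 hy
        · intro hx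
          exact ⟨g⁻¹ * x * g, (Subgroup.mem_normalizer_iff.1 hgN _).2 (by simpa [mul_assoc] using hx),
            by simp [mul_assoc]⟩
      have h3 := congrArg (normV B₁) e0
      rw [normV_mul, normV_mul, normV_of_fix (e1 ▸ m1.2 v hv), normV_of_fix hv,
        maxFix_norm hab h₁ m2.1 (e1 ▸ hCne) (m2.2 w hw), maxFix_norm hab h₁ h₂ hne hw,
        mul_one, mul_one] at h3
      have hgv : g • v = v := c.pow_injective (hcoB h₁.prop.1) h3
      rw [hgv] at e0
      exact ⟨hgv, mul_left_cancel e0⟩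
    exact (hu.eq_of_fix hv1 hS fun g hg => (hfix g hg).1).trans
      (hu.eq_of_fix hw1 hS' fun g hg => (hfix g hg).2).symm
  -- hence one Sylow subgroup is normal
  have hex : ∀ {C : Subgroup L}, MaxFix A C V → ∃ w : V, w ≠ 1 ∧ w ∈ fixV C V := fun hC => by
    obtain ⟨w, hw⟩ := (fixV _ V).ne_bot_iff_exists_ne_one.1 hC.prop.2
    exact ⟨w.1, fun e => hw (Subtype.ext e), w.2⟩
  obtain ⟨v₀, hv₀, hv₀B⟩ := hex hB
  obtain ⟨S, hS⟩ := hu.exists_fix hv₀
  have hB₀ := (maxFix_conj g₀ hB).1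
  obtain ⟨w₀, hw₀, hw₀B⟩ := hex hB₀
  obtain ⟨S', hS'⟩ := hu.exists_fix hw₀
  have hSS : S = S' := key hB hB₀ (Ne.symm hg₀) hv₀ hv₀B hw₀ hw₀B hS hS'
  refine c.not_normal hu hq S (Subgroup.normalizer_eq_top_iff.1 (eq_top_iff.2 fun g _ => ?_))
  refine Sylow.smul_eq_iff_mem_normalizer.1 ?_
  have hgS : g • v₀ ∈ fixV ((g • S : Sylow q L) : Subgroup L) V := by
    intro x hx
    rw [Sylow.coe_subgroup_smul] at hx
    obtain ⟨y, hy, rfl⟩ := hx
    simp only [MulDistribMulAction.toMonoidEnd_apply, MulDistribMulAction.toMonoidHom_apply,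
      MulAut.smul_def, MulAut.conj_apply]
    rw [mul_smul, mul_smul, inv_smul_smul, hS y hy]
  have hg1 : g • v₀ ≠ 1 := fun e => hv₀ (eq_one_of_smul_eq_one e)
  have hgB := maxFix_conj g hB
  by_cases e : B.map (MulAut.conj g).toMonoidHom = B
  · exact (key hgB.1 hB₀ (fun h => hg₀ (h.symm.trans e)) hg1 (hgB.2 v₀ hv₀B) hw₀ hw₀B hgS hS').trans hSS.symm
  · exact key hgB.1 hB e hg1 (hgB.2 v₀ hv₀B) hv₀ hv₀B hgS hS

/-- Two commuting elements of prime order acting fixed point freely generate the same subgroup. -/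
theorem mem_zpowers_of_fpf {W : Type v} [CommGroup W] {H : Type u} [Group H] [MulDistribMulAction H W] {s : ℕ}
    [hs : Fact s.Prime] (hW : ∀ v : W, v ^ s = 1 → v = 1) (hW1 : ∃ v : W, v ≠ 1)
    {x y : H} (hxy : x * y = y * x) (hx : x ^ s = 1) (hy : y ^ s = 1)
    (hfpf : ∀ g : H, g ^ s = 1 → g ≠ 1 → ∀ v : W, g • v = v → v = 1) (hx1 : x ≠ 1) :
    y ∈ Subgroup.zpowers x := by
  classical
  by_contra hy'
  have hc : Commute x y := hxy
  have htrace : ∀ g : H, g ^ s = 1 → g ≠ 1 → ∀ v : W, ∏ i ∈ Finset.range s, g ^ i • v = 1 := by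
    intro g hg hg1 v
    refine hfpf g hg hg1 _ ?_
    have h1 := Finset.prod_range_succ' (fun i => g ^ i • v) s
    rw [Finset.prod_range_succ, hg, one_smul, pow_zero, one_smul] at h1
    rw [Finset.smul_prod', Finset.prod_congr rfl fun i _ => show g • g ^ i • v = g ^ (i + 1) • v by
      rw [← mul_smul, ← pow_succ'], ← mul_right_cancel h1]
  have hne : ∀ j, x * y ^ j ≠ 1 := by
    intro j e
    have : y ^ j = x⁻¹ := (eq_inv_of_mul_eq_one_right e)
    have hj : ¬ s ∣ j := fun ⟨k, hk⟩ => hx1 (by rwa [hk, pow_mul, hy, one_pow, mul_one] at e)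
    obtain ⟨k, hk⟩ := exists_pow_eq_self_of_coprime (x := y) (n := j) (by
      rw [orderOf_eq_prime hy (fun e => hy' (e ▸ one_mem _))]
      exact ((hs.out.coprime_iff_not_dvd).2 hj).symm)
    exact hy' (hk ▸ Subgroup.pow_mem _ (this ▸ inv_mem (Subgroup.mem_zpowers x)) k)
  obtain ⟨v, hv⟩ := hW1
  have h0 : ∏ j ∈ Finset.range s, ∏ i ∈ Finset.range s, (x * y ^ j) ^ i • v = 1 :=
    Finset.prod_eq_one fun j _ => htrace _ (by
      rw [(hc.pow_right j).mul_pow, hx, one_mul, ← pow_mul, mul_comm, pow_mul, hy, one_pow]) (hne j) v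
  rw [Finset.prod_comm, Finset.prod_eq_single 0] at h0
  · refine hv (hW v ?_)
    simpa using h0
  · intro i hi hi0
    have e : ∀ j, (x * y ^ j) ^ i • v = x ^ i • (y ^ i) ^ j • v := fun j => by
      rw [(hc.pow_right j).mul_pow, mul_smul, ← pow_mul, ← pow_mul, mul_comm i j]
    rw [Finset.prod_congr rfl fun j _ => e j, ← Finset.smul_prod', htrace (y ^ i) ?_ ?_ v, smul_one]
    · rw [← pow_mul, mul_comm, pow_mul, hy, one_pow]
    · intro e'
      have h2 := orderOf_dvd_of_pow_eq_one e'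
      rw [orderOf_eq_prime hy (fun e => hy' (e ▸ one_mem _))] at h2
      exact hi0 (Nat.eq_zero_of_dvd_of_lt h2 (Finset.mem_range.1 hi))
  · intro h; exact absurd (Finset.mem_range.2 hs.out.pos) h

end Cfsg.Agent.Char.Palfy
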