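import Cfsg.Agent.Lib.Char.Palfy.CaseC
import Cfsg.Agent.Lib.Char.ItoConverse
import Cfsg.Agent.Lib.Solv.Basic

/-!
# Three primes among the character degrees of a solvable group
-/

set_option linter.style.haveILetI false
set_option linter.unusedSectionVars false

namespace Cfsg.Agent.Char.Palfy

open Cfsg
open scoped commutatorElement

universe u

/-- A prime with a normal abelian Sylow subgroup in the quotient by a minimal normal subgroup. -/
theorem step {G : Type u} [Group G] [Fintype G] [Group.IsSolvable G] {p q r : ℕ} [hp : Fact p.Prime]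
    [hq : Fact q.Prime] [hr : Fact r.Prime] (hpq' : p ≠ q) (hpr' : p ≠ r) (hqr' : q ≠ r)
    (hpq : ∀ χ : IrrCharacter G, ¬ p * q ∣ deg (χ : G → ℂ))
    (hpr : ∀ χ : IrrCharacter G, ¬ p * r ∣ deg (χ : G → ℂ))
    (hqr : ∀ χ : IrrCharacter G, ¬ q * r ∣ deg (χ : G → ℂ))
    (hpd : ∃ χ : IrrCharacter G, p ∣ deg (χ : G → ℂ)) (hqd : ∃ χ : IrrCharacter G, q ∣ deg (χ : G → ℂ))
    (hrd : ∃ χ : IrrCharacter G, r ∣ deg (χ : G → ℂ))
    (N : Subgroup G) [N.Normal] (hN : N ≠ ⊥) (hmin : ∀ K : Subgroup G, K.Normal → K ≤ N → K = ⊥ ∨ K = N)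
    (h : ∃ S : Subgroup (G ⧸ N), S.Normal ∧ (∀ x ∈ S, ∀ y ∈ S, x * y = y * x) ∧ IsPGroup p S ∧ ¬ p ∣ S.index) :
    False := by
  obtain ⟨⟨⟨hNc⟩⟩, l, hl, hpow, hNl⟩ := Solv.minimal_normal_elementaryAbelian N inferInstance hN hmin
  haveI := Fact.mk hl
  obtain ⟨S, hSn, hSc, hSp, hSi⟩ := h
  obtain ⟨Ps⟩ : Nonempty (Sylow p G) := inferInstance
  have hle : (Ps : Subgroup G).map (QuotientGroup.mk' N) ≤ S :=
    pgroup_le_of_not_dvd_index (Ps.isPGroup'.map _) S hSi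
  have hmi : ¬ p ∣ ((Ps : Subgroup G).map (QuotientGroup.mk' N)).index := fun h' =>
    Ps.not_dvd_index (h'.trans (Subgroup.index_map_dvd _ (QuotientGroup.mk'_surjective N)))
  have heq : S = (Ps : Subgroup G).map (QuotientGroup.mk' N) := by
    have h2 := ((Ps.isPGroup'.map (QuotientGroup.mk' N)).toSylow hmi).is_maximal' hSp (by exact hle)
    exact h2
  have hsn : ((Ps : Subgroup G) ⊔ N).Normal := by
    have e : (Ps : Subgroup G) ⊔ N = S.comap (QuotientGroup.mk' N) := by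
      rw [heq, Subgroup.comap_map_eq, QuotientGroup.ker_mk']
    rw [e]
    infer_instance
  have hd : ∀ x ∈ (Ps : Subgroup G), ∀ y ∈ (Ps : Subgroup G), ⁅x, y⁆ ∈ N := fun x hx y hy => by
    rw [← QuotientGroup.ker_mk' N, MonoidHom.mem_ker, map_commutatorElement, commutatorElement_eq_one_iff_mul_comm]
    exact hSc _ (hle ⟨x, hx, rfl⟩) _ (hle ⟨y, hy, rfl⟩)
  by_cases hlp : l = p
  · subst hlp
    have hNP : N ≤ (Ps : Subgroup G) := hNl.le_sylow_of_normal Ps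
    rw [sup_eq_left.2 hNP] at hsn
    exact caseC hpq' hpr' hqr' hpq hpr hqr hpd hqd hrd N hN hmin hNc hpow hNl Ps hNP hd
  · have hdis : Disjoint (Ps : Subgroup G) N := IsPGroup.disjoint_of_ne p l (fun e => hlp e.symm) _ _ Ps.isPGroup' hNl
    exact caseA hpq' hpr' hqr' hpq hpr hqr hpd hqd hrd N hN hmin hNc hpow hNl hlp Ps hsn fun x hx y hy =>
      commutatorElement_eq_one_iff_mul_comm.1 (Subgroup.mem_bot.1
        (hdis.le_bot ⟨by rw [commutatorElement_def]; exact (Ps : Subgroup G).mul_mem ((Ps : Subgroup G).mul_mem ((Ps : Subgroup G).mul_mem hx hy) ((Ps : Subgroup G).inv_mem hx)) ((Ps : Subgroup G).inv_mem hy), hd x hx y hy⟩))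

/-- **Pálfy**: among three primes dividing degrees, two have their product dividing a degree. -/
theorem three_primes : ∀ (n : ℕ) (G : Type u) [Group G] [Fintype G] [Group.IsSolvable G], Nat.card G = n →
    ∀ (p q r : ℕ) [Fact p.Prime] [Fact q.Prime] [Fact r.Prime], p ≠ q → p ≠ r → q ≠ r →
    (∀ χ : IrrCharacter G, ¬ p * q ∣ deg (χ : G → ℂ)) →
    (∀ χ : IrrCharacter G, ¬ p * r ∣ deg (χ : G → ℂ)) →
    (∀ χ : IrrCharacter G, ¬ q * r ∣ deg (χ : G → ℂ)) →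
    (∃ χ : IrrCharacter G, p ∣ deg (χ : G → ℂ)) → (∃ χ : IrrCharacter G, q ∣ deg (χ : G → ℂ)) →
    (∃ χ : IrrCharacter G, r ∣ deg (χ : G → ℂ)) → False := by
  intro n
  induction n using Nat.strong_induction_on with
  | _ n ih =>
  intro G _ _ _ hn p q r _ _ _ hpq' hpr' hqr' hpq hpr hqr hpd hqd hrd
  classical
  haveI : Nontrivial G := by
    by_contra hG
    rw [not_nontrivial_iff_subsingleton] at hG
    obtain ⟨χ, hχ⟩ := hpd
    exact (Fact.out : p.Prime).not_dvd_one (hχ.trans ((deg_dvd_card χ.2).trans (by rw [Nat.card_of_subsingleton (1 : G)])))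
  obtain ⟨N, hNn, hN, hmin⟩ := Solv.exists_minimal_normal (G := G)
  haveI := Fintype.ofFinite (G ⧸ N)
  have hlift : ∀ t : ℕ, (∃ χ : IrrCharacter (G ⧸ N), t ∣ deg (χ : G ⧸ N → ℂ)) →
      ∃ χ : IrrCharacter G, t ∣ deg (χ : G → ℂ) := fun t ⟨χ, hχ⟩ => by
    obtain ⟨ψ, hψ⟩ := exists_deg_comp_surjective (QuotientGroup.mk' N) (QuotientGroup.mk'_surjective N) χ
    exact ⟨ψ, hψ ▸ hχ⟩
  by_cases hp' : ∃ S : Subgroup (G ⧸ N), S.Normal ∧ (∀ x ∈ S, ∀ y ∈ S, x * y = y * x) ∧ IsPGroup p S ∧ ¬ p ∣ S.index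
  · exact step hpq' hpr' hqr' hpq hpr hqr hpd hqd hrd N hN hmin hp'
  by_cases hq' : ∃ S : Subgroup (G ⧸ N), S.Normal ∧ (∀ x ∈ S, ∀ y ∈ S, x * y = y * x) ∧ IsPGroup q S ∧ ¬ q ∣ S.index
  · exact step hpq'.symm hqr' hpr' (fun χ => mul_comm p q ▸ hpq χ) hqr hpr hqd hpd hrd N hN hmin hq'
  by_cases hr' : ∃ S : Subgroup (G ⧸ N), S.Normal ∧ (∀ x ∈ S, ∀ y ∈ S, x * y = y * x) ∧ IsPGroup r S ∧ ¬ r ∣ S.index
  · exact step hpr'.symm hqr'.symm hpq' (fun χ => mul_comm p r ▸ hpr χ) (fun χ => mul_comm q r ▸ hqr χ) hpq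
      hrd hpd hqd N hN hmin hr'
  have hex : ∀ t : ℕ, [Fact t.Prime] → (¬ ∃ S : Subgroup (G ⧸ N), S.Normal ∧ (∀ x ∈ S, ∀ y ∈ S, x * y = y * x) ∧
      IsPGroup t S ∧ ¬ t ∣ S.index) → ∃ χ : IrrCharacter (G ⧸ N), t ∣ deg (χ : G ⧸ N → ℂ) := fun t _ ht => by
    rw [normal_abelian_sylow_iff (isPSolvable_of_isSolvable (p := t) Fact.out _ rfl inferInstance)] at ht
    push Not at ht
    exact ht
  have hlt : Nat.card (G ⧸ N) < n := by
    rw [← hn, Subgroup.card_eq_card_quotient_mul_card_subgroup N]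
    exact lt_mul_of_one_lt_right Nat.card_pos ((Subgroup.one_lt_card_iff_ne_bot N).2 hN)
  refine ih _ hlt (G ⧸ N) rfl p q r hpq' hpr' hqr' ?_ ?_ ?_ (hex p hp') (hex q hq') (hex r hr')
  · exact fun χ h => (hlift _ ⟨χ, h⟩).elim hpq
  · exact fun χ h => (hlift _ ⟨χ, h⟩).elim hpr
  · exact fun χ h => (hlift _ ⟨χ, h⟩).elim hqr

end Cfsg.Agent.Char.Palfy
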