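import Cfsg.Agent.Lib.Char.Palfy.Fibre
import Cfsg.Agent.Lib.Char.Palfy.Forms
import Mathlib.Algebra.Module.ZMod

/-!
# The pairing on the moved linear characters
-/

set_option linter.style.haveILetI false
set_option linter.unusedSectionVars false

namespace Cfsg.Agent.Char.Palfy

open Cfsg SqfreeDeg
open scoped commutatorElement

universe u

variable {G : Type u} [Group G] [Fintype G]

theorem finite_linear (H : Type u) [Group H] [Finite H] : Finite (H →* ℂˣ) := by
  haveI : Finite (Abelianization H →* ℂˣ) := Nat.finite_of_card_ne_zero (by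
    rw [CommGroup.card_monoidHom_of_hasEnoughRootsOfUnity]; exact Nat.card_pos.ne')
  exact Finite.of_equiv _ Abelianization.lift.symm

variable {N P : Subgroup G} (hd : ∀ x ∈ P, ∀ y ∈ P, ⁅x, y⁆ ∈ N) (hz : ∀ n ∈ N, ∀ x ∈ P, n * x = x * n)
  [hPn : P.Normal] [hNn : N.Normal]

/-- Commutation with a fixed element. -/
def cmHom (u : P) : P →* N := MonoidHom.mk' (cm hd u) (cm_mul_right hd hz u)

/-- The map to linear characters given by `v`. -/
def bMap (v : ↥N →* ℂˣ) : P →* (↥P →* ℂˣ) :=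
  MonoidHom.mk' (fun u => v.comp (cmHom hd hz u)) fun a b => MonoidHom.ext fun y => by
    show v (cm hd (a * b) y) = v (cm hd a y) * v (cm hd b y)
    rw [cm_mul_left hd hz, map_mul]

theorem cm_conj (g : G) (x y : P) :
    cm hd (MulAut.conjNormal g x) (MulAut.conjNormal g y) = MulAut.conjNormal g (cm hd x y) := Subtype.ext (by
  show ⁅(MulAut.conjNormal g x : G), (MulAut.conjNormal g y : G)⁆ = _
  rw [MulAut.conjNormal_apply, MulAut.conjNormal_apply, MulAut.conjNormal_apply]
  show _ = g * ⁅(x : G), (y : G)⁆ * g⁻¹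
  simp only [commutatorElement_def]; group)

/-- The linear characters moved by `Q`. -/
def movedChars (L : Subgroup G) (Q : Subgroup L) : Subgroup (↥P →* ℂˣ) :=
  Subgroup.closure {m | ∃ a ∈ Q, ∃ μ : ↥P →* ℂˣ, m = dualConj P (a : G) μ / μ}

variable (L : Subgroup G) (Q : Subgroup L) [hQn : Q.Normal]

theorem movedChars_invariant (g : L) {m : ↥P →* ℂˣ} (hm : m ∈ movedChars (P := P) L Q) :
    dualConj P (g : G) m ∈ movedChars (P := P) L Q := by
  induction hm using Subgroup.closure_induction with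
  | mem x hx =>
    obtain ⟨a, ha, μ, rfl⟩ := hx
    refine Subgroup.subset_closure ⟨g * a * g⁻¹, hQn.conj_mem a ha g, dualConj P (g : G) μ, ?_⟩
    refine MonoidHom.ext fun y => ?_
    simp only [dualConj_apply, MonoidHom.div_apply, Subgroup.coe_mul, Subgroup.coe_inv, inv_inv,
      map_mul, MulAut.mul_apply]
    simp
  | one => exact (show dualConj P (g : G) 1 = 1 from MonoidHom.ext fun y => by simp [dualConj_apply]) ▸ one_mem _
  | mul x y _ _ hx hy =>
    exact (show dualConj P (g : G) (x * y) = dualConj P (g : G) x * dualConj P (g : G) y from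
      MonoidHom.ext fun z => by simp [dualConj_apply]) ▸ mul_mem hx hy
  | inv x _ hx =>
    exact (show dualConj P (g : G) x⁻¹ = (dualConj P (g : G) x)⁻¹ from
      MonoidHom.ext fun z => by simp [dualConj_apply]) ▸ inv_mem hx

include hz in
/-- The pairing. -/
theorem exists_pairing {p : ℕ} [hp : Fact p.Prime] (hPp : IsPGroup p P) (hNP : N ≤ P)
    (hlin : ∀ (μ : ↥P →* ℂˣ) (n : N), μ (Subgroup.inclusion hNP n) = 1)
    (hQN : ∀ a ∈ Q, ∀ n ∈ N, ((a : L) : G) * n = n * a) (hQp : ¬ p ∣ Nat.card Q)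
    (hrad : ∀ v : ↥N →* ℂˣ, v ≠ 1 → ∀ x : P, (∀ y : P, v (cm hd x y) = 1) →
      ∀ a ∈ Q, ∀ μ : ↥P →* ℂˣ, dualConj P (a : G) μ x = μ x)
    (v₀ : ↥N →* ℂˣ) (hv₀ : v₀ ≠ 1) :
    ∃ c : movedChars (P := P) L Q → movedChars (P := P) L Q → N,
      (∀ a b d, c a (b * d) = c a b * c a d) ∧ (∀ a b d, c (a * b) d = c a d * c b d) ∧
      (∀ a, c a a = 1) ∧ (∀ a, a ≠ 1 → ∀ n : N, ∃ b, c a b = n) ∧
      (∀ g : L, dualConj N (g : G) v₀ = v₀ → ∀ a b : movedChars (P := P) L Q,
        dualConj P (g : G) a = a → dualConj P (g : G) b = b → MulAut.conjNormal (g : G) (c a b) = c a b) ∧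
      ∀ a : movedChars (P := P) L Q, ((a : ↥P →* ℂˣ)) ^ p = 1 ∨ ∃ n ∈ N, n ^ p ≠ 1 := by
  classical
  haveI := finite_linear (P : Type u)
  haveI := Fintype.ofFinite P
  haveI := Fintype.ofFinite N
  set M₁ := movedChars (P := P) L Q with hM₁
  -- the subgroup killed by the moved characters
  let P₀ : Subgroup P := ⨅ m : M₁, (m : ↥P →* ℂˣ).ker
  have hP₀ : ∀ x : P, x ∈ P₀ ↔ ∀ m ∈ M₁, m x = 1 := fun x =>
    ⟨fun h m hm => Subgroup.mem_iInf.1 h ⟨m, hm⟩, fun h => Subgroup.mem_iInf.2 fun m => h m m.2⟩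
  have hNP₀ : ∀ n : N, Subgroup.inclusion hNP n ∈ P₀ := fun n => (hP₀ _).2 fun m _ => hlin m n
  have hnorm : ∀ H : Subgroup P, (∀ n : N, Subgroup.inclusion hNP n ∈ H) → H.Normal := fun H hH =>
    ⟨fun x hx g => by
      have e : g * x * g⁻¹ = Subgroup.inclusion hNP (cm hd g x) * x := Subtype.ext (by
        show (g : G) * x * (g : G)⁻¹ = ⁅(g : G), (x : G)⁆ * x
        rw [commutatorElement_def]; group)
      rw [e]; exact H.mul_mem (hH _) hx⟩
  haveI hP₀n : P₀.Normal := hnorm _ hNP₀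
  -- the commutators with Q
  let U : Subgroup P := Subgroup.closure (Set.range (Subgroup.inclusion hNP) ∪
    {x | ∃ a ∈ Q, ∃ y : P, x = y⁻¹ * MulAut.conjNormal ((a : L) : G) y})
  have hUN : ∀ n : N, Subgroup.inclusion hNP n ∈ U := fun n => Subgroup.subset_closure (Or.inl ⟨n, rfl⟩)
  have hcmN : ∀ (y : P) (n : N), cm hd y (Subgroup.inclusion hNP n) = 1 := fun y n => Subtype.ext
    (commutatorElement_eq_one_iff_mul_comm.2 (hz n n.2 y y.2).symm)
  have hcomm : ∀ {x y : P}, cm hd x y = 1 ↔ x * y = y * x := fun {x y} => by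
    rw [Subtype.ext_iff, Subtype.ext_iff]
    exact commutatorElement_eq_one_iff_mul_comm
  have hfixN : ∀ a ∈ Q, ∀ n : N, MulAut.conjNormal ((a : L) : G) n = n := fun a ha n => Subtype.ext (by
    rw [MulAut.conjNormal_apply, hQN a ha n n.2, mul_inv_cancel_right])
  have hUP₀c : U ≤ Subgroup.centralizer (P₀ : Set P) := by
    rw [Subgroup.closure_le]
    rintro x (⟨n, rfl⟩ | ⟨a, ha, y, rfl⟩) <;> refine Subgroup.mem_centralizer_iff.2 fun c hc => ?_
    · exact Subtype.ext (hz n n.2 c c.2).symm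
    · refine (hcomm.1 ?_).symm
      set c' := MulAut.conjNormal ((a : L) : G)⁻¹ c with hc'
      have hkill : ∀ μ : ↥P →* ℂˣ, μ (c⁻¹ * c') = 1 := fun μ => by
        have h1 : (dualConj P ((a : L) : G) μ / μ) c = 1 :=
          (hP₀ c).1 hc _ (Subgroup.subset_closure ⟨a, ha, μ, rfl⟩)
        rw [MonoidHom.div_apply, div_eq_one, dualConj_apply, ← hc'] at h1
        rw [map_mul, map_inv, h1, inv_mul_cancel]
      have hmemN : ((c⁻¹ * c' : P) : G) ∈ N := by
        by_contra hnot
        haveI : (N.subgroupOf P).Normal := Subgroup.Normal.comap hNn _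
        letI : CommGroup (P ⧸ N.subgroupOf P) :=
          { (inferInstance : Group (P ⧸ N.subgroupOf P)) with
            mul_comm := fun a b => by
              obtain ⟨x, rfl⟩ := QuotientGroup.mk_surjective a
              obtain ⟨z, rfl⟩ := QuotientGroup.mk_surjective b
              rw [← QuotientGroup.mk_mul, ← QuotientGroup.mk_mul, QuotientGroup.eq]
              have := hd _ (P.inv_mem z.2) _ (P.inv_mem x.2)
              simpa [Subgroup.mem_subgroupOf, commutatorElement_def, mul_assoc] using this }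
        have hne : (QuotientGroup.mk (c⁻¹ * c') : P ⧸ N.subgroupOf P) ≠ 1 := fun e =>
          hnot (Subgroup.mem_subgroupOf.1 ((QuotientGroup.eq_one_iff (c⁻¹ * c')).1 e))
        obtain ⟨w, hw⟩ := CommGroup.exists_apply_ne_one_of_hasEnoughRootsOfUnity (P ⧸ N.subgroupOf P) ℂ hne
        exact hw (hkill (w.comp (QuotientGroup.mk' _)))
      have e1 : c' = c * Subgroup.inclusion hNP ⟨_, hmemN⟩ := Subtype.ext (by
        show (c' : G) = (c : G) * ((c⁻¹ * c' : P) : G)
        simp)
      have e2 : cm hd (MulAut.conjNormal ((a : L) : G) y) c = cm hd y c := by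
        have h := cm_conj hd ((a : L) : G) y c'
        rw [hc', ← MulAut.mul_apply, ← map_mul, mul_inv_cancel, map_one, MulAut.one_apply, hfixN a ha] at h
        rw [h, ← hc', e1, cm_mul_right hd hz, hcmN, mul_one]
      have e3 : cm hd y⁻¹ c * cm hd y c = 1 := by
        rw [← cm_mul_left hd hz, inv_mul_cancel, hcomm]; rw [one_mul, mul_one]
      rw [cm_mul_left hd hz, e2, e3]
  have hUP₀ : ∀ u ∈ U, ∀ c ∈ P₀, cm hd u c = 1 ∧ cm hd c u = 1 := fun u hu c hc =>
    ⟨hcomm.2 (Subgroup.mem_centralizer_iff.1 (hUP₀c hu) c hc).symm,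
      hcomm.2 (Subgroup.mem_centralizer_iff.1 (hUP₀c hu) c hc)⟩
  -- P = U P₀
  have hsup : U ⊔ P₀ = ⊤ := by
    haveI := hnorm (U ⊔ P₀) fun n => Subgroup.mem_sup_right (hNP₀ n)
    refine eq_top_iff.2 fun y _ => ?_
    haveI := Fintype.ofFinite Q
    set z : P := ((Finset.univ : Finset Q).toList.map fun a : Q => MulAut.conjNormal ((Subtype.val a : L) : G) y).prod
    have hzP₀ : z ∈ P₀ := by
      refine (hP₀ z).2 fun m hm => ?_
      induction hm using Subgroup.closure_induction with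
      | mem x hx =>
        obtain ⟨b, hb, μ, rfl⟩ := hx
        rw [MonoidHom.div_apply, div_eq_one, dualConj_apply]
        simp only [z, map_list_prod, List.map_map, Finset.prod_map_toList]
        refine Fintype.prod_equiv (Equiv.mulLeft (⟨b, hb⟩ : Q)⁻¹) _ _ fun a => ?_
        show μ (MulAut.conjNormal ((b : L) : G)⁻¹ (MulAut.conjNormal ((a : L) : G) y)) = _
        rw [← MulAut.mul_apply, ← map_mul]
        rfl
      | one => rfl
      | mul x x' _ _ hx hx' => rw [MonoidHom.mul_apply, hx, hx', one_mul]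
      | inv x _ hx => rw [MonoidHom.inv_apply, hx, inv_one]
    set π := QuotientGroup.mk' (U ⊔ P₀)
    have hπz : π z = π y ^ Nat.card Q := by
      rw [map_list_prod, List.map_map, List.prod_eq_pow_card _ (π y) (fun x hx => ?_), List.length_map,
        Finset.length_toList, Finset.card_univ, Nat.card_eq_fintype_card]
      obtain ⟨a, -, rfl⟩ := List.mem_map.1 hx
      show π (MulAut.conjNormal ((Subtype.val a : L) : G) y) = π y
      rw [eq_comm]
      exact QuotientGroup.eq.2 (Subgroup.mem_sup_left (Subgroup.subset_closure (Or.inr ⟨a, a.2, y, rfl⟩)))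
    rw [QuotientGroup.mk'_apply, (QuotientGroup.eq_one_iff z).2 (Subgroup.mem_sup_right hzP₀)] at hπz
    obtain ⟨k, hk⟩ := IsPGroup.iff_orderOf.1 hPp y
    have h1 : orderOf (π y) ∣ p ^ k := hk ▸ orderOf_map_dvd π y
    have h2 := orderOf_dvd_of_pow_eq_one hπz.symm
    exact (QuotientGroup.eq_one_iff y).1 (orderOf_eq_one_iff.1 (Nat.Coprime.eq_one_of_dvd
      (Nat.Coprime.coprime_dvd_left h1 (Nat.Coprime.pow_left k ((hp.out.coprime_iff_not_dvd).2 hQp))) h2))
  -- the annihilator of P₀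
  have hann : ∀ μ : ↥P →* ℂˣ, (∀ x ∈ P₀, μ x = 1) → μ ∈ M₁ := by
    intro μ hμ
    let A : Subgroup (↥P →* ℂˣ) :=
      { carrier := {ν | ∀ x ∈ P₀, ν x = 1}
        mul_mem' := fun ha hb x hx => by rw [MonoidHom.mul_apply, ha x hx, hb x hx, one_mul]
        one_mem' := fun _ _ => rfl
        inv_mem' := fun ha x hx => by rw [MonoidHom.inv_apply, ha x hx, inv_one] }
    have hle : M₁ ≤ A := fun m hm x hx => (hP₀ x).1 hx m hm
    letI : CommGroup (P ⧸ P₀) :=
      { (inferInstance : Group (P ⧸ P₀)) with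
        mul_comm := fun a b => by
          obtain ⟨x, rfl⟩ := QuotientGroup.mk_surjective a
          obtain ⟨z, rfl⟩ := QuotientGroup.mk_surjective b
          rw [← QuotientGroup.mk_mul, ← QuotientGroup.mk_mul, QuotientGroup.eq]
          have h := hNP₀ (cm hd z⁻¹ x⁻¹)
          rwa [show Subgroup.inclusion hNP (cm hd z⁻¹ x⁻¹) = (x * z)⁻¹ * (z * x) from Subtype.ext (by
            show ⁅((z⁻¹ : P) : G), ((x⁻¹ : P) : G)⁆ = (((x * z)⁻¹ * (z * x) : P) : G)
            simp [commutatorElement_def, mul_assoc])] at h }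
    have h1 : Nat.card A ≤ P₀.index := by
      rw [Subgroup.index_eq_card, ← CommGroup.card_monoidHom_of_hasEnoughRootsOfUnity (P ⧸ P₀) ℂ]
      haveI : Finite (P ⧸ P₀ →* ℂˣ) := Nat.finite_of_card_ne_zero (by
        rw [CommGroup.card_monoidHom_of_hasEnoughRootsOfUnity]; exact Nat.card_pos.ne')
      refine Nat.card_le_card_of_injective (fun ν : A => QuotientGroup.lift P₀ (ν : ↥P →* ℂˣ) fun x hx => ν.2 x hx) ?_
      intro ν ν' e
      exact Subtype.ext (MonoidHom.ext fun x => DFunLike.congr_fun e (x : P ⧸ P₀))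
    have h2 : P₀.index ≤ Nat.card M₁ := by
      let ev : P →* (↥M₁ →* ℂˣ) := MonoidHom.mk'
        (fun x => MonoidHom.mk' (fun m : M₁ => (m : ↥P →* ℂˣ) x) fun a b => rfl)
        fun a b => MonoidHom.ext fun m => map_mul (m : ↥P →* ℂˣ) a b
      haveI : Finite (↥M₁ →* ℂˣ) := finite_linear _
      have hk : ev.ker = P₀ := by
        ext x
        rw [MonoidHom.mem_ker, hP₀]
        exact ⟨fun h m hm => DFunLike.congr_fun h ⟨m, hm⟩, fun h => MonoidHom.ext fun m => h m m.2⟩
      rw [← hk, Subgroup.index_ker, ← CommGroup.card_monoidHom_of_hasEnoughRootsOfUnity M₁ ℂ]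
      exact Subgroup.card_le_card_group _
    have : M₁ = A := Subgroup.eq_of_le_of_card_ge hle (h1.trans h2)
    exact this ▸ (hμ : μ ∈ A)
  have hradU : ∀ {v : ↥N →* ℂˣ}, v ≠ 1 → ∀ u : P, (∀ y, v (cm hd u y) = 1) → u ∈ P₀ := by
    intro v hv u hu
    refine (hP₀ u).2 fun m hm => ?_
    induction hm using Subgroup.closure_induction with
    | mem x hx =>
      obtain ⟨a, ha, μ, rfl⟩ := hx
      rw [MonoidHom.div_apply, hrad v hv u hu a ha μ, div_self']
    | one => rfl
    | mul x x' _ _ hx hx' => rw [MonoidHom.mul_apply, hx, hx', one_mul]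
    | inv x _ hx => rw [MonoidHom.inv_apply, hx, inv_one]
  -- the map to M₁
  set B := bMap hd hz v₀ with hB
  have hBmem : ∀ u ∈ U, B u ∈ M₁ := fun u hu => hann _ fun x hx => by
    show v₀ (cm hd u x) = 1
    rw [(hUP₀ u hu x hx).1, map_one]
  have hBker : ∀ u ∈ U, B u = 1 ↔ u ∈ P₀ := by
    intro u hu
    refine ⟨fun h => hradU hv₀ u fun y => DFunLike.congr_fun h y, fun h => ?_⟩
    refine MonoidHom.ext fun y => ?_
    obtain ⟨w, hw, c, hc, rfl⟩ := Subgroup.mem_sup_of_normal_right.1 (hsup.ge (Subgroup.mem_top y))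
    show v₀ (cm hd u (w * c)) = 1
    rw [cm_mul_right hd hz, (hUP₀ w hw u h).2, (hUP₀ u hu c hc).1, one_mul, map_one]
  have hBsurj : ∀ m : M₁, ∃ u, u ∈ U ∧ B u = (m : ↥P →* ℂˣ) := by
    have hle : U.map B ≤ M₁ := by rintro _ ⟨u, hu, rfl⟩; exact hBmem u hu
    have h1 : Nat.card (U.map B) = P₀.index := by
      rw [← Subgroup.relIndex_ker, ← Subgroup.inf_relIndex_right,
        show B.ker ⊓ U = P₀ ⊓ U from le_antisymm (fun u hu => ⟨(hBker u hu.2).1 hu.1, hu.2⟩)
          (fun u hu => ⟨(hBker u hu.2).2 hu.1, hu.2⟩), Subgroup.inf_relIndex_right,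
        ← Subgroup.relIndex_sup_right, hsup, Subgroup.relIndex_top_right]
    have h2 : Nat.card M₁ ≤ P₀.index := by
      haveI : Finite (P ⧸ P₀) := inferInstance
      letI : CommGroup (P ⧸ P₀) :=
        { (inferInstance : Group (P ⧸ P₀)) with
          mul_comm := fun a b => by
            obtain ⟨x, rfl⟩ := QuotientGroup.mk_surjective a
            obtain ⟨z, rfl⟩ := QuotientGroup.mk_surjective b
            rw [← QuotientGroup.mk_mul, ← QuotientGroup.mk_mul, QuotientGroup.eq]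
            have h := hNP₀ (cm hd z⁻¹ x⁻¹)
            rwa [show Subgroup.inclusion hNP (cm hd z⁻¹ x⁻¹) = (x * z)⁻¹ * (z * x) from Subtype.ext (by
              show ⁅((z⁻¹ : P) : G), ((x⁻¹ : P) : G)⁆ = (((x * z)⁻¹ * (z * x) : P) : G)
              simp [commutatorElement_def, mul_assoc])] at h }
      haveI : Finite (P ⧸ P₀ →* ℂˣ) := finite_linear _
      rw [Subgroup.index_eq_card, ← CommGroup.card_monoidHom_of_hasEnoughRootsOfUnity (P ⧸ P₀) ℂ]
      refine Nat.card_le_card_of_injective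
        (fun ν : M₁ => QuotientGroup.lift P₀ (ν : ↥P →* ℂˣ) fun x hx => (hP₀ x).1 hx _ ν.2) ?_
      intro ν ν' e
      exact Subtype.ext (MonoidHom.ext fun x => DFunLike.congr_fun e (x : P ⧸ P₀))
    have h3 := Subgroup.eq_of_le_of_card_ge hle (h2.trans h1.ge)
    exact fun m => (h3.ge m.2 : (m : ↥P →* ℂˣ) ∈ U.map B)
  choose rep hrepU hrepB using hBsurj
  have hwd : ∀ u ∈ U, ∀ m : M₁, B u = (m : ↥P →* ℂˣ) → ∃ c ∈ P₀, c ∈ U ∧ u = rep m * c := fun u hu m hm =>
    ⟨(rep m)⁻¹ * u, (hBker _ (U.mul_mem (U.inv_mem (hrepU m)) hu)).1 (by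
      rw [map_mul, map_inv, hrepB, hm, inv_mul_cancel]), U.mul_mem (U.inv_mem (hrepU m)) hu,
      (mul_inv_cancel_left _ _).symm⟩
  refine ⟨fun a b => cm hd (rep a) (rep b), fun a b d => ?_, fun a b d => ?_, fun a => cm_self hd _,
    fun a ha n => ?_, fun g hg a b hga hgb => ?_, fun a => ?_⟩
  · obtain ⟨c, hc, -, e⟩ := hwd (rep b * rep d) (U.mul_mem (hrepU b) (hrepU d)) (b * d)
      (by rw [map_mul, hrepB, hrepB]; rfl)
    show cm hd (rep a) (rep (b * d)) = _
    rw [← cm_mul_right hd hz, e, cm_mul_right hd hz, (hUP₀ _ (hrepU a) c hc).1, mul_one]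
  · obtain ⟨c, hc, -, e⟩ := hwd (rep a * rep b) (U.mul_mem (hrepU a) (hrepU b)) (a * b)
      (by rw [map_mul, hrepB, hrepB]; rfl)
    show cm hd (rep (a * b)) (rep d) = _
    rw [← cm_mul_left hd hz, e, cm_mul_left hd hz, (hUP₀ _ (hrepU d) c hc).2, mul_one]
  · -- surjectivity
    letI : CommGroup N := { (inferInstance : Group N) with
      mul_comm := fun x y => Subtype.ext (hz x x.2 y (hNP y.2)) }
    let R : Subgroup N :=
      { carrier := Set.range fun b => cm hd (rep a) (rep b)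
        mul_mem' := by
          rintro _ _ ⟨b, rfl⟩ ⟨d, rfl⟩
          refine ⟨b * d, ?_⟩
          obtain ⟨c, hc, -, e⟩ := hwd (rep b * rep d) (U.mul_mem (hrepU b) (hrepU d)) (b * d)
            (by rw [map_mul, hrepB, hrepB]; rfl)
          show cm hd (rep a) (rep (b * d)) = _
          rw [← cm_mul_right hd hz, e, cm_mul_right hd hz, (hUP₀ _ (hrepU a) c hc).1, mul_one]
        one_mem' := ⟨a, cm_self hd _⟩
        inv_mem' := by
          rintro _ ⟨b, rfl⟩
          refine ⟨b⁻¹, eq_inv_of_mul_eq_one_left ?_⟩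
          show cm hd (rep a) (rep b⁻¹) * cm hd (rep a) (rep b) = 1
          obtain ⟨c, hc, -, e⟩ := hwd (rep b⁻¹ * rep b) (U.mul_mem (hrepU _) (hrepU b)) 1
            (by rw [map_mul, hrepB, hrepB]; exact inv_mul_cancel _)
          rw [← cm_mul_right hd hz, e, cm_mul_right hd hz, (hUP₀ _ (hrepU a) c hc).1, mul_one]
          have h1 : rep 1 ∈ P₀ := (hBker _ (hrepU 1)).1 (by rw [hrepB]; rfl)
          exact (hUP₀ _ (hrepU a) _ h1).1 }
    by_contra hn
    obtain ⟨v, hvR, hvn⟩ : ∃ v : ↥N →* ℂˣ, (∀ y ∈ R, v y = 1) ∧ v n ≠ 1 := by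
      have := (CommGroup.forall_monoidHom_apply_eq_one_iff (G := ↥N) (M := ℂ) R n).not.2 hn
      push Not at this
      exact this
    have hrepP₀ : rep a ∈ P₀ := hradU (v := v) (fun e => hvn (by rw [e]; rfl)) (rep a) fun y => by
      obtain ⟨w, hw, c, hc, rfl⟩ := Subgroup.mem_sup_of_normal_right.1 (hsup.ge (Subgroup.mem_top y))
      obtain ⟨c', hc', -, e⟩ := hwd w hw ⟨B w, hBmem w hw⟩ rfl
      rw [cm_mul_right hd hz, (hUP₀ _ (hrepU a) c hc).1, mul_one, e, cm_mul_right hd hz,
        (hUP₀ _ (hrepU a) c' hc').1, mul_one]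
      exact hvR _ ⟨⟨B w, hBmem w hw⟩, rfl⟩
    exact ha (Subtype.ext ((hrepB a).symm.trans ((hBker _ (hrepU a)).2 hrepP₀)))
  · -- equivariance
    have key : ∀ m : M₁, dualConj P (g : G) (m : ↥P →* ℂˣ) = m →
        ∃ c ∈ P₀, c ∈ U ∧ MulAut.conjNormal (g : G) (rep m) = rep m * c := by
      intro m hm
      refine hwd _ ?_ m ?_
      · have hUg : ∀ u ∈ U, MulAut.conjNormal (g : G) u ∈ U := by
          intro u hu
          induction hu using Subgroup.closure_induction with
          | mem x hx =>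
            rcases hx with ⟨n, rfl⟩ | ⟨a', ha', y, rfl⟩
            · refine Subgroup.subset_closure (Or.inl ⟨MulAut.conjNormal (g : G) n, Subtype.ext ?_⟩)
              show ((MulAut.conjNormal (g : G) n : N) : G) = _
              rw [MulAut.conjNormal_apply, MulAut.conjNormal_apply]; rfl
            · refine Subgroup.subset_closure (Or.inr ⟨g * a' * g⁻¹, hQn.conj_mem a' ha' g,
                MulAut.conjNormal (g : G) y, ?_⟩)
              rw [map_mul, map_inv, ← MulAut.mul_apply, ← MulAut.mul_apply, ← map_mul, ← map_mul]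
              simp [mul_assoc]
          | one => rw [map_one]; exact U.one_mem
          | mul x x' _ _ hx hx' => rw [map_mul]; exact U.mul_mem hx hx'
          | inv x _ hx => rw [map_inv]; exact U.inv_mem hx
        exact hUg _ (hrepU m)
      · refine MonoidHom.ext fun y => ?_
        show v₀ (cm hd (MulAut.conjNormal (g : G) (rep m)) y) = (m : ↥P →* ℂˣ) y
        have hy : y = MulAut.conjNormal (g : G) (MulAut.conjNormal (g : G)⁻¹ y) := by
          rw [← MulAut.mul_apply, ← map_mul, mul_inv_cancel, map_one, MulAut.one_apply]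
        nth_rewrite 1 [hy]
        rw [cm_conj hd]
        have h1 : ∀ n : N, v₀ (MulAut.conjNormal (g : G) n) = v₀ n := fun n => by
          have := DFunLike.congr_fun hg (MulAut.conjNormal (g : G) n)
          rw [dualConj_apply, ← MulAut.mul_apply, ← map_mul, inv_mul_cancel, map_one, MulAut.one_apply] at this
          exact this.symm
        rw [h1, show v₀ (cm hd (rep m) _) = B (rep m) (MulAut.conjNormal (g : G)⁻¹ y) from rfl, hrepB,
          ← dualConj_apply P, hm]
    obtain ⟨c, hc, hcU, ea⟩ := key a hga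
    obtain ⟨c', hc', -, eb⟩ := key b hgb
    show MulAut.conjNormal (g : G) (cm hd (rep a) (rep b)) = cm hd (rep a) (rep b)
    rw [← cm_conj hd, ea, eb, cm_mul_left hd hz,
      show cm hd c (rep b * c') = 1 by
        rw [cm_mul_right hd hz, (hUP₀ _ (hrepU b) c hc).2, one_mul]
        exact (hUP₀ _ hcU c' hc').1,
      mul_one, cm_mul_right hd hz, (hUP₀ _ (hrepU a) c' hc').1, mul_one]
  · by_cases h : ∃ n ∈ N, n ^ p ≠ 1
    · exact Or.inr h
    · push Not at h
      left
      rw [← hrepB a]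
      refine MonoidHom.ext fun y => ?_
      rw [MonoidHom.pow_apply]
      show v₀ (cm hd (rep a) y) ^ p = 1
      rw [← map_pow, show cm hd (rep a) y ^ p = 1 from Subtype.ext (h _ (cm hd (rep a) y).2), map_one]

end Cfsg.Agent.Char.Palfy
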